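import Groth.Agent.EtAcDepth.Strict
import Groth.Agent.StrictHens.SchemeBC
import Groth.Agent.EtaleSite.SH
import Groth.Agent.EtRestLib.LocallyConstant
import Groth.Agent.EtConsAb.GenericPush
import Groth.Prelude.Def_EtDepth

/-!
# Bounded local acyclicity, in terms of groups
-/

set_option autoImplicit false

universe u

open CategoryTheory CategoryTheory.Limits AlgebraicGeometry Opposite
open scoped TensorProduct

noncomputable section

namespace Groth.Agent.EtAcDepth

open Groth.Agent Groth.Agent.EtaleSite Groth.Agent.EtaleSite.ConstSections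

/-- The geometric fibres of `Spec S → Spec R` are acyclic for `ℤ/ℓ` up to degree `m`. -/
def Good (R S : Type u) [CommRing R] [CommRing S] [Algebra R S] (ℓ m : ℕ) : Prop :=
  ∀ (Ω : Type u) [Field Ω] [IsSepClosed Ω] [Algebra R Ω],
    (∀ q : ℕ, 1 ≤ q → q ≤ m → Subsingleton (EtCoh.H (Spec (CommRingCat.of (S ⊗[R] Ω)))
      (EtCoh.const (Spec (CommRingCat.of (S ⊗[R] Ω))) (ZMod ℓ)) q)) ∧
    Nonempty (EtCoh.H (Spec (CommRingCat.of (S ⊗[R] Ω)))
      (EtCoh.const (Spec (CommRingCat.of (S ⊗[R] Ω))) (ZMod ℓ)) 0 ≃+ ZMod ℓ)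

/-- Local acyclicity up to degree `m`. -/
def Acyc {X S : Scheme.{u}} (f : X ⟶ S) (ℓ m : ℕ) : Prop :=
  ∀ (x : X) (RS RX : Type u) [CommRing RS] [CommRing RX] [IsLocalRing RS] [IsLocalRing RX]
    [Algebra (S.presheaf.stalk (f.base x)) RS] [IsLocalHom (algebraMap (S.presheaf.stalk (f.base x)) RS)]
    [Hensel.IsStrictHenselization (S.presheaf.stalk (f.base x)) RS]
    [Algebra (X.presheaf.stalk x) RX] [IsLocalHom (algebraMap (X.presheaf.stalk x) RX)]
    [Hensel.IsStrictHenselization (X.presheaf.stalk x) RX]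
    [Algebra RS RX] [IsLocalHom (algebraMap RS RX)],
    (algebraMap RS RX).comp (algebraMap (S.presheaf.stalk (f.base x)) RS) =
      (algebraMap (X.presheaf.stalk x) RX).comp (f.stalkMap x).hom → Good RS RX ℓ m

section Local

variable (R : Type u) [CommRing R] [HenselianLocalRing R] [IsSepClosed (IsLocalRing.ResidueField R)]

theorem cst_top_bijective (M : AddCommGrpCat.{u + 1}) :
    Function.Bijective fun c : M => cst (EtCoh.top (Spec (CommRingCat.of R))) c := by
  refine (Function.Bijective.of_comp_iff' (bijective_germ_top R (cSheaf _ M)) _).1 ?_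
  exact ⟨fun a b h => germ_cst_injective _ _ _ h, EtConsAb.germ_cst_surjective _ _ _⟩

theorem nonempty_H0_const_equiv (M : Type) [AddCommGroup M] :
    Nonempty (EtCoh.H (Spec (CommRingCat.of R)) (EtCoh.const (Spec (CommRingCat.of R)) M) 0 ≃+ M) := by
  let T := EtCoh.top (Spec (CommRingCat.of R))
  let u : (AddCommGrpCat.of (ULift.{u + 1} M)) →+
      EtCoh.sect (cSheaf (Spec (CommRingCat.of R)) (AddCommGrpCat.of (ULift.{u + 1} M))) T :=
    AddMonoidHom.mk' (fun c => cst T c) fun a b => by simp [cst]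
  exact ⟨((Sheaf.H.equiv₀ _ (EtCore.topIsTerminal _)).trans
    (AddEquiv.ofBijective u (cst_top_bijective R _)).symm).trans AddEquiv.ulift⟩

end Local

theorem acyc_of_isLocAcyclicLE {X S : Scheme.{u}} {f : X ⟶ S} {ℓ m : ℕ}
    (hf : EtDepth.IsLocAcyclicLE f ℓ m) : Acyc f ℓ m := by
  intro x RS RX _ _ _ _ _ _ _ _ _ hX _ _ hc Ω _ _ _
  haveI := hX.henselian
  haveI := hX.isSepClosure.sep_closed
  have h := hf x RS RX hc Ω
  refine ⟨fun q h1 h2 => ?_, ?_⟩
  · have := subsingleton_H RX (EtCoh.const (Spec (CommRingCat.of RX)) (ZMod ℓ)) q h1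
    have hsurj := (h q h2).2
    refine (Equiv.subsingleton_congr ?_).1 hsurj.subsingleton
    exact ((EtCoh.HF _ q).mapIso (EtCore.pullConst _ (ZMod ℓ))).addCommGroupIsoToAddEquiv.toEquiv
  · obtain ⟨e⟩ := nonempty_H0_const_equiv RX (ZMod ℓ)
    exact ⟨((((EtCoh.HF _ 0).mapIso (EtCore.pullConst _ (ZMod ℓ))).addCommGroupIsoToAddEquiv.symm).trans
      (AddEquiv.ofBijective _ (h 0 (Nat.zero_le _))).symm).trans e⟩

theorem exists_alg {W X : Scheme.{u}} {g : W ⟶ X} (h : SHStable g) (z : W) (R : Type u) [CommRing R]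
    [IsLocalRing R] [Algebra (W.presheaf.stalk z) R] [IsLocalHom (algebraMap (W.presheaf.stalk z) R)]
    [Hensel.IsStrictHenselization (W.presheaf.stalk z) R] (s : X) (hs : g z = s) :
    ∃ (_ : Algebra (X.presheaf.stalk s) R) (_ : IsLocalHom (algebraMap (X.presheaf.stalk s) R)),
      Hensel.IsStrictHenselization (X.presheaf.stalk s) R ∧
        Hens2.specOf X s R = Hens2.specOf W z R ≫ g := by
  subst hs
  exact ⟨mapAlg g z R, isLocalHom_mapAlg g z R, h z R, specOf_mapAlg g z R⟩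

theorem specOf_comp_of_comm {X S : Scheme.{u}} (f : X ⟶ S) (x : X) (RS RX : Type u) [CommRing RS]
    [CommRing RX] [Algebra (S.presheaf.stalk (f.base x)) RS] [Algebra (X.presheaf.stalk x) RX]
    [Algebra RS RX]
    (hc : (algebraMap RS RX).comp (algebraMap (S.presheaf.stalk (f.base x)) RS) =
      (algebraMap (X.presheaf.stalk x) RX).comp (f.stalkMap x).hom) :
    Spec.map (CommRingCat.ofHom (algebraMap RS RX)) ≫ Hens2.specOf S (f.base x) RS =
      Hens2.specOf X x RX ≫ f := by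
  rw [Hens2.specOf, Hens2.specOf, ← Spec.map_comp_assoc, Category.assoc,
    ← Scheme.SpecMap_stalkMap_fromSpecStalk, ← Spec.map_comp_assoc, ← CommRingCat.ofHom_comp, hc]
  rfl

/-- Acyclicity passes to strict localisations and open subschemes. -/
theorem Acyc.of_square {X S X' S' : Scheme.{u}} {f : X ⟶ S} {ℓ m : ℕ} (hf : Acyc f ℓ m)
    (f' : X' ⟶ S') {g₁ : X' ⟶ X} {g₂ : S' ⟶ S} (h₁ : SHStable g₁) (h₂ : SHStable g₂)
    (w : f' ≫ g₂ = g₁ ≫ f) : Acyc f' ℓ m := by
  intro x' RS RX _ _ _ _ _ _ _ _ _ _ _ _ hc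
  have hs : g₂ (f'.base x') = f.base (g₁ x') := congrArg (fun k : X' ⟶ S => k x') w
  obtain ⟨algS, locS, hS, eS⟩ := exists_alg h₂ (f'.base x') RS _ hs
  obtain ⟨algX, locX, hX, eX⟩ := exists_alg h₁ x' RX _ rfl
  refine hf (g₁ x') RS RX ?_
  haveI : IsLocalHom ((algebraMap RS RX).comp (algebraMap (S.presheaf.stalk (f.base (g₁ x'))) RS)) :=
    RingHom.isLocalHom_comp _ _
  haveI : IsLocalHom ((algebraMap (X.presheaf.stalk (g₁ x')) RX).comp (f.stalkMap (g₁ x')).hom) :=
    RingHom.isLocalHom_comp _ _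
  have i1 : IsLocalHom (CommRingCat.ofHom ((algebraMap RS RX).comp
      (algebraMap (S.presheaf.stalk (f.base (g₁ x'))) RS))).hom := by
    rw [CommRingCat.hom_ofHom]; infer_instance
  have i2 : IsLocalHom (CommRingCat.ofHom ((algebraMap (X.presheaf.stalk (g₁ x')) RX).comp
      (f.stalkMap (g₁ x')).hom)).hom := by
    rw [CommRingCat.hom_ofHom]; infer_instance
  refine congrArg CommRingCat.Hom.hom (@StrictHens.SchemeBC.stalk_hom_ext _
    (CommRingCat.of RX) (inferInstanceAs (IsLocalRing RX)) (f.base (g₁ x'))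
    (CommRingCat.ofHom ((algebraMap RS RX).comp (algebraMap (S.presheaf.stalk (f.base (g₁ x'))) RS)))
    (CommRingCat.ofHom ((algebraMap (X.presheaf.stalk (g₁ x')) RX).comp (f.stalkMap (g₁ x')).hom)) i1 i2 ?_)
  let a₁ : S.presheaf.stalk (f.base (g₁ x')) ⟶ CommRingCat.of RS :=
    CommRingCat.ofHom (algebraMap (S.presheaf.stalk (f.base (g₁ x'))) RS)
  let a₂ : CommRingCat.of RS ⟶ CommRingCat.of RX := CommRingCat.ofHom (algebraMap RS RX)
  let b₂ : X.presheaf.stalk (g₁ x') ⟶ CommRingCat.of RX :=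
    CommRingCat.ofHom (algebraMap (X.presheaf.stalk (g₁ x')) RX)
  show Spec.map (a₁ ≫ a₂) ≫ _ = Spec.map (f.stalkMap (g₁ x') ≫ b₂) ≫ _
  rw [Spec.map_comp, Spec.map_comp, Category.assoc, Category.assoc,
    Scheme.SpecMap_stalkMap_fromSpecStalk]
  refine Eq.trans (congrArg (Spec.map a₂ ≫ ·) eS) ?_
  refine ((Category.assoc _ _ _).symm.trans
    (congrArg (· ≫ g₂) (specOf_comp_of_comm f' x' RS RX hc))).trans ?_
  refine ((Category.assoc _ _ _).trans (congrArg (Hens2.specOf X' x' RX ≫ ·) w)).trans ?_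
  exact (Category.assoc _ _ _).symm.trans ((congrArg (· ≫ f) eX.symm).trans (Category.assoc _ _ _))

/-- Values of a constant sheaf killed by a power of `ℓ` have the same behaviour as `ℤ/ℓ`. -/
theorem exists_pow_of_finite {ℓ : ℕ} (hℓ : ℓ.Prime) {M : Type*} [AddCommGroup M] [Finite M]
    (h : ∀ x : M, ∃ k : ℕ, ℓ ^ k • x = 0) : ∃ k : ℕ, ∀ x : M, ℓ ^ k • x = 0 := by
  classical
  cases nonempty_fintype M
  choose k hk using h
  refine ⟨Finset.univ.sup k, fun x => ?_⟩
  rw [← Nat.sub_add_cancel (Finset.le_sup (f := k) (Finset.mem_univ x)), pow_add, mul_smul, hk, smul_zero]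

end Groth.Agent.EtAcDepth
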