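import Groth.Agent.EtAcDepth.Torsionfree
import Groth.Agent.AlgSp.InfRing
import Groth.Agent.EtaleSite.PushImage
import Groth.Agent.EtConsAb.Embed

/-!
# Sheaves supported at the closed point
-/

set_option autoImplicit false
set_option backward.isDefEq.respectTransparency false
set_option linter.style.haveILetI false

universe u

open CategoryTheory CategoryTheory.Limits AlgebraicGeometry Opposite IsLocalRing

noncomputable section

namespace Groth.Agent.EtAcDepth

open Groth.Agent Groth.Agent.EtaleSite Groth.Agent.EtaleSite.ConstSections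

theorem isIso_unit_of_iso {X U : Scheme.{u}} (j : U ⟶ X) [IsOpenImmersion j] {F G : EtCoh.Ab X} (e : F ≅ G)
    (h : IsIso (EtDual.unitApp j F)) : IsIso (EtDual.unitApp j G) := by
  rw [EtDepthLib.isIso_unit_iff] at h ⊢
  exact ⟨h.1.of_iso ((EtDual.locCoh j 0).mapIso e.symm), h.2.of_iso ((EtDual.locCoh j 1).mapIso e.symm)⟩

theorem mono_unit_of_mono {X U : Scheme.{u}} (j : U ⟶ X) {F G : EtCoh.Ab X} (f : F ⟶ G) [Mono f]
    [Mono (EtDual.unitApp j G)] : Mono (EtDual.unitApp j F) := by
  haveI : Mono (EtDual.unitApp j F ≫ (EtCoh.pull j ⋙ EtCoh.push j).map f) := by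
    rw [show EtDual.unitApp j F ≫ (EtCoh.pull j ⋙ EtCoh.push j).map f = f ≫ EtDual.unitApp j G from
      ((EtCoh.pullPushAdj j).unit.naturality f).symm]
    infer_instance
  exact mono_of_mono (EtDual.unitApp j F) ((EtCoh.pull j ⋙ EtCoh.push j).map f)

/-- Direct images along integral morphisms preserve depth. -/
theorem depthGE_push {X U Z UZ : Scheme.{u}} (i : Z ⟶ X) [IsIntegralHom i] (j : U ⟶ X) [IsOpenImmersion j]
    (jZ : UZ ⟶ Z) [IsOpenImmersion jZ] (l : UZ ⟶ U) (w : jZ ≫ i = l ≫ j) :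
    ∀ (n : ℕ) (G : EtCoh.Ab Z), EtDepth.DepthGE jZ G n → EtDepth.DepthGE j ((EtCoh.push i).obj G) n
  | 0, G, _ => fun p hp => absurd hp (by omega)
  | n + 1, G, h => by
    have hm := (EtDepthLib.isZero_locCoh_zero_iff jZ G).1 (h 0 (by omega))
    let J := Injective.under ((EtCoh.pull jZ).obj G)
    let u : G ⟶ (EtCoh.push jZ).obj J :=
      EtDual.unitApp jZ G ≫ (EtCoh.push jZ).map (Injective.ι ((EtCoh.pull jZ).obj G))
    let S : ShortComplex (EtCoh.Ab Z) := ShortComplex.mk u (cokernel.π u) (cokernel.condition u)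
    haveI : Mono u := mono_comp _ _
    have hS : S.ShortExact :=
      { exact := ShortComplex.exact_of_g_is_cokernel _ (cokernelIsCokernel u)
        mono_f := ‹Mono u› }
    haveI : Injective S.X₂ := EtSupp.injective_push jZ J
    haveI : IsIso (EtDual.unitApp jZ S.X₂) := EtDepthLib.isIso_unit_push jZ J
    let e : (EtCoh.push j).obj ((EtCoh.push l).obj J) ≅ (EtCoh.push i).obj S.X₂ :=
      (EtCoh.pushComp j l).app J ≪≫ (EtCoh.pushCongr w.symm).app J ≪≫ ((EtCoh.pushComp i jZ).app J).symm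
    have hSi := hS.map_of_exact (EtCoh.push i)
    haveI : Injective (S.map (EtCoh.push i)).X₂ := EtSupp.injective_push i S.X₂
    haveI hiso : IsIso (EtDual.unitApp j (S.map (EtCoh.push i)).X₂) :=
      isIso_unit_of_iso j e (EtDepthLib.isIso_unit_push j _)
    haveI : Mono (S.map (EtCoh.push i)).f := hSi.mono_f
    exact (EtDepthLib.depthGE_succ_iff j hSi (mono_unit_of_mono j (S.map (EtCoh.push i)).f) n).2
      (depthGE_push i j jZ l w n S.X₃ ((EtDepthLib.depthGE_succ_iff jZ hS hm n).1 h))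

theorem isSepClosed_residueField_field (Ω : Type u) [Field Ω] [IsSepClosed Ω] :
    IsSepClosed (IsLocalRing.ResidueField Ω) := by
  let e : Ω ≃+* IsLocalRing.ResidueField Ω :=
    RingEquiv.ofBijective (IsLocalRing.residue Ω) ⟨(IsLocalRing.residue Ω).injective, IsLocalRing.residue_surjective⟩
  refine IsSepClosed.of_exists_root _ fun p hp hirr hsep => ?_
  obtain ⟨a, ha⟩ := IsSepClosed.exists_root (k := Ω) (p.map e.symm.toRingHom)
    (by rw [Polynomial.degree_map]; exact Polynomial.degree_ne_of_natDegree_ne (Nat.pos_iff_ne_zero.1 hirr.natDegree_pos))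
    hsep.map
  refine ⟨e a, ?_⟩
  have h := congrArg e.toRingHom ha
  rw [Polynomial.eval_map, Polynomial.hom_eval₂, map_zero] at h
  rw [show e.toRingHom.comp e.symm.toRingHom = RingHom.id _ from RingHom.ext e.apply_symm_apply] at h
  exact h

/-- Sheaves on the spectrum of a separably closed field are constant. -/
theorem exists_iso_const_field (Ω : Type u) [Field Ω] [IsSepClosed Ω]
    (G : EtCoh.Ab (Spec (CommRingCat.of Ω))) :
    Nonempty (G ≅ cSheaf (Spec (CommRingCat.of Ω)) (G.obj.obj (op (EtCoh.top (Spec (CommRingCat.of Ω)))))) := by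
  haveI := isSepClosed_residueField_field Ω
  let m := AddMonoidHom.id (G.obj.obj (op (EtCoh.top (Spec (CommRingCat.of Ω)))))
  have hm : EtConsAb.IsTriv G (EtCoh.top (Spec (CommRingCat.of Ω))) _ m := fun Ω' _ _ ξ' φ =>
    EtConsAb.mem_goodSet (y := φ.left (default : Spec (CommRingCat.of Ω'))) (φ := topPoint Ω)
      (Subsingleton.elim (α := Spec (CommRingCat.of Ω)) _ _) (bijective_germ_top Ω G) Ω' ξ' φ
      (congrArg φ.left (Subsingleton.elim (α := Spec (CommRingCat.of Ω')) _ _))
  exact EtRestLib.exists_iso_const Ω G _ (topPoint Ω) m hm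

variable (Z : Type u) [CommRing Z] [HenselianLocalRing Z] [IsSepClosed (ResidueField Z)]
  [IsNoetherianRing Z]

/-- Depth for `ℤ/ℓ` gives depth for constant `ℓ`-primary coefficients. -/
theorem depthGE_const_primary {ℓ : ℕ} (hℓ : ℓ.Prime) (q : ℕ)
    (h : EtDepth.DepthGE (FEt.puncturedSpec Z).ι (EtCoh.const (Spec (CommRingCat.of Z)) (ZMod ℓ)) q)
    (M : AddCommGrpCat.{u + 1}) (hM : ∀ x : M, ∃ k : ℕ, ℓ ^ k • x = 0) :
    EtDepth.DepthGE (FEt.puncturedSpec Z).ι (cSheaf (Spec (CommRingCat.of Z)) M) q := by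
  let j := (FEt.puncturedSpec Z).ι
  have hc := EtDepthLib.cond_of_depthGE j q _ h
  haveI : CompactSpace ↥(FEt.puncturedSpec Z).toScheme :=
    isCompact_iff_compactSpace.1 ((show TopologicalSpace.NoetherianSpace (Spec (CommRingCat.of Z)) from
      inferInstanceAs (TopologicalSpace.NoetherianSpace (PrimeSpectrum Z))).isCompact _)
  haveI : QuasiSeparatedSpace ↥(FEt.puncturedSpec Z).toScheme := quasiSeparatedSpace_of_quasiSeparated j
  have hsub : ∀ b, 1 ≤ b → b + 1 < q →
      Subsingleton (EtCoh.H (FEt.puncturedSpec Z).toScheme ((EtCoh.pull j).obj (cSheaf _ M)) b) := by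
    intro b h1 h2
    have := EtaleSite.subsingleton_H Z (EtCoh.const (Spec (CommRingCat.of Z)) (ZMod ℓ)) b h1
    have h3 := (hc.1 b h2).2.subsingleton
    have h4 : Subsingleton (EtCoh.H (FEt.puncturedSpec Z).toScheme (EtCoh.const _ (ZMod ℓ)) b) :=
      (((EtCoh.HF _ b).mapIso (EtCore.pullConst j (ZMod ℓ))).addCommGroupIsoToAddEquiv.toEquiv).subsingleton_congr.1 h3
    exact (((EtCoh.HF _ b).mapIso ((EtCore.pullConstIso j).app M)).addCommGroupIsoToAddEquiv.toEquiv).subsingleton_congr.2
      (subsingleton_H_const_primary hℓ b h4 M hM)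
  have hinj0 : 1 ≤ q → Function.Injective (EtCore.Hpull j (cSheaf (Spec (CommRingCat.of Z)) M) 0) := by
    intro hq
    have hne : Nonempty ↥(FEt.puncturedSpec Z).toScheme := by
      by_contra hW
      haveI : IsEmpty (EtCoh.top (FEt.puncturedSpec Z).toScheme).left := not_nonempty_iff.1 hW
      haveI := EtaleSite.sect_subsingleton_of_isEmpty
        ((EtCoh.pull j).obj (EtCoh.const (Spec (CommRingCat.of Z)) (ZMod ℓ))) (EtCoh.top _)
      haveI : Subsingleton (EtCoh.H _ ((EtCoh.pull j).obj (EtCoh.const (Spec (CommRingCat.of Z)) (ZMod ℓ))) 0) :=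
        (Sheaf.H.equiv₀ _ (EtCore.topIsTerminal _)).injective.subsingleton
      have hi : Function.Injective (EtCore.Hpull j (EtCoh.const (Spec (CommRingCat.of Z)) (ZMod ℓ)) 0) := by
        rcases Nat.lt_or_ge 1 q with hq' | hq'
        · exact (hc.1 0 (by omega)).1
        · exact hc.2 0 (by omega)
      obtain ⟨e⟩ := nonempty_H0_const_equiv Z (ZMod ℓ)
      haveI : Nontrivial (ZMod ℓ) := ZMod.nontrivial_iff.2 hℓ.ne_one
      exact not_subsingleton (ZMod ℓ) ((hi.comp e.symm.injective).subsingleton)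
    refine EtDepthLib.Hpull_zero_injective_of_mono j _ (mono_unit_const j (fun z => ?_) M)
    by_cases hz : z ∈ Set.range j.base
    · obtain ⟨p, rfl⟩ := hz
      exact ⟨p, specializes_rfl⟩
    · obtain ⟨p⟩ := hne
      refine ⟨p, ?_⟩
      have : z = closedPoint Z := by
        by_contra hne'
        exact hz (by rw [range_punct]; exact hne')
      rw [this]
      exact IsLocalRing.specializes_closedPoint _
  refine depthGE_of_cond Z q _ ⟨fun b hb => ?_, fun b hb => ?_⟩
  · rcases Nat.eq_zero_or_pos b with rfl | hb1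
    · obtain ⟨e⟩ := nonempty_H0_const_equiv Z (ZMod ℓ)
      let E : EtCoh.H (FEt.puncturedSpec Z).toScheme (EtCoh.const _ (ZMod ℓ)) 0 ≃+ ZMod ℓ :=
        ((((EtCoh.HF _ 0).mapIso (EtCore.pullConst j (ZMod ℓ))).addCommGroupIsoToAddEquiv.symm).trans
          (AddEquiv.ofBijective _ (hc.1 0 hb)).symm).trans e
      exact EtRestLib.Hpull_bijective_const j M (cst_top_bijective Z M)
        (EtRestLib.cst_bijective_of_equiv hℓ.one_lt E M)
    · haveI := EtaleSite.subsingleton_H Z (cSheaf (Spec (CommRingCat.of Z)) M) b hb1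
      haveI := hsub b hb1 hb
      exact ⟨fun x y _ => Subsingleton.elim x y, fun y => ⟨0, Subsingleton.elim _ _⟩⟩
  · rcases Nat.eq_zero_or_pos b with rfl | hb1
    · exact hinj0 (by omega)
    · haveI := EtaleSite.subsingleton_H Z (cSheaf (Spec (CommRingCat.of Z)) M) b hb1
      exact fun x y _ => Subsingleton.elim x y

end Groth.Agent.EtAcDepth
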