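import Groth.Agent.EtaleSite.AdjExt
import Groth.Agent.EtRestLib.LocallyConstant
import Groth.Agent.EtaleSite.HpullComp
import Groth.Agent.EtDescSS.Etale

/-!
# Low degree direct images and constant coefficients of `ℓ`-power order
-/

set_option autoImplicit false

universe w w' v v' u u'

open CategoryTheory CategoryTheory.Limits

namespace Groth.Agent.EtaleSite.AdjExt

variable {C : Type u} [Category.{v} C] [Abelian C] [EnoughInjectives C] [HasExt.{w} C]
  {D : Type u'} [Category.{v'} D] [Abelian D] [HasExt.{w'} D]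
  {L : D ⥤ C} [L.Additive] [PreservesFiniteLimits L] [PreservesFiniteColimits L]
  {R : C ⥤ D} [R.Additive] [PreservesFiniteLimits R]
  (adj : L ⊣ R)

/-- Vanishing of `R^q R F` for `1 ≤ q ≤ n` suffices in degree `n`. -/
theorem toExt_bijective_le (n : ℕ) : ∀ (A : D) (F : C),
    (∀ q : ℕ, 0 < q → q ≤ n → IsZero ((R.rightDerived q).obj F)) →
    Function.Bijective (toExt adj A F n) := by
  induction n with
  | zero =>
    intro A F _
    have h : toExt adj A F 0 = Abelian.Ext.mk₀ ∘ (adj.homEquiv A F).symm ∘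
        Abelian.Ext.homEquiv₀ := by
      funext e
      obtain ⟨f, rfl⟩ := Abelian.Ext.homEquiv₀.symm.surjective e
      simp only [Function.comp_apply, Equiv.apply_symm_apply, Adjunction.homEquiv_counit]
      simp [toExt, Abelian.Ext.mapExactFunctor_mk₀, Abelian.Ext.mk₀_comp_mk₀]
    rw [h]
    exact (Abelian.Ext.mk₀_bijective _ _).comp
      ((adj.homEquiv A F).symm.bijective.comp Abelian.Ext.homEquiv₀.bijective)
  | succ n ih =>
    intro A F hF
    let S : ShortComplex C := ShortComplex.mk (Injective.ι F) (cokernel.π _) (cokernel.condition _)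
    have hS : S.ShortExact :=
      { exact := ShortComplex.exact_cokernel _ }
    have hI : Injective S.X₂ := inferInstanceAs (Injective (Injective.under F))
    let les := RDerLES.derivedLES R
    have zI : ∀ q : ℕ, 0 < q → IsZero ((R.rightDerived q).obj S.X₂) := fun q hq => by
      obtain ⟨k, rfl⟩ : ∃ k, q = k + 1 := ⟨q - 1, by omega⟩
      exact Functor.isZero_rightDerived_obj_injective_succ R k _
    have zQ : ∀ q : ℕ, 0 < q → q ≤ n → IsZero ((R.rightDerived q).obj S.X₃) := fun q hq hqn =>
      (les.exact₃ S hS q (q + 1) rfl).isZero_of_both_zeros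
        ((zI q hq).eq_of_src _ _) ((hF (q + 1) (by omega) (by omega)).eq_of_tgt _ _)
    have hRS : (S.map R).ShortExact := by
      have := hS.mono_f
      have hex : (S.map R).Exact := hS.exact.map_of_mono_of_preservesKernel R hS.mono_f inferInstance
      have hm : Mono (R.map S.f) := R.map_mono S.f
      have he : Epi ((R.rightDerived 0).map S.g) :=
        (les.exact₃ S hS 0 1 rfl).epi_f ((hF 1 (by omega) (by omega)).eq_of_tgt _ _)
      have he' : Epi (R.map S.g) := by
        have hnat := (R.rightDerivedZeroIsoSelf).hom.naturality S.g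
        have : R.map S.g = (R.rightDerivedZeroIsoSelf).inv.app S.X₂ ≫ (R.rightDerived 0).map S.g ≫
            (R.rightDerivedZeroIsoSelf).hom.app S.X₃ := by
          simp [hnat]
        rw [this]
        infer_instance
      exact { exact := hex, mono_f := hm, epi_g := he' }
    have hRI : Injective (S.map R).X₂ := Injective.injective_of_adjoint adj S.X₂
    have ihI := ih A S.X₂ fun q hq _ => zI q hq
    have ihQ := ih A S.X₃ zQ
    constructor
    · rw [show toExt adj A F (n + 1) = AddMonoidHom.mk' (toExt adj A F (n + 1)) (fun a b => by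
        simp [toExt, Abelian.Ext.mapExactFunctor_add, Abelian.Ext.add_comp]) from rfl,
        injective_iff_map_eq_zero]
      intro e he
      obtain ⟨x, hx⟩ := Abelian.Ext.covariant_sequence_exact₁ A hRS e
        (Abelian.Ext.eq_zero_of_injective _) (rfl : n + 1 = n + 1)
      have h0 : (toExt adj A S.X₃ n x).comp hS.extClass rfl = 0 := by
        refine (toExt_comp_extClass adj hS hRS x).symm.trans ?_
        exact (congrArg (toExt adj A S.X₁ (n + 1)) hx).trans he
      obtain ⟨z, hz⟩ := Abelian.Ext.covariant_sequence_exact₃ (L.obj A) hS _ rfl h0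
      obtain ⟨z', rfl⟩ := ihI.2 z
      rw [← toExt_comp_mk₀] at hz
      obtain rfl := ihQ.1 hz
      rw [← hx]
      refine (Abelian.Ext.comp_assoc_of_second_deg_zero z' (Abelian.Ext.mk₀ (S.map R).g)
        hRS.extClass rfl).trans ?_
      refine (congrArg (fun z => Abelian.Ext.comp z' z rfl) hRS.comp_extClass).trans ?_
      exact Abelian.Ext.comp_zero _ _ _ _ _
    · intro y
      obtain ⟨x, hx⟩ := Abelian.Ext.covariant_sequence_exact₁ (L.obj A) hS y
        (Abelian.Ext.eq_zero_of_injective _) (rfl : n + 1 = n + 1)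
      obtain ⟨x', rfl⟩ := ihQ.2 x
      exact ⟨x'.comp hRS.extClass rfl, (toExt_comp_extClass adj hS hRS x').trans hx⟩

end Groth.Agent.EtaleSite.AdjExt

namespace Groth.Agent.EtAcDepth

open AlgebraicGeometry Groth.Agent Groth.Agent.EtaleSite Groth.Agent.EtaleSite.ConstSections

variable {W S : Scheme.{u}}

/-- `H^q(S, f_* G) ≅ H^q(W, G)` when the direct images vanish in degrees `1, …, q`. -/
theorem nonempty_H_push_equiv_le (f : W ⟶ S) (G : EtCoh.Ab W) (q : ℕ)
    (h : ∀ b : ℕ, 0 < b → b ≤ q → IsZero ((EtCoh.Rpush f b).obj G)) :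
    Nonempty (EtCoh.H S ((EtCoh.push f).obj G) q ≃+ EtCoh.H W G q) := by
  have hb := AdjExt.toExt_bijective_le (EtCoh.pullPushAdj f) q (EtCoh.const S ℤ) G h
  let φ : EtCoh.H S ((EtCoh.push f).obj G) q →+
      Abelian.Ext ((EtCoh.pull f).obj (EtCoh.const S ℤ)) G q :=
    AddMonoidHom.mk' (AdjExt.toExt (EtCoh.pullPushAdj f) (EtCoh.const S ℤ) G q) fun a b => by
      simp only [AdjExt.toExt, Abelian.Ext.mapExactFunctor_add, Abelian.Ext.add_comp]
  let ψ : Abelian.Ext ((EtCoh.pull f).obj (EtCoh.const S ℤ)) G q →+ EtCoh.H W G q :=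
    AddMonoidHom.mk' (fun x => (Abelian.Ext.mk₀ (EtCore.pullConst f ℤ).inv).comp x (zero_add q))
      fun a b => Abelian.Ext.comp_add _ _ _ _
  have hψ : Function.Bijective ψ := by
    refine Function.bijective_iff_has_inverse.2
      ⟨fun x => (Abelian.Ext.mk₀ (EtCore.pullConst f ℤ).hom).comp x (zero_add q), ?_, ?_⟩ <;>
    · intro x
      simp [ψ]
  exact ⟨(AddEquiv.ofBijective φ hb).trans (AddEquiv.ofBijective ψ hψ)⟩

/-- Constant sheaves with values in `ℓ`-primary torsion groups have no cohomology in degree `q`. -/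
theorem subsingleton_H_const_primary [CompactSpace W] [QuasiSeparatedSpace W] {ℓ : ℕ} (hℓ : ℓ.Prime)
    (q : ℕ) (h : Subsingleton (EtCoh.H W (EtCoh.const W (ZMod ℓ)) q)) (M : AddCommGrpCat.{u + 1})
    (hM : ∀ x : M, ∃ k : ℕ, ℓ ^ k • x = 0) : Subsingleton (EtCoh.H W (cSheaf W M) q) := by
  have hsteps : ∀ (k : ℕ) (M : AddCommGrpCat.{u + 1}), (∀ x : M, ℓ ^ k • x = 0) →
      Subsingleton (EtCoh.H W (cSheaf W M) q) := by
    intro k
    induction k with
    | zero =>
      intro M hM
      have hz : IsZero M := @AddCommGrpCat.isZero_of_subsingleton _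
        ⟨fun a b => by rw [← one_nsmul a, ← one_nsmul b, ← pow_zero ℓ, hM, hM]⟩
      exact AddCommGrpCat.subsingleton_of_isZero ((EtRestLib.HC W q).map_isZero hz)
    | succ k ih =>
      intro M hM
      let f : M →+ M := nsmulAddMonoidHom ℓ
      let S : ShortComplex AddCommGrpCat.{u + 1} :=
        ShortComplex.mk (AddCommGrpCat.ofHom f.ker.subtype) (AddCommGrpCat.ofHom f.rangeRestrict) (by
          ext ⟨x, hx⟩
          exact hx)
      have hS : S.ShortExact :=
        { exact := ShortComplex.ab_exact_iff S |>.2 fun x hx => ⟨⟨x, congrArg Subtype.val hx⟩, rfl⟩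
          mono_f := (AddCommGrpCat.mono_iff_injective _).2 Subtype.val_injective
          epi_g := (AddCommGrpCat.epi_iff_surjective _).2 f.rangeRestrict_surjective }
      haveI := (EtCore.constAdj W).leftAdjoint_preservesColimits
      haveI : PreservesFiniteLimits (constantSheaf W.smallEtaleTopology AddCommGrpCat.{u + 1}) := by
        unfold constantSheaf; infer_instance
      have hSW := hS.map_of_exact (constantSheaf W.smallEtaleTopology AddCommGrpCat.{u + 1})
      have h1 : Subsingleton (EtCoh.H W (cSheaf W (AddCommGrpCat.of f.ker)) q) := by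
        refine EtRestLib.subsingleton_H_const (P := fun n => n ∣ ℓ) q (fun n hn d hd => hd.trans hn)
          (fun h0 => hℓ.ne_zero (zero_dvd_iff.1 h0)) (fun n hn => ?_) _
          fun x => ⟨ℓ, dvd_rfl, Subtype.ext x.2⟩
        rcases (Nat.dvd_prime hℓ).1 hn with rfl | rfl
        · exact AddCommGrpCat.subsingleton_of_isZero ((EtRestLib.HC W q).map_isZero
            (@AddCommGrpCat.isZero_of_subsingleton (AddCommGrpCat.of (ULift.{u + 1} (ZMod 1)))
              (inferInstanceAs (Subsingleton (ULift (ZMod 1))))))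
        · exact h
      have h3 := ih (AddCommGrpCat.of f.range) fun ⟨_, y, rfl⟩ => Subtype.ext (by
        show ℓ ^ k • (ℓ • y) = 0
        rw [← mul_smul, ← pow_succ]
        exact hM y)
      refine subsingleton_of_forall_eq 0 fun x => ?_
      obtain ⟨y, rfl⟩ := Abelian.Ext.covariant_sequence_exact₂ _ hSW x (@Subsingleton.elim _ h3 _ _)
      rw [@Subsingleton.elim _ h1 y 0]
      exact Abelian.Ext.zero_comp ..
  refine EtRestLib.subsingleton_H_const (P := fun n => ∃ k, n = ℓ ^ k) q
    (fun n ⟨k, hk⟩ d hd => ?_) (fun ⟨k, hk⟩ => pow_ne_zero k hℓ.ne_zero hk.symm) (fun n ⟨k, hk⟩ => ?_) M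
    fun x => ?_
  · obtain ⟨i, -, hi⟩ := (Nat.dvd_prime_pow hℓ).1 (hk ▸ hd)
    exact ⟨i, hi⟩
  · subst hk
    exact hsteps k _ fun x => ULift.ext _ _ (by simp)
  · obtain ⟨k, hk⟩ := hM x
    exact ⟨ℓ ^ k, ⟨k, rfl⟩, hk⟩

end Groth.Agent.EtAcDepth
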