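import Groth.Agent.EtLimit.Nbhd
import Groth.Agent.EtSection.Profinite
import Groth.Agent.EtaleSite.SetSH
import Groth.Agent.Hens.IndEtale
import Mathlib.RingTheory.Etale.Field
import Mathlib.AlgebraicGeometry.Morphisms.Flat

/-!
# Fibres of a strict localisation over a separably closed point

They are disjoint sums of copies of the point, up to a profinite topology.
-/

set_option autoImplicit false

universe u

open CategoryTheory CategoryTheory.Limits AlgebraicGeometry Opposite
open scoped TensorProduct

noncomputable section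

namespace Groth.Agent.EtAcDepth

open Groth.Agent

section Ring

variable {Ω : Type u} [Field Ω] [IsSepClosed Ω] {B L : Type u} [CommRing B] [Algebra Ω B]
  [CommRing L] [IsLocalRing L] [Algebra Ω L]

theorem mem_range_of_etale {E : Type u} [CommRing E] [Algebra Ω E] [Algebra.Etale Ω E] (φ : E →ₐ[Ω] L)
    (x : E) : φ x ∈ (algebraMap Ω L).range := by
  classical
  obtain ⟨I, _, A, _, _, e, hA⟩ := (Algebra.Etale.iff_exists_algEquiv_prod Ω E).1 inferInstance
  haveI : Fintype I := Fintype.ofFinite I
  have hsum : ∑ i, φ (e.symm (Pi.single i 1)) = 1 := by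
    rw [← map_sum, ← map_sum, Finset.univ_sum_single (fun i => (1 : A i))]
    exact (congrArg φ (map_one e.symm)).trans (map_one φ)
  obtain ⟨i, -, hi⟩ : ∃ i ∈ Finset.univ, IsUnit (φ (e.symm (Pi.single i 1))) := by
    by_contra h
    push Not at h
    refine (IsLocalRing.maximalIdeal L).ne_top_iff_one.1 (IsLocalRing.maximalIdeal.isMaximal L).ne_top ?_
    rw [← hsum]
    exact Ideal.sum_mem _ fun i hi => h i hi
  haveI : Algebra.IsSeparable Ω (A i) := (hA i).2
  obtain ⟨c, hc⟩ := IsSepClosed.algebraMap_surjective Ω (A i) (e x i)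
  refine ⟨c, ?_⟩
  have he : x * e.symm (Pi.single i 1) = algebraMap Ω E c * e.symm (Pi.single i 1) := by
    apply e.injective
    rw [map_mul, map_mul, AlgEquiv.apply_symm_apply, AlgEquiv.commutes]
    refine funext fun j => ?_
    rcases eq_or_ne j i with rfl | hj
    · simp [hc]
    · simp [hj]
  refine hi.mul_right_cancel ?_
  rw [← AlgHom.commutes φ, ← map_mul, ← map_mul, he]

theorem surjective_localization (h : IndAlg.Fac (IndAlg.Etale.Et Ω) B) [Algebra B L]
    [IsScalarTower Ω B L] (b : Ideal B) [b.IsPrime] [IsLocalization.AtPrime L b] :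
    Function.Surjective (algebraMap Ω L) := by
  have hB : ∀ z : B, algebraMap B L z ∈ (algebraMap Ω L).range := fun z => by
    obtain ⟨E, _, _, hE, v, w, hw⟩ := h (Polynomial Ω) inferInstance (Polynomial.aeval z)
    haveI : Algebra.Etale Ω E := hE
    have hz : w (v Polynomial.X) = z :=
      (AlgHom.congr_fun hw Polynomial.X).trans (Polynomial.aeval_X z)
    rw [← hz]
    exact mem_range_of_etale ((IsScalarTower.toAlgHom Ω B L).comp w) _
  intro l
  obtain ⟨z, s, rfl⟩ := IsLocalization.exists_mk'_eq b.primeCompl l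
  obtain ⟨c, hc⟩ := hB z
  obtain ⟨d, hd⟩ := hB s
  have hu : IsUnit (algebraMap B L s) := IsLocalization.map_units L s
  have hd0 : d ≠ 0 := fun h0 => hu.ne_zero (by rw [← hd, h0, map_zero])
  refine ⟨c * d⁻¹, ?_⟩
  rw [IsLocalization.eq_mk'_iff_mul_eq, ← hd, ← map_mul, inv_mul_cancel_right₀ hd0, hc]

end Ring

/-- Every local ring is a separably closed field. -/
def IsPointSpace (P : Scheme.{u}) : Prop :=
  ∀ p : P, IsField (P.presheaf.stalk p) ∧ IsSepClosed (P.residueField p)

variable {P : Scheme.{u}}

theorem IsPointSpace.eq_of_specializes (h : IsPointSpace P) {x y : P} (hyx : y ⤳ x) : y = x := by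
  obtain ⟨q, rfl⟩ : y ∈ Set.range (P.fromSpecStalk x) := by
    rw [Scheme.range_fromSpecStalk]
    exact hyx
  haveI : Subsingleton (PrimeSpectrum (P.presheaf.stalk x)) := by
    letI := (h x).1.toField
    infer_instance
  rw [Subsingleton.elim (α := PrimeSpectrum (P.presheaf.stalk x)) q (IsLocalRing.closedPoint _)]
  exact P.fromSpecStalk_closedPoint

theorem IsPointSpace.isClosed_singleton (h : IsPointSpace P) (x : P) : IsClosed ({x} : Set P) := by
  rw [← closure_subset_iff_isClosed]
  intro y hy
  exact (h.eq_of_specializes (specializes_iff_mem_closure.2 hy)).symm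

theorem IsPointSpace.isSH (h : IsPointSpace P) (x : P) :
    EtCoh.IsStrictlyHenselianLocalRing (P.presheaf.stalk x) :=
  EtSection.isSH_stalk x (fun _ hy => h.eq_of_specializes hy) (h x).2

theorem IsPointSpace.flat (h : IsPointSpace P) {W : Scheme.{u}} (q : W ⟶ P) : Flat q :=
  Flat.of_stalkMap q fun w => by
    letI := (h (q w)).1.toField
    algebraize [(q.stalkMap w).hom]
    exact (inferInstance : Module.Flat (P.presheaf.stalk (q w)) (W.presheaf.stalk w))

theorem IsPointSpace.of_iso {P' : Scheme.{u}} (h : IsPointSpace P) (e : P' ≅ P) : IsPointSpace P' :=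
  fun p => ⟨MulEquiv.isField (h (e.hom p)).1
      (asIso (e.hom.stalkMap p)).commRingCatIsoToRingEquiv.symm.toMulEquiv,
    haveI : IsSepClosed (IsLocalRing.ResidueField (P.presheaf.stalk (e.hom p))) := (h (e.hom p)).2
    _root_.Groth.Agent.EtaleSite.SetSH.isSepClosed_of_equiv
      (IsLocalRing.ResidueField.mapEquiv (asIso (e.hom.stalkMap p)).commRingCatIsoToRingEquiv)⟩

theorem isPointSpace_spec {Ω B : Type u} [Field Ω] [IsSepClosed Ω] [CommRing B] [Algebra Ω B]
    (h : IndAlg.Fac (IndAlg.Etale.Et Ω) B) : IsPointSpace (Spec (CommRingCat.of B)) := by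
  intro p
  let L := (Spec (CommRingCat.of B)).presheaf.stalk p
  letI algB : Algebra B L := StructureSheaf.stalkAlgebra (R := B) p
  haveI : IsLocalization.AtPrime L p.asIdeal := StructureSheaf.IsLocalization.to_stalk B p
  letI algΩ : Algebra Ω L := ((algebraMap B L).comp (algebraMap Ω B)).toAlgebra
  haveI : IsScalarTower Ω B L := .of_algebraMap_eq fun _ => rfl
  have hs := surjective_localization (L := L) h p.asIdeal
  let e : Ω ≃+* L := RingEquiv.ofBijective (algebraMap Ω L) ⟨(algebraMap Ω L).injective, hs⟩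
  refine ⟨MulEquiv.isField (Field.toIsField Ω) e.symm.toMulEquiv, ?_⟩
  let e' : Ω ≃+* IsLocalRing.ResidueField L :=
    RingEquiv.ofBijective ((IsLocalRing.residue L).comp (algebraMap Ω L))
      ⟨RingHom.injective _, IsLocalRing.residue_surjective.comp hs⟩
  exact _root_.Groth.Agent.EtaleSite.SetSH.isSepClosed_of_equiv e'

end Groth.Agent.EtAcDepth
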