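import Groth.Agent.EtAcDepth.Fibre
import Groth.Agent.EtAcDepth.Leray
import Groth.Agent.EtAcDepth.PointSpace
import Groth.Agent.EtSubmersive.ShBC

/-!
# Direct image from a geometric fibre of a locally acyclic morphism
-/

set_option autoImplicit false
set_option backward.isDefEq.respectTransparency false

universe u

open CategoryTheory CategoryTheory.Limits AlgebraicGeometry Opposite IsLocalRing
open scoped TensorProduct

noncomputable section

namespace Groth.Agent.EtAcDepth

open Groth.Agent Groth.Agent.EtaleSite Groth.Agent.EtaleSite.ConstSections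
open Groth.Agent.StrictHens Groth.Agent.StrictHens.Basic

/-- A nonempty scheme without nonconstant sections of constant sheaves is connected. -/
theorem GoodScheme.connectedSpace {W : Scheme.{u}} {ℓ m : ℕ} (hℓ : ℓ.Prime) (h : GoodScheme W ℓ m) :
    ConnectedSpace W := by
  haveI := h.nonempty hℓ
  haveI : PreconnectedSpace W := preconnectedSpace_iff_clopen.2 fun Z hZ => by
    by_contra hne
    obtain ⟨⟨z, hz⟩, ⟨z', hz'⟩⟩ : Z.Nonempty ∧ Zᶜ.Nonempty := by
      push Not at hne
      exact ⟨hne.1, Set.nonempty_compl.2 hne.2⟩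
    let T := EtCoh.top W
    let M : AddCommGrpCat.{u + 1} := AddCommGrpCat.of (ULift.{u + 1} ℤ)
    let D : Bool → T.left.Opens := fun b => if b then ⟨Z, hZ.2⟩ else ⟨Zᶜ, hZ.1.isOpen_compl⟩
    let v : Bool → M := fun b => if b then ⟨1⟩ else ⟨0⟩
    obtain ⟨t, ht⟩ := exists_glue_disjoint (cSheaf W M) D
      (fun a b hab => by
        rw [disjoint_iff]
        refine TopologicalSpace.Opens.ext ?_
        cases a <;> cases b
        · exact absurd rfl hab
        · exact Set.compl_inter_self Z
        · exact Set.inter_compl_self Z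
        · exact absurd rfl hab)
      (fun x => (em (x ∈ Z)).elim (fun hx => ⟨true, hx⟩) fun hx => ⟨false, hx⟩)
      fun b => cst (piece T (D b)) (v b)
    obtain ⟨c, rfl⟩ := (h.cst_bijective hℓ M).2 t
    have h1 := cst_injective (W := piece T (D true)) ⟨z, hz⟩ ((map_cst _ c).symm.trans (ht true))
    have h0 := cst_injective (W := piece T (D false)) ⟨z', hz'⟩ ((map_cst _ c).symm.trans (ht false))
    exact one_ne_zero (congrArg ULift.down (h1.symm.trans h0) : (1 : ℤ) = 0)
  exact ⟨inferInstance⟩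

section Stalk

open Groth.Agent.EtLimit Groth.Agent.EtLimit.FHom Groth.Agent.EtSubmersive Groth.Agent.EtConsAb

variable {X S T Y : Scheme.{u}} (g : T ⟶ S) (f : X ⟶ S) (h : Y ⟶ X) (e : Y ⟶ T)
  (hsq : IsPullback e h g f) [QuasiCompact g] [QuasiSeparated g]

include hsq in
/-- The base change map on a strictly local stalk, from the pullback of sections. -/
theorem bijective_stalk_bc_of_pullSect (F : EtCoh.Ab T) {RS RX : Type u} [CommRing RS] [CommRing RX]
    [HenselianLocalRing RS] [HenselianLocalRing RX]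
    [IsSepClosed (IsLocalRing.ResidueField RS)] [IsSepClosed (IsLocalRing.ResidueField RX)]
    (σS : Spec (CommRingCat.of RS) ⟶ S) (σX : Spec (CommRingCat.of RX) ⟶ X)
    (PS : EtPres σS) (PX : EtPres σX) (ψ : RS →+* RX) [IsLocalHom ψ]
    (hψ : Spec.map (CommRingCat.ofHom ψ) ≫ σS = σX ≫ f)
    (q : pullback h σX ⟶ pullback g σS) (hq₁ : q ≫ pullback.fst g σS = pullback.fst h σX ≫ e)
    (hq₂ : q ≫ pullback.snd g σS = pullback.snd h σX ≫ Spec.map (CommRingCat.ofHom ψ))
    (hqb : Function.Bijective (pullSect q ((EtCoh.pull (pullback.fst g σS)).obj F)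
      (EtCoh.top (pullback g σS)))) :
    Function.Bijective ((EtCoh.stalk (overClosed (𝟙 _) ≫ σX)).map
      (EtCoh.baseChange0 g f h e hsq.w F)) := by
  let Ψ := Spec.map (CommRingCat.ofHom ψ)
  let ρ : Spec (CommRingCat.of (IsLocalRing.ResidueField RX)) ⟶
      Spec (CommRingCat.of (IsLocalRing.ResidueField RS)) :=
    Spec.map (CommRingCat.ofHom (IsLocalRing.ResidueField.map ψ))
  have hρ : overClosed ρ = overClosed (𝟙 _) ≫ Ψ := by
    refine Eq.trans ?_ (congrArg (· ≫ Ψ) (Category.id_comp (closedPt RX)).symm)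
    exact (Spec.map_comp _ _).symm.trans ((congrArg Spec.map (CommRingCat.hom_ext
      (RingHom.ext fun r => IsLocalRing.ResidueField.map_residue ψ r))).trans (Spec.map_comp _ _))
  let ξ := overClosed (𝟙 (Spec (CommRingCat.of (IsLocalRing.ResidueField RX)))) ≫ σX
  have hξ : ξ ≫ f = overClosed ρ ≫ σS :=
    (Category.assoc _ _ _).trans ((congrArg (overClosed (𝟙 _) ≫ ·) hψ.symm).trans
      ((Category.assoc _ _ _).symm.trans (congrArg (· ≫ σS) hρ.symm)))
  haveI : QuasiCompact h := MorphismProperty.of_isPullback hsq ‹_›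
  haveI : QuasiSeparated h := MorphismProperty.of_isPullback hsq ‹_›
  obtain ⟨ΦS, hΦS, hΦS', hrep⟩ := exists_stalkSect_of_eq ρ σS PS g F (ξ ≫ f) hξ
  obtain ⟨ΦX, hΦX, hΦX', -⟩ := exists_stalkSect_of_eq (𝟙 _) σX PX h ((EtCoh.pull e).obj F) ξ rfl
  refine bijective_of_units (pullback.fst h σX) e (pullback.fst g σS) q hq₁ F hqb
    ((stalkPullIso f ξ).inv.app ((EtCoh.push g).obj F))
    ((EtCoh.stalk ξ).map (EtCoh.baseChange0 g f h e hsq.w F)) ΦX ΦS
    (ConcreteCategory.bijective_of_isIso _) hΦX hΦS fun p => ?_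
  obtain ⟨V, w, hw, φ, s, hφ, rfl⟩ := hrep p
  have hw₁ : (Ψ ≫ w) ≫ V.hom = σX ≫ f :=
    (Category.assoc _ _ _).trans ((congrArg (Ψ ≫ ·) (hw.trans (Category.id_comp σS))).trans hψ)
  let w' : Spec (CommRingCat.of RX) ⟶ ((EtCoh.bc f).obj V).left := pullback.lift (Ψ ≫ w) σX hw₁
  have hw' : w' ≫ ((EtCoh.bc f).obj V).hom = (EtCoh.top (Spec (CommRingCat.of RX))).hom ≫ σX :=
    (pullback.lift_snd _ _ _).trans (Category.id_comp σX).symm
  have hφ' : (fiberBcEquiv f ξ V φ).left = overClosed (𝟙 _) ≫ w' := by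
    refine pullback.hom_ext ?_ ?_
    · refine (pullback.lift_fst _ _ _).trans (Eq.trans ?_ (Category.assoc _ _ _).symm)
      rw [hφ, hρ, Category.assoc]
      exact congrArg (overClosed (𝟙 _) ≫ ·) (pullback.lift_fst _ _ _).symm
    · refine (pullback.lift_snd _ _ _).trans (Eq.trans ?_ (Category.assoc _ _ _).symm)
      exact congrArg (overClosed (𝟙 _) ≫ ·) (pullback.lift_snd _ _ _).symm
  obtain ⟨hz, hβ⟩ := stalk_baseChange0_germ g f h e hsq.w F ξ V φ s
  exact ⟨(EtCoh.bc h).obj ((EtCoh.bc f).obj V), (EtCoh.bc g).obj V,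
    (bcSwap g f h e hsq.w V).left ≫ bcFst e ((EtCoh.bc g).obj V), hz,
    liftBc σX h w' hw', liftBc_hom σX h w' hw', liftBc σS g w hw, liftBc_hom σS g w hw, s,
    swap_lift_eq g f h e hsq.w σS σX Ψ q hq₁ hq₂ V w w' (pullback.lift_fst _ _ _)
      (liftBc σS g w hw) (pullback.lift_fst _ _ _) (pullback.lift_snd _ _ _)
      (liftBc σX h w' hw') (pullback.lift_fst _ _ _) (pullback.lift_snd _ _ _),
    (congrArg ΦX hβ).trans (hΦX' _ w' hw' (fiberBcEquiv f ξ V φ) hφ' _),
    hΦS' V w hw φ hφ s⟩

end Stalk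

variable {X S : Scheme.{u}} (f : X ⟶ S) {Ω : Type u} [Field Ω] [IsSepClosed Ω]
  (t : Spec (CommRingCat.of Ω) ⟶ S)

theorem isPointSpace_pullback (s : S) (RS : Type u) [CommRing RS] [IsLocalRing RS]
    [Algebra (S.presheaf.stalk s) RS] [IsLocalHom (algebraMap (S.presheaf.stalk s) RS)]
    [Hensel.IsStrictHenselization (S.presheaf.stalk s) RS] :
    IsPointSpace (pullback t (Hens2.specOf S s RS)) := by
  by_cases hP : IsEmpty ↥(pullback t (Hens2.specOf S s RS))
  · exact fun p => hP.elim p
  obtain ⟨p⟩ := not_isEmpty_iff.1 hP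
  let O := S.presheaf.stalk s
  let k : Spec (CommRingCat.of RS) ⟶ Spec O := Spec.map (CommRingCat.ofHom (algebraMap O RS))
  have hspec : t (closedPoint Ω) ⤳ s := by
    have hmem : t (closedPoint Ω) ∈ Set.range (S.fromSpecStalk s) := by
      refine ⟨k (pullback.snd t (Hens2.specOf S s RS) p), ?_⟩
      rw [Subsingleton.elim (α := Spec (CommRingCat.of Ω)) (closedPoint Ω)
        (pullback.fst t (Hens2.specOf S s RS) p)]
      exact (congrArg (fun m : pullback t (Hens2.specOf S s RS) ⟶ S => m p) pullback.condition).symm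
    rwa [Scheme.range_fromSpecStalk] at hmem
  let ψ : O ⟶ CommRingCat.of Ω := S.presheaf.stalkSpecializes hspec ≫ Scheme.stalkClosedPointTo t
  have hψ : t = Spec.map ψ ≫ S.fromSpecStalk s := by
    rw [Spec.map_comp_assoc, Scheme.SpecMap_stalkSpecializes_fromSpecStalk]
    exact (Scheme.Spec_stalkClosedPointTo_fromSpecStalk t).symm
  letI : Algebra O Ω := ψ.hom.toAlgebra
  have hfac : IndAlg.Fac (IndAlg.Etale.Et Ω) (Ω ⊗[(O : Type u)] RS) :=
    IndAlg.Etale.fac_baseChange (IndAlg.fac_algEquiv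
      (Hens.strictHenselizationEquiv (R := (O : Type u)) RS) Hens.fac_etLoc)
  refine (isPointSpace_spec hfac).of_iso ?_
  exact pullback.congrHom hψ rfl ≪≫
    IsLimit.conePointUniqueUpToIso (limit.isLimit _)
      (pullbackIsPullbackOfCompMono (Spec.map ψ) k (S.fromSpecStalk s)) ≪≫
    pullbackSpecIso O Ω RS

variable (hf : EtRest.IsLocallyAcyclic f) [CompactSpace X] [QuasiSeparatedSpace X] [CompactSpace S]
  [QuasiSeparatedSpace S]

include hf in
/-- The local picture at a point. -/
theorem exists_local (x : X) : ∃ (RS RX : Type u) (_ : CommRing RS) (_ : CommRing RX)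
    (_ : HenselianLocalRing RS) (_ : HenselianLocalRing RX) (_ : IsSepClosed (ResidueField RS))
    (_ : IsSepClosed (ResidueField RX)) (_ : Algebra (S.presheaf.stalk (f x)) RS)
    (_ : Algebra (X.presheaf.stalk x) RX)
    (_ : IsLocalHom (algebraMap (X.presheaf.stalk x) RX))
    (_ : Hensel.IsStrictHenselization (X.presheaf.stalk x) RX) (_ : Algebra RS RX)
    (_ : IsLocalHom (algebraMap RS RX)) (_ : EtLimit.EtPres (Hens2.specOf S (f x) RS))
    (_ : EtLimit.EtPres (Hens2.specOf X x RX)),
    IsPointSpace (pullback t (Hens2.specOf S (f x) RS)) ∧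
    Spec.map (CommRingCat.ofHom (algebraMap RS RX)) ≫ Hens2.specOf S (f x) RS =
      Hens2.specOf X x RX ≫ f ∧
    ∀ (L : Type u) [Field L] [IsSepClosed L]
      (η : Spec (CommRingCat.of L) ⟶ Spec (CommRingCat.of RS)) (n : ℕ), (n : X.residueField x) ≠ 0 →
      ∀ W : Scheme.{u}, (W ≅ pullback (Spec.map (CommRingCat.ofHom (algebraMap RS RX))) η) →
        (∀ q : ℕ, 0 < q → Subsingleton (EtCoh.H W (EtCoh.const W (ZMod n)) q)) ∧
          Nonempty (EtCoh.H W (EtCoh.const W (ZMod n)) 0 ≃+ ZMod n) := by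
  let OS := S.presheaf.stalk (f x)
  let OX := X.presheaf.stalk x
  let RS := Hens.StrictHenselization ↑OS
  let RX := Hens.StrictHenselization ↑OX
  let iS : Hensel.IsStrictHenselization ↑OS RS := inferInstance
  let iX : Hensel.IsStrictHenselization ↑OX RX := inferInstance
  haveI := iS.henselian
  haveI := iX.henselian
  haveI := iS.isSepClosure.sep_closed
  haveI := iX.isSepClosure.sep_closed
  haveI : IsLocalHom ((algebraMap OX RX).comp (f.stalkMap x).hom) := RingHom.isLocalHom_comp _ _
  obtain ⟨b, hbloc, hb⟩ := StrictHens.SchemeBC.exists_hom (S := RS)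
    ((algebraMap OX RX).comp (f.stalkMap x).hom)
  letI : Algebra RS RX := b.toAlgebra
  haveI : IsLocalHom (algebraMap RS RX) := hbloc
  obtain ⟨PS⟩ := EtLimit.nonempty_etPres S (f x) RS
  obtain ⟨PX⟩ := EtLimit.nonempty_etPres X x RX
  refine ⟨RS, RX, inferInstance, inferInstance, inferInstance, inferInstance, inferInstance,
    inferInstance, inferInstance, inferInstance, inferInstance, inferInstance, inferInstance,
    inferInstance, PS, PX, isPointSpace_pullback t (f x) RS, specOf_comp_of_comm f x RS RX hb, ?_⟩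
  intro L _ _ η n hn W eW
  obtain ⟨φ, rfl⟩ : ∃ φ, Spec.map φ = η := ⟨_, Spec.map_preimage η⟩
  letI : Algebra RS L := φ.hom.toAlgebra
  have e : W ≅ Spec (CommRingCat.of (RX ⊗[RS] L)) := eW ≪≫ pullbackSpecIso RS RX L
  obtain ⟨h1, h2⟩ := hf x RS RX hb L n hn
  refine ⟨fun q hq => ?_, ?_⟩
  · obtain ⟨i⟩ := Acyclic.nonempty_H_const_addEquiv e (ZMod n) q
    exact i.toEquiv.subsingleton_congr.1 (h1 q hq)
  · obtain ⟨i⟩ := Acyclic.nonempty_H_const_addEquiv e (ZMod n) 0
    obtain ⟨j⟩ := h2
    exact ⟨i.symm.trans j⟩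

theorem exists_prime_ne_zero (K : Type u) [Field K] : ∃ ℓ : ℕ, ℓ.Prime ∧ (ℓ : K) ≠ 0 := by
  by_cases h : (2 : K) = 0
  · refine ⟨3, Nat.prime_three, fun h3 => one_ne_zero (α := K) ?_⟩
    calc (1 : K) = (3 : ℕ) - 2 := by norm_num
      _ = 0 := by rw [h3, h, sub_zero]
  · exact ⟨2, Nat.prime_two, by simpa using h⟩

/-- The comparison of the fibre products. -/
theorem exists_fibreMap {RS RX : Type u} [CommRing RS] [CommRing RX] [Algebra RS RX]
    (σS : Spec (CommRingCat.of RS) ⟶ S) (σX : Spec (CommRingCat.of RX) ⟶ X)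
    (hψ : Spec.map (CommRingCat.ofHom (algebraMap RS RX)) ≫ σS = σX ≫ f) :
    ∃ q : pullback (pullback.fst f t) σX ⟶ pullback t σS,
      q ≫ pullback.fst t σS = pullback.fst (pullback.fst f t) σX ≫ pullback.snd f t ∧
      q ≫ pullback.snd t σS =
        pullback.snd (pullback.fst f t) σX ≫ Spec.map (CommRingCat.ofHom (algebraMap RS RX)) ∧
      IsPullback q (pullback.snd (pullback.fst f t) σX) (pullback.snd t σS)
        (Spec.map (CommRingCat.ofHom (algebraMap RS RX))) := by
  let q : pullback (pullback.fst f t) σX ⟶ pullback t σS :=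
    pullback.lift (pullback.fst (pullback.fst f t) σX ≫ pullback.snd f t)
      (pullback.snd (pullback.fst f t) σX ≫ Spec.map (CommRingCat.ofHom (algebraMap RS RX))) (by
        rw [Category.assoc, ← pullback.condition, pullback.condition_assoc, Category.assoc, hψ])
  refine ⟨q, pullback.lift_fst _ _ _, pullback.lift_snd _ _ _, ?_⟩
  refine IsPullback.of_right ?_ (pullback.lift_snd _ _ _) (IsPullback.of_hasPullback t σS)
  rw [pullback.lift_fst, hψ]
  exact (IsPullback.of_hasPullback _ σX).paste_horiz (IsPullback.of_hasPullback f t).flip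

include hf in
theorem isIso_baseChange0 (F : EtCoh.Ab (Spec (CommRingCat.of Ω))) :
    IsIso (EtCoh.baseChange0 t f (pullback.fst f t) (pullback.snd f t)
      (pullback.condition).symm F) := by
  refine isIso_of_stalk _ fun Ω' _ _ ξ₀ => ?_
  obtain ⟨RS, RX, _, _, _, _, _, _, _, _, _, _, _, _, PS, PX, hP, hψ, hgood⟩ :=
    exists_local f t hf (ξ₀ default)
  let x := ξ₀ default
  let σX := Hens2.specOf X x RX
  obtain ⟨q, hq₁, hq₂, sq⟩ := exists_fibreMap f t (Hens2.specOf S (f x) RS) σX hψ
  haveI : Flat q := hP.flat q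
  haveI : QuasiCompact q := MorphismProperty.of_isPullback sq.flip
    (inferInstance : QuasiCompact (Spec.map (CommRingCat.ofHom (algebraMap RS RX))))
  have hqb := EtSubmersive.bijective_pullSect_of_flat q (fun L _ _ s => by
      obtain ⟨ℓ, hℓ, hℓx⟩ := exists_prime_ne_zero (X.residueField x)
      obtain ⟨h1, h2⟩ := hgood L (s ≫ pullback.snd t _) ℓ hℓx (pullback q s)
        ((IsPullback.of_hasPullback q s).flip.paste_vert sq).flip.isoPullback
      exact GoodScheme.connectedSpace (ℓ := ℓ) (m := 0) hℓ ⟨fun a ha _ => h1 a ha, h2⟩)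
    ((EtCoh.pull (pullback.fst t (Hens2.specOf S (f x) RS))).obj F) (EtCoh.top _)
  let ξ := EtSubmersive.overClosed (𝟙 (Spec (CommRingCat.of (ResidueField RX)))) ≫ σX
  have hξ : ξ (default : Spec (CommRingCat.of (ResidueField RX))) = x := by
    rw [Scheme.Hom.comp_apply]
    refine Eq.trans (congrArg σX ?_) (specOf_closedPoint' X x RX)
    exact IsLocalRing.PrimeSpectrum.comap_residue _ _
  obtain ⟨e₀⟩ := nonempty_stalk_iso_geomPointAt ξ₀
  obtain ⟨e₁⟩ := nonempty_stalk_iso_geomPointAt ξ
  refine (NatIso.isIso_map_iff e₀ _).2 ?_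
  show IsIso ((EtCoh.stalk (geomPointAt X x)).map _)
  rw [← hξ]
  exact (NatIso.isIso_map_iff e₁ _).1 ((ConcreteCategory.isIso_iff_bijective _).2
    (bijective_stalk_bc_of_pullSect t f (pullback.fst f t) (pullback.snd f t)
      (IsPullback.of_hasPullback f t).flip F _ σX PS PX (algebraMap RS RX) hψ q hq₁ hq₂ hqb))

include hf in
theorem isZero_Rpush_const (n : ℕ) (hn : ∀ x : X, (n : X.residueField x) ≠ 0) (b : ℕ) (hb : 0 < b) :
    IsZero ((EtCoh.Rpush (pullback.fst f t) b).obj (EtCoh.const (pullback f t) (ZMod n))) := by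
  let j := pullback.fst f t
  haveI : QuasiCompact t := inferInstance
  haveI : QuasiCompact j := MorphismProperty.pullback_fst _ _ inferInstance
  haveI : QuasiSeparated j := MorphismProperty.pullback_fst _ _ inferInstance
  let M : AddCommGrpCat.{u + 1} := AddCommGrpCat.of (ULift.{u + 1} (ZMod n))
  let G := (EtCoh.Rpush j b).obj (cSheaf (pullback f t) M)
  haveI : Mono (0 : G ⟶ G) := (EtaleSite.mono_iff_stalk _).2 fun Ω' _ _ ξ => by
    obtain ⟨RS, RX, _, _, _, _, _, _, _, _, _, _, _, _, PS, PX, hP, hψ, hgood⟩ :=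
      exists_local f t hf (ξ default)
    let x := ξ default
    let σX := Hens2.specOf X x RX
    obtain ⟨q, hq₁, hq₂, sq⟩ := exists_fibreMap f t (Hens2.specOf S (f x) RS) σX hψ
    haveI : CompactSpace ↥(pullback t (Hens2.specOf S (f x) RS)) :=
      QuasiCompact.compactSpace_of_compactSpace (pullback.snd t _)
    haveI : QuasiSeparatedSpace ↥(pullback t (Hens2.specOf S (f x) RS)) :=
      quasiSeparatedSpace_of_quasiSeparated (pullback.snd t _)
    haveI : QuasiCompact q := MorphismProperty.of_isPullback sq.flip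
      (inferInstance : QuasiCompact (Spec.map (CommRingCat.ofHom (algebraMap RS RX))))
    haveI : QuasiSeparated q := MorphismProperty.of_isPullback sq.flip
      (inferInstance : QuasiSeparated (Spec.map (CommRingCat.ofHom (algebraMap RS RX))))
    -- the direct images from the strict localisation to the fibre vanish
    have hR : ∀ c : ℕ, 0 < c → c ≤ b →
        IsZero ((EtCoh.Rpush q c).obj (cSheaf (pullback j σX) M)) := fun c hc _ => by
      let G' := (EtCoh.Rpush q c).obj (cSheaf (pullback j σX) M)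
      haveI : Mono (0 : G' ⟶ G') := (EtaleSite.mono_iff_stalk _).2 fun Ω'' _ _ ζ => by
        let p := ζ default
        let P := pullback t (Hens2.specOf S (f x) RS)
        let A : Type u := P.presheaf.stalk p
        haveI : HenselianLocalRing A := (hP.isSH p).1
        haveI : IsSepClosed (ResidueField A) := (hP p).2
        haveI : IsLocalHom (algebraMap (P.presheaf.stalk p) A) := ⟨fun _ ha => ha⟩
        haveI : Hensel.IsStrictHenselization (P.presheaf.stalk p) A := isStrictHenselization_self A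
        obtain ⟨Φ⟩ := EtLimit.nonempty_Rpush_stalk_iso q p A c
        obtain ⟨s₁⟩ := nonempty_stalk_iso_geomPointAt ζ
        obtain ⟨s₂⟩ := nonempty_stalk_iso_geomPointAt (Hens2.geomPt P p A)
        rw [specOf_closedPt] at s₂
        let W := pullback q (Hens2.specOf P p A)
        let r : Spec (P.residueField p) ⟶ Spec (CommRingCat.of A) := Spec.map (P.residue p)
        haveI : IsIso r := by
          letI := (hP p).1.toField
          haveI : IsIso (P.residue p) := (ConcreteCategory.isIso_iff_bijective _).2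
            ⟨RingHom.injective _, IsLocalRing.residue_surjective⟩
          infer_instance
        haveI : IsSepClosed (P.residueField p) := (hP p).2
        let η : Spec (CommRingCat.of (P.residueField p)) ⟶ Spec (CommRingCat.of RS) :=
          r ≫ Hens2.specOf P p A ≫ pullback.snd t _
        have E : W ≅ pullback (Spec.map (CommRingCat.ofHom (algebraMap RS RX))) η :=
          (asIso (pullback.map q (r ≫ Hens2.specOf P p A) q (Hens2.specOf P p A) (𝟙 _) r (𝟙 _)
            (by simp) (by simp))).symm ≪≫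
          ((IsPullback.of_hasPullback q (r ≫ Hens2.specOf P p A)).flip.paste_vert sq).flip.isoPullback ≪≫
            pullback.congrHom rfl (Category.assoc _ _ _)
        haveI := (hgood (P.residueField p) η n (hn x) W E).1 c hc
        have i := (s₁ ≪≫ s₂.symm).app G' ≪≫ Φ.app _ ≪≫
          (EtCoh.HF _ c).mapIso ((EtCore.pullConstIso (pullback.fst q (Hens2.specOf P p A))).app M)
        haveI : Subsingleton ((EtCoh.stalk ζ).obj G') :=
          i.addCommGroupIsoToAddEquiv.toEquiv.subsingleton_congr.2 this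
        exact fun a a' _ => Subsingleton.elim a a'
      exact IsZero.of_mono_zero G' G'
    haveI := EtSection.subsingleton_H hP.isSH hP.isClosed_singleton
      ((EtCoh.push q).obj (cSheaf (pullback j σX) M)) b hb
    obtain ⟨eH⟩ := nonempty_H_push_equiv_le q (cSheaf (pullback j σX) M) b hR
    haveI : Subsingleton (EtCoh.H (pullback j σX) (cSheaf (pullback j σX) M) b) :=
      eH.toEquiv.symm.injective.subsingleton
    obtain ⟨Φ⟩ := EtLimit.nonempty_Rpush_stalk_iso j x RX b
    obtain ⟨s₁⟩ := nonempty_stalk_iso_geomPointAt ξ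
    obtain ⟨s₂⟩ := nonempty_stalk_iso_geomPointAt (Hens2.geomPt X x RX)
    rw [specOf_closedPt] at s₂
    have i := (s₁ ≪≫ s₂.symm).app G ≪≫ Φ.app _ ≪≫
      (EtCoh.HF _ b).mapIso ((EtCore.pullConstIso (pullback.fst j σX)).app M)
    haveI : Subsingleton ((EtCoh.stalk ξ).obj G) :=
      i.addCommGroupIsoToAddEquiv.toEquiv.subsingleton_congr.2
        (inferInstanceAs (Subsingleton (EtCoh.H (pullback j σX) (cSheaf (pullback j σX) M) b)))
    exact fun a a' _ => Subsingleton.elim a a'
  exact IsZero.of_mono_zero G G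

theorem natCast_residue_ne_zero {X S : Scheme.{u}} (f : X ⟶ S) (n : ℕ) (hn : IsUnit (n : Γ(S, ⊤))) (x : X) :
    (n : X.residueField x) ≠ 0 := by
  have h := hn.map ((f.appTop ≫ X.presheaf.germ ⊤ x trivial ≫ X.residue x).hom)
  rw [map_natCast] at h
  exact h.ne_zero

end Groth.Agent.EtAcDepth
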