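import Groth.Agent.EtAcDepth.PullC
import Groth.Agent.EtAcDepth.GenFibre
import Groth.Agent.EtDescSS.CompBC
import Groth.Agent.S3054
import Groth.Agent.IndAlg.Localization
import Groth.Agent.EtAcDepth.Closed
import Mathlib.RingTheory.IsTensorProduct
import Mathlib.RingTheory.Localization.BaseChange

/-!
# Geometric fibres of acyclic morphisms
-/

set_option autoImplicit false
set_option backward.isDefEq.respectTransparency false

universe u

open CategoryTheory CategoryTheory.Limits AlgebraicGeometry Opposite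
open scoped TensorProduct

noncomputable section

namespace Groth.Agent.EtAcDepth

open Groth.Agent Groth.Agent.EtaleSite Groth.Agent.EtaleSite.ConstSections Groth.Agent.EtLimit
open Groth.Agent.StrictHens

section Integral

variable {X Y Xb Yb : Scheme.{u}} (h : Y ⟶ X) (p : Xb ⟶ X) (hb : Yb ⟶ Xb) (pY : Yb ⟶ Y)
  (sq : IsPullback hb pY p h) [IsIntegralHom p]

include sq in
theorem isIso_bcQ_integral [PreservesFiniteLimits (EtCoh.pull hb)] (i : ℕ) (F : EtCoh.Ab Xb) :
    IsIso (EtBC.bcQ p h pY hb sq.w i F) := by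
  haveI : IsIntegralHom pY := MorphismProperty.of_isPullback sq ‹IsIntegralHom p›
  rcases Nat.eq_zero_or_pos i with rfl | hi
  · have hadj : (EtCoh.push p).toRightDerivedZero.app F ≫ EtBC.bcQAdj p h pY hb sq.w 0 F =
        ((EtCoh.push p).map ((EtCoh.pullPushAdj hb).unit.app F) ≫ (EtCoh.pushComp p hb).hom.app _ ≫
          (EtCoh.pushCongr sq.w).hom.app _ ≫ (EtCoh.pushComp h pY).inv.app _) ≫
          (EtCoh.push h).map ((EtCoh.push pY).toRightDerivedZero.app ((EtCoh.pull hb).obj F)) := by
      dsimp only [EtBC.bcQAdj, EtBC.RpushSquareIso, Functor.comp_obj, EtCoh.Rpush]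
      rw [← (EtCoh.push p).toRightDerivedZero.naturality_assoc, RDer.toRightDerivedZero_edgeIn_assoc,
        RDer.toRightDerivedZero_rightDerivedIso_assoc, RDer.toRightDerivedZero_edgeOut]
      simp only [Iso.trans_hom, Iso.symm_hom, NatTrans.comp_app, Category.assoc]
    have key : (EtCoh.pull h).map ((EtCoh.push p).toRightDerivedZero.app F) ≫
        EtBC.bcQ p h pY hb sq.w 0 F = EtCoh.baseChange0 p h pY hb sq.w F ≫
          (EtCoh.push pY).toRightDerivedZero.app ((EtCoh.pull hb).obj F) := by
      dsimp only [EtBC.bcQ, EtCoh.baseChange0]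
      rw [← Adjunction.homEquiv_naturality_left_symm, hadj, Adjunction.homEquiv_naturality_right_symm]
    haveI := isIso_baseChange0_integral p h pY hb sq F
    haveI : IsIso ((EtCoh.pull h).map ((EtCoh.push p).toRightDerivedZero.app F) ≫
        EtBC.bcQ p h pY hb sq.w 0 F) := key ▸ inferInstance
    exact IsIso.of_isIso_comp_left ((EtCoh.pull h).map ((EtCoh.push p).toRightDerivedZero.app F)) _
  · exact ((EtCoh.pull h).map_isZero (Groth.Agent.S3054.result p F i hi)).isIso
      (Groth.Agent.S3054.result pY _ i hi) _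

include sq in
theorem compN_integral [CompactSpace Xb] [QuasiSeparatedSpace Xb] [QuasiSeparatedSpace X]
    [PreservesFiniteLimits (EtCoh.pull hb)] [PreservesFiniteLimits (EtCoh.pull h)] (L : Set ℕ) (n : ℕ)
    (hh : EtAcyc.CompN h L n) : EtAcyc.CompN hb L n :=
  EtDescSS.CompBC.compN h p hb pY sq.w L n hh fun F _ i _ => isIso_bcQ_integral h p hb pY sq i F

end Integral

theorem isLTorsion_const_acyc (X : Scheme.{u}) {ℓ : ℕ} (hℓ : ℓ.Prime) {L : Set ℕ} (hL : ℓ ∈ L) :
    EtAcyc.IsLTorsion L (EtCoh.const X (ZMod ℓ)) := by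
  intro U s x
  let M : AddCommGrpCat.{u + 1} := AddCommGrpCat.of (ULift.{u + 1} (ZMod ℓ))
  have := (etaConst_locallyBijective (X := X) M).2
  obtain ⟨V, g, v, ⟨c, hc⟩, hv⟩ := exists_of_mem_topology
    (Presheaf.imageSieve_mem X.smallEtaleTopology (etaConst (X := X) M) s) x
  refine ⟨V, g, ℓ, ⟨v, hv⟩, ⟨hℓ.pos, fun p hp hpd => (Nat.prime_dvd_prime_iff_eq hp hℓ).1 hpd ▸ hL⟩, ?_⟩
  rw [← hc]
  refine (map_nsmul ((etaConst (X := X) M).app (op V)).hom ℓ c).symm.trans ?_
  have : ℓ • c = 0 := by
    refine ULift.ext _ _ ?_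
    show ℓ • c.down = 0
    rw [nsmul_eq_mul, ZMod.natCast_self, zero_mul]
  exact (congrArg ((etaConst (X := X) M).app (op V)).hom this).trans (map_zero _)

/-- The spectrum of a localisation is a limit of basic opens. -/
theorem nonempty_etPres_localization (A B : Type u) [CommRing A] [CommRing B] [Algebra A B]
    (S : Submonoid A) [IsLocalization S B] :
    Nonempty (EtPres (Spec.map (CommRingCat.ofHom (algebraMap A B)))) := by
  obtain ⟨J, _, _, D, c, hc, hQ, ⟨e⟩⟩ := IndAlg.isInd_of_fac IndAlg.Localization.soi_fp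
    IndAlg.Localization.soi_iso (IndAlg.Localization.fac_localization (B := B) S)
  haveI : IsConnected J := IsFiltered.isConnected J
  let K : Cocone (D ⋙ Under.forget _) := ((Under.forget _).mapCocone c).extend (e.hom.right)
  have hK : IsColimit K := IsColimit.extendIso _ (isColimitOfPreserves (Under.forget _) hc)
  have hw : ∀ j, (D.obj j).hom ≫ (K.ι.app j) = CommRingCat.ofHom (algebraMap A B) := by
    intro j
    exact Under.w (c.ι.app j ≫ e.hom)
  refine ⟨{
    I := Jᵒᵖ
    D := (D ⋙ Under.forget _).op ⋙ Scheme.Spec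
    π := (Scheme.Spec.mapCone K.op).π
    isLimit := isLimitOfPreserves Scheme.Spec hK.op
    p := fun i => Spec.map (D.obj i.unop).hom
    isAffine := fun i => inferInstanceAs (IsAffine (Spec _))
    etale := fun i => ?_
    w := fun i j a => ?_
    fac := fun i => ?_ }⟩
  · refine (HasRingHomProperty.Spec_iff (P := @Etale)).2 ?_
    let := (D.obj i.unop).hom.hom.toAlgebra
    haveI : Algebra.IsStandardOpenImmersion A (D.obj i.unop).right := hQ i.unop
    obtain ⟨r, hr⟩ := Algebra.IsStandardOpenImmersion.exists_away A (D.obj i.unop).right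
    exact RingHom.etale_algebraMap.2 (Algebra.Etale.of_isLocalizationAway (A := (D.obj i.unop).right) r)
  · show Spec.map _ ≫ Spec.map _ = _
    rw [← Spec.map_comp]
    exact congrArg Spec.map (Under.w (D.map a.unop))
  · show Spec.map (K.ι.app i.unop) ≫ Spec.map _ = _
    rw [← Spec.map_comp, hw]

attribute [local instance] EtPres.cat EtPres.cofiltered EtPres.isAffine EtPres.etale

variable {A : Type u} [CommRing A] {M : Scheme.{u}} (v : M ⟶ Spec (CommRingCat.of A)) [QuasiCompact v]
  [QuasiSeparated v] (L : Set ℕ) (n : ℕ)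
  (hv : ∀ W : (Spec (CommRingCat.of A)).Etale, IsAffine W.left → EtAcyc.CompN (EtAcyc.prj v W) L n)
  (p : Ideal A) [p.IsPrime] {Ω : Type u} [Field Ω] [IsSepClosed Ω] [Algebra A Ω]
  (hker : RingHom.ker (algebraMap A Ω) = p)
  (hfr : ∀ z : Ω, ∃ a : A, a ∉ p ∧ IsIntegral A (algebraMap A Ω a * z))

include hv hker hfr in
/-- Geometric fibres of an acyclic morphism are acyclic. -/
theorem goodScheme_fibre_of_compN {ℓ : ℕ} (hℓ : ℓ.Prime) (hL : ℓ ∈ L) :
    GoodScheme (pullback v (Spec.map (CommRingCat.ofHom (algebraMap A Ω)))) ℓ n := by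
  let C := integralClosure A Ω
  let Ap := Localization.AtPrime p
  let h : Spec (CommRingCat.of C) ⟶ Spec (CommRingCat.of A) := Spec.map (CommRingCat.ofHom (algebraMap A C))
  haveI : IsIntegralHom h := IsIntegralHom.SpecMap_iff.2 fun c => integralClosure.isIntegral c
  let σ : Spec (CommRingCat.of Ap) ⟶ Spec (CommRingCat.of A) := Spec.map (CommRingCat.ofHom (algebraMap A Ap))
  -- the field is the localisation of the integral closure
  have hne : ∀ a : A, a ∉ p → algebraMap A Ω a ≠ 0 := fun a ha h0 => ha (hker ▸ RingHom.mem_ker.2 h0)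
  letI : Algebra Ap Ω := (IsLocalization.lift (M := p.primeCompl) (g := algebraMap A Ω)
    fun a => (hne a.1 a.2).isUnit).toAlgebra
  haveI : IsScalarTower A Ap Ω := .of_algebraMap_eq fun a => (IsLocalization.lift_eq _ a).symm
  haveI : IsLocalization (Algebra.algebraMapSubmonoid C p.primeCompl) Ω := by
    constructor; constructor
    · rintro ⟨_, a, ha, rfl⟩
      exact (hne a ha).isUnit
    · intro z
      obtain ⟨a, ha, hi⟩ := hfr z
      refine ⟨(⟨_, hi⟩, ⟨algebraMap A C a, a, ha, rfl⟩), ?_⟩
      show z * algebraMap A Ω a = algebraMap A Ω a * z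
      exact mul_comm _ _
    · intro x y hxy
      exact ⟨1, by rw [Subtype.ext (show (x : Ω) = y from hxy)]⟩
  haveI : Algebra.IsPushout A C Ap Ω :=
    Algebra.isPushout_of_isLocalization p.primeCompl Ap C Ω
  let sC : Spec (CommRingCat.of Ω) ⟶ Spec (CommRingCat.of C) := Spec.map (CommRingCat.ofHom (algebraMap C Ω))
  let sp : Spec (CommRingCat.of Ω) ⟶ Spec (CommRingCat.of Ap) := Spec.map (CommRingCat.ofHom (algebraMap Ap Ω))
  have hpb : IsPullback sC sp h σ :=
    isPullback_SpecMap_of_isPushout _ _ _ _ (CommRingCat.isPushout_of_isPushout A C Ap Ω)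
  obtain ⟨P⟩ := nonempty_etPres_localization A Ap p.primeCompl
  let qM : pullback v h ⟶ Spec (CommRingCat.of A) := pullback.snd v h ≫ h
  haveI : Nonempty P.I := IsCofiltered.nonempty
  haveI : QuasiCompact (pullback.snd v h) := MorphismProperty.pullback_snd _ _ ‹_›
  haveI : QuasiSeparated (pullback.snd v h) := MorphismProperty.pullback_snd _ _ ‹_›
  haveI : QuasiCompact qM := inferInstance
  haveI : QuasiSeparated qM := inferInstance
  have hw : ∀ i, pullback.fst (P.st i).hom qM ≫ (P.st i).hom =
      (pullback.snd (P.st i).hom qM ≫ pullback.snd v h) ≫ h := fun i => by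
    rw [Category.assoc]; exact pullback.condition
  let vi : ∀ i, (P.bcD qM).obj i ⟶ (P.bcD h).obj i := fun i =>
    pullback.lift (pullback.fst (P.st i).hom qM) (pullback.snd (P.st i).hom qM ≫ pullback.snd v h) (hw i)
  let νv : P.bcD qM ⟶ P.bcD h :=
    { app := vi
      naturality := fun i k a => by
        refine pullback.hom_ext ?_ ?_
        · refine (Category.assoc _ _ _).trans (Eq.trans ?_ (Category.assoc _ _ _).symm)
          refine (congrArg (_ ≫ ·) (pullback.lift_fst _ _ _)).trans ?_
          refine (FHom.bc_map_fst (P.stMap a)).trans ?_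
          refine Eq.trans ?_ (congrArg (vi i ≫ ·) (FHom.bc_map_fst (P.stMap a))).symm
          rw [← Category.assoc]
          exact congrArg (· ≫ (P.stMap a).left) (pullback.lift_fst _ _ _).symm
        · refine (Category.assoc _ _ _).trans (Eq.trans ?_ (Category.assoc _ _ _).symm)
          refine (congrArg (_ ≫ ·) (pullback.lift_snd _ _ _)).trans ?_
          refine (Category.assoc _ _ _).symm.trans ?_
          refine (congrArg (· ≫ pullback.snd v h) (P.bcp_w qM i k a)).trans ?_
          exact (pullback.lift_snd _ _ _).symm.trans (congrArg (vi i ≫ ·) (P.bcp_w h i k a)).symm }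
  let v₀ : pullback qM σ ⟶ pullback h σ :=
    pullback.map qM σ h σ (pullback.snd v h) (𝟙 _) (𝟙 _) (by simp [qM]) (by simp)
  have hv₀ : ∀ i, v₀ ≫ P.bcπ h i = P.bcπ qM i ≫ vi i := fun i => by
    refine pullback.hom_ext ?_ ?_
    · refine (Category.assoc _ _ _).trans (Eq.trans ?_ (Category.assoc _ _ _).symm)
      refine (congrArg (v₀ ≫ ·) (P.bcπ_fst h i)).trans ?_
      refine Eq.trans ?_ (congrArg (P.bcπ qM i ≫ ·) (pullback.lift_fst _ _ _)).symm
      refine Eq.trans ?_ (P.bcπ_fst qM i).symm
      rw [← Category.assoc, show v₀ ≫ pullback.snd h σ = pullback.snd qM σ from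
        (pullback.lift_snd _ _ _).trans (Category.comp_id _)]
    · refine (Category.assoc _ _ _).trans (Eq.trans ?_ (Category.assoc _ _ _).symm)
      refine (congrArg (v₀ ≫ ·) (P.bcπ_bcp h i)).trans ((pullback.lift_fst _ _ _).trans ?_)
      exact ((congrArg (P.bcπ qM i ≫ ·) (pullback.lift_snd _ _ _)).trans
        ((Category.assoc _ _ _).symm.trans (congrArg (· ≫ pullback.snd v h) (P.bcπ_bcp qM i)))).symm
  let Mc : AddCommGrpCat.{u + 1} := AddCommGrpCat.of (ULift.{u + 1} (ZMod ℓ))
  have hstage : ∀ i q, q ≤ n → Function.Bijective (pullC Mc (vi i) q) := fun i q hq => by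
    refine (pullC_bijective_iff Mc _ q).2 ?_
    let W := P.st i
    haveI : IsAffine W.left := P.isAffine i
    let pY : ((P.bcD qM).obj i) ⟶ pullback W.hom v :=
      pullback.lift (pullback.fst W.hom qM) (pullback.snd W.hom qM ≫ pullback.fst v h) (by
        rw [pullback.condition, Category.assoc, pullback.condition])
    let pi : ((P.bcD h).obj i) ⟶ W.left := pullback.fst W.hom h
    haveI : IsIntegralHom pi := MorphismProperty.pullback_fst W.hom h ‹_›
    haveI : CompactSpace ↥((P.bcD h).obj i) := inferInstance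
    haveI : QuasiSeparatedSpace ↥((P.bcD h).obj i) := inferInstance
    have sq : IsPullback (vi i) pY pi (EtAcyc.prj v W) := by
      have hA : IsPullback (vi i) (pullback.snd W.hom qM) (pullback.snd W.hom h) (pullback.snd v h) := by
        refine IsPullback.of_right ?_ (pullback.lift_snd _ _ _) (IsPullback.of_hasPullback W.hom h)
        rw [show vi i ≫ pullback.fst W.hom h = pullback.fst W.hom qM from pullback.lift_fst _ _ _]
        exact IsPullback.of_hasPullback W.hom qM
      have hB := hA.paste_vert (IsPullback.of_hasPullback v h).flip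
      rw [show pullback.snd W.hom qM ≫ pullback.fst v h = pY ≫ pullback.snd W.hom v from
        (pullback.lift_snd _ _ _).symm, ← pullback.condition] at hB
      refine IsPullback.of_bot hB ?_ (IsPullback.of_hasPullback W.hom v)
      exact (pullback.lift_fst _ _ _).trans (pullback.lift_fst _ _ _).symm
    haveI : QuasiSeparatedSpace ↥W.left := inferInstance
    exact ((compN_integral (EtAcyc.prj v W) pi (vi i) pY sq L n (hv W inferInstance))
      _ (isLTorsion_const_acyc _ hℓ hL)).1 q hq
  have hbij : ∀ q, q ≤ n → Function.Bijective (pullC Mc v₀ q) := fun q hq =>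
    pullC_bijective_limit Mc (c := P.bcCone h) (P.isLimitBcCone h) (c' := P.bcCone qM) (P.isLimitBcCone qM)
      νv v₀ hv₀ q fun i => hstage i q hq
  haveI := isSepClosed_residueField_field Ω
  have hT : GoodScheme (pullback h σ) ℓ n := by
    refine GoodScheme.of_iso (W := Spec (CommRingCat.of Ω)) ⟨fun q h1 _ => ?_, ?_⟩ hpb.isoPullback.symm
    · exact EtaleSite.subsingleton_H Ω _ q h1
    · exact nonempty_H0_const_equiv Ω (ZMod ℓ)
  have hM : GoodScheme (pullback qM σ) ℓ n := by
    refine ⟨fun q h1 h2 => ?_, ?_⟩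
    · haveI : Subsingleton (EtCoh.H (pullback h σ) (cSheaf _ Mc) q) := hT.1 q h1 h2
      exact (hbij q h2).2.subsingleton
    · obtain ⟨e⟩ := hT.2
      exact ⟨(AddEquiv.ofBijective (pullC Mc v₀ 0) (hbij 0 (Nat.zero_le _))).symm.trans e⟩
  refine hM.of_iso ?_
  refine ?_ ≪≫ (pullbackLeftPullbackSndIso v h (pullback.fst h σ)).symm ≪≫
    pullbackRightPullbackFstIso h σ (pullback.snd v h)
  refine (asIso (pullback.map v _ v _ (𝟙 _) hpb.isoPullback.hom (𝟙 _) (by simp) ?_))
  rw [Category.comp_id, ← Category.assoc, hpb.isoPullback_hom_fst, ← Spec.map_comp]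
  rfl

end Groth.Agent.EtAcDepth
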