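import Groth.Agent.EtAcDepth.Strict

/-!
# Strict henselizations along an isomorphism of the local ring
-/

set_option autoImplicit false

universe u

open IsLocalRing

namespace Groth.Agent.EtAcDepth

theorem isStrictHenselization_of_equiv {A B R : Type u} [CommRing A] [IsLocalRing A] [CommRing B]
    [IsLocalRing B] [CommRing R] [IsLocalRing R] [Algebra A R] [IsLocalHom (algebraMap A R)]
    [hS : Hensel.IsStrictHenselization A R] [Algebra B R] [IsLocalHom (algebraMap B R)] (e : B ≃+* A)
    (h : algebraMap B R = (algebraMap A R).comp e.toRingHom) : Hensel.IsStrictHenselization B R := by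
  haveI := hS.henselian
  haveI := hS.isSepClosure.sep_closed
  have hb : ∀ b, algebraMap B R b = algebraMap A R (e b) := fun b => RingHom.congr_fun h b
  refine ⟨hS.henselian, ⟨inferInstance, ⟨fun x => ?_⟩⟩, fun T _ _ f _ τ hτ => ?_⟩
  · have hs := hS.isSepClosure.separable
    let φ : ResidueField B ≃+* ResidueField A := ResidueField.mapEquiv e
    refine Algebra.IsSeparable.isSeparable' (K := ResidueField R) (F := _) (self := ?_) x
    refine Algebra.IsSeparable.of_equiv_equiv φ.symm (RingEquiv.refl (ResidueField R)) ?_
    refine RingHom.ext fun y => ?_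
    obtain ⟨a, rfl⟩ := residue_surjective y
    obtain ⟨b, rfl⟩ := e.surjective a
    show algebraMap (ResidueField B) (ResidueField R) (φ.symm (φ (residue _ b))) = _
    rw [RingEquiv.symm_apply_apply]
    exact congrArg (residue R) (hb b)
  · haveI : IsLocalHom (e.symm : A →+* B) := inferInstance
    obtain ⟨k, ⟨hk, hkr⟩, hu⟩ := hS.universal T (f.comp (e.symm : A →+* B)) τ (RingHom.ext fun y => by
      obtain ⟨a, rfl⟩ := residue_surjective y
      obtain ⟨b, rfl⟩ := e.surjective a
      refine Eq.trans ?_ ((RingHom.congr_fun hτ (residue _ b)).trans ?_)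
      · exact congrArg τ (congrArg (residue R) (hb b)).symm
      show residue T (f b) = residue T (f (e.symm (e b)))
      rw [RingEquiv.symm_apply_apply])
    refine ⟨k, ⟨RingHom.ext fun b => ?_, hkr⟩, fun k' hk' => hu k' ⟨RingHom.ext fun a => ?_, hk'.2⟩⟩
    · refine (congrArg k (hb b)).trans ((RingHom.congr_fun hk (e b)).trans ?_)
      show f (e.symm (e b)) = f b
      rw [RingEquiv.symm_apply_apply]
    · obtain ⟨b, rfl⟩ := e.surjective a
      refine ((congrArg k' (hb b)).symm.trans (RingHom.congr_fun hk'.1 b)).trans ?_
      show f b = f (e.symm (e b))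
      rw [RingEquiv.symm_apply_apply]

end Groth.Agent.EtAcDepth
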