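import Groth.Agent.EtAcDepth.Main
import Groth.Agent.EtAcDepth.Equiv
import Groth.Agent.S0540
import Groth.Agent.Hens.BranchSum
import Groth.Agent.FlatMor.FibreStalk

/-!
# Depth of inverse images at a point
-/

set_option autoImplicit false
set_option backward.isDefEq.respectTransparency false
set_option linter.style.haveILetI false

universe u

open CategoryTheory CategoryTheory.Limits AlgebraicGeometry Opposite IsLocalRing

noncomputable section

namespace Groth.Agent.EtAcDepth

open Groth.Agent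

/-- A quotient by a proper ideal of a local ring is local. -/
theorem isLocalRing_quotient {A : Type u} [CommRing A] [IsLocalRing A] (I : Ideal A)
    (hI : I ≤ maximalIdeal A) : IsLocalRing (A ⧸ I) := by
  haveI : Nontrivial (A ⧸ I) := Ideal.Quotient.nontrivial_iff.2 fun h =>
    (maximalIdeal.isMaximal A).ne_top (top_le_iff.1 (h ▸ hI))
  exact .of_surjective' (Ideal.Quotient.mk I) Ideal.Quotient.mk_surjective

variable {X S : Scheme.{u}}

theorem depthAtGE_pull (f : X ⟶ S) (x : X) (hx : IsNoetherianRing (X.presheaf.stalk x)) {ℓ : ℕ}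
    (hℓ : ℓ.Prime) (m p q : ℕ) (F : EtCoh.Ab S) (hF : EtDepth.IsLTorsion ℓ F)
    (hf : EtDepth.IsLocAcyclicLE f ℓ m) (hp : EtDepth.DepthAtGE S F (f.base x) p)
    (hq : ∀ x' : ↥(f.fiber (f.base x)), (f.fiberι (f.base x)).base x' = x →
      EtDepth.DepthAtGE (f.fiber (f.base x)) (EtCoh.const (f.fiber (f.base x)) (ZMod ℓ)) x' q) :
    EtDepth.DepthAtGE X ((EtCoh.pull f).obj F) x (min (p + q) (m + 2)) := by
  intro R _ _ algR locR hR
  haveI := hR.henselian
  haveI := hR.isSepClosure.sep_closed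
  haveI := (Groth.Agent.S0540.result (X.presheaf.stalk x) R).1 hx
  let s := f.base x
  let RS := Hens.StrictHenselization (S.presheaf.stalk s)
  have hRS : Hensel.IsStrictHenselization (S.presheaf.stalk s) RS := inferInstance
  haveI := hRS.henselian
  haveI := hRS.isSepClosure.sep_closed
  haveI : IsLocalHom ((algebraMap (X.presheaf.stalk x) R).comp (f.stalkMap x).hom) :=
    RingHom.isLocalHom_comp _ _
  obtain ⟨φ, hφ, hc⟩ := StrictHens.SchemeBC.exists_hom (A := S.presheaf.stalk s) (S := RS)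
    ((algebraMap (X.presheaf.stalk x) R).comp (f.stalkMap x).hom)
  letI := φ.toAlgebra
  haveI : IsLocalHom (algebraMap RS R) := hφ
  have hsq := specOf_comp_of_comm f x RS R hc
  have hA : Acyc (Spec.map (CommRingCat.ofHom φ)) ℓ m :=
    (acyc_of_isLocAcyclicLE hf).of_square _ (shStable_specOf X x R) (shStable_specOf S s RS) hsq
  -- the fibre
  let O := X.presheaf.stalk x
  let I : Ideal O := (maximalIdeal (S.presheaf.stalk (f x))).map (f.stalkMap x).hom
  let J : Ideal R := I.map (algebraMap O R)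
  have hIm : I ≤ maximalIdeal O := Ideal.map_le_iff_le_comap.2 fun a ha hu =>
    ha (isUnit_of_map_unit (f.stalkMap x).hom a hu)
  have hJ : J = (maximalIdeal RS).map φ := by
    rw [← Hens.map_maximalIdeal_of_isStrictHenselization (R := S.presheaf.stalk s) (S := RS), Ideal.map_map,
      hc, ← Ideal.map_map]
  haveI := isLocalRing_quotient I hIm
  haveI := isLocalRing_quotient J (Ideal.map_le_iff_le_comap.2 fun a ha hu =>
    hIm ha (isUnit_of_map_unit (algebraMap O R) a hu))
  haveI : IsLocalHom (algebraMap (O ⧸ I) (R ⧸ J)) := ⟨fun a ha => by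
    obtain ⟨b, rfl⟩ := Ideal.Quotient.mk_surjective a
    haveI : IsLocalHom (Ideal.Quotient.mk J) := .of_surjective _ Ideal.Quotient.mk_surjective
    exact (isUnit_of_map_unit (algebraMap O R) b (isUnit_of_map_unit (Ideal.Quotient.mk J) _ ha)).map _⟩
  have hSJ : Hensel.IsStrictHenselization (O ⧸ I) (R ⧸ J) := Hens.isStrictHenselization_quotient I
  have key : ∃ (_ : HenselianLocalRing (R ⧸ J)) (_ : IsSepClosed (ResidueField (R ⧸ J))),
      EtDepth.DepthGE (FEt.puncturedSpec (R ⧸ J)).ι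
        (EtCoh.const (Spec (CommRingCat.of (R ⧸ J))) (ZMod ℓ)) q := by
    refine ⟨hSJ.henselian, hSJ.isSepClosure.sep_closed, ?_⟩
    obtain ⟨e⟩ := FlatMor.FibreStalk.exists_fibre_stalk_equiv f x
    letI : Algebra ((f.fiber (f x)).presheaf.stalk (f.asFiber x)) (R ⧸ J) :=
      ((algebraMap (O ⧸ I) (R ⧸ J)).comp e.symm.toRingHom).toAlgebra
    haveI : IsLocalHom e.symm.toRingHom := ⟨fun a ha => (isUnit_map_iff e.symm a).1 ha⟩
    haveI : IsLocalHom (algebraMap ((f.fiber (f x)).presheaf.stalk (f.asFiber x)) (R ⧸ J)) :=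
      RingHom.isLocalHom_comp _ _
    haveI : Hensel.IsStrictHenselization ((f.fiber (f x)).presheaf.stalk (f.asFiber x)) (R ⧸ J) :=
      isStrictHenselization_of_equiv e.symm rfl
    exact depthGE_of_iso _ (EtCore.pullConst _ (ZMod ℓ)) q
      (hq (f.asFiber x) (f.fiberι_asFiber x) (R ⧸ J))
  have gen : ∀ J' : Ideal R, J = J' → ∃ (_ : HenselianLocalRing (R ⧸ J'))
      (_ : IsSepClosed (ResidueField (R ⧸ J'))), EtDepth.DepthGE (FEt.puncturedSpec (R ⧸ J')).ι
        (EtCoh.const (Spec (CommRingCat.of (R ⧸ J'))) (ZMod ℓ)) q := by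
    rintro J' rfl
    exact key
  obtain ⟨_, _, hq'⟩ := gen _ hJ
  let σS := Hens2.specOf S s RS
  have hG : EtDepth.IsLTorsion ℓ ((EtCoh.pull σS).obj F) :=
    isLTorsion_depth hℓ (isLTorsion_pull' σS _ F (isLTorsion_acyc hℓ hF))
  have h := depthGE_pull_main φ hℓ q hq' hA p _ hG (hp RS)
  refine depthGE_of_iso _ ?_ _ h
  exact (EtConsAb.pullComp σS (Spec.map (CommRingCat.ofHom φ))).app F ≪≫
    (EtConsAb.pullCongr hsq).app F ≪≫ ((EtConsAb.pullComp f (Hens2.specOf X x R)).app F).symm

end Groth.Agent.EtAcDepth
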