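import Groth.Agent.EtAcDepth.FlatConn
import Groth.Agent.EtAcDepth.Point
import Groth.Agent.EtDepthLoc.Main
import Groth.Agent.S2135

/-!
# Depth one and two of the constants on flat schemes with separable fibres
-/

set_option autoImplicit false
set_option backward.isDefEq.respectTransparency false

universe u

open CategoryTheory CategoryTheory.Limits AlgebraicGeometry Opposite IsLocalRing
open scoped TensorProduct

noncomputable section

namespace Groth.Agent.EtAcDepth

open Groth.Agent Groth.Agent.EtaleSite Groth.Agent.EtaleSite.ConstSections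

theorem cst_bijective_of_connected (W : Scheme.{u}) [ConnectedSpace W] (M : AddCommGrpCat.{u + 1}) :
    Function.Bijective fun c : M => cst (EtCoh.top W) c := by
  obtain ⟨w⟩ : Nonempty ↥W := inferInstance
  let T := EtCoh.top W
  haveI : ConnectedSpace T.left := inferInstanceAs (ConnectedSpace W)
  refine ⟨fun c d h => cst_injective (show T.left from w) h, fun s => ?_⟩
  obtain ⟨c, hc⟩ := EtDepthLib.exists_level T s w
  have hu := (EtDepthLib.isClopen_sectSupp T (s - cst T c)).compl.eq_univ ⟨w, hc⟩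
  refine ⟨c, (sub_eq_zero.1 (EtShriekLib.eq_zero_of_sectSupp_empty _ _ ?_)).symm⟩
  exact Set.compl_univ_iff.1 hu

theorem isLTorsion_const (X : Scheme.{u}) (ℓ : ℕ) :
    EtDepth.IsLTorsion ℓ (EtCoh.const X (ZMod ℓ)) := by
  intro U s x
  let M : AddCommGrpCat.{u + 1} := AddCommGrpCat.of (ULift.{u + 1} (ZMod ℓ))
  have := (etaConst_locallyBijective (X := X) M).2
  obtain ⟨V, g, v, ⟨c, hc⟩, hv⟩ := exists_of_mem_topology
    (Presheaf.imageSieve_mem X.smallEtaleTopology (etaConst (X := X) M) s) x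
  refine ⟨V, g, ⟨v, hv⟩, 1, ?_⟩
  rw [← hc, pow_one]
  refine (map_nsmul ((etaConst (X := X) M).app (op V)).hom ℓ c).symm.trans ?_
  have : ℓ • c = 0 := by
    refine ULift.ext _ _ ?_
    show ℓ • c.down = 0
    rw [nsmul_eq_mul, ZMod.natCast_self, zero_mul]
  exact (congrArg ((etaConst (X := X) M).app (op V)).hom this).trans (map_zero _)

theorem isLocAcyclicLE_zero {X S : Scheme.{u}} (f : X ⟶ S) [Flat f]
    (hsep : ∀ (K : Type u) [Field K] (k : Spec (CommRingCat.of K) ⟶ S), IsReduced (pullback f k))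
    (h : IsLocallyNoetherian X ∧ IsLocallyNoetherian S) (ℓ : ℕ) :
    EtDepth.IsLocAcyclicLE f ℓ 0 := by
  intro x RS RX _ _ _ _ _ _ _ _ _ hX _ _ hc Ω _ _ _ _ q hq
  obtain rfl : q = 0 := by omega
  haveI := hX.henselian
  haveI := hX.isSepClosure.sep_closed
  haveI := geometricallyConnected_strictLoc f hsep (Or.inl h) x RS RX hc
  let c := Spec.map (CommRingCat.ofHom (algebraMap RS RX))
  let s := Spec.map (CommRingCat.ofHom (algebraMap RS Ω))
  haveI : ConnectedSpace ↥(pullback c s) :=
    GeometricallyConnected.geometrically_connectedSpace (f := c) s _ _ (IsPullback.of_hasPullback c s)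
  haveI : ConnectedSpace ↥(Spec (CommRingCat.of (RX ⊗[RS] Ω))) :=
    (pullbackSpecIso RS RX Ω).hom.homeomorph.connectedSpace_iff.1 ‹_›
  exact EtRestLib.Hpull_bijective_const _ _ (EtRestLib.cst_bijective RX _)
    (cst_bijective_of_connected _ _)

section Local

variable (R : Type u) [CommRing R] [HenselianLocalRing R] [IsSepClosed (ResidueField R)]

theorem depthGE_one_of_nonempty (h : Nonempty ↥(FEt.puncturedSpec R).toScheme) (ℓ : ℕ) :
    EtDepth.DepthGE (FEt.puncturedSpec R).ι (EtCoh.const (Spec (CommRingCat.of R)) (ZMod ℓ)) 1 := by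
  refine depthGE_of_cond R 1 _ ((EtDepthLib.cond_one_iff _ _).2 ?_)
  obtain ⟨w⟩ := h
  let j := (FEt.puncturedSpec R).ι
  let p := geomPointAt (FEt.puncturedSpec R).toScheme w
  haveI : PreservesFiniteLimits (EtCoh.pull p) := inferInstance
  haveI : PreservesFiniteLimits (EtCoh.pull (p ≫ j)) := inferInstance
  have hb : Function.Injective
      (EtCore.Hpull (p ≫ j) (EtCoh.const (Spec (CommRingCat.of R)) (ZMod ℓ)) 0) :=
    (EtRestLib.Hpull_bijective_const (p ≫ j) _ (EtRestLib.cst_bijective R _)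
      (cst_bijective_of_connected _ _)).1
  have hi := (EtaleSite.HpullComp.Hpull_comp_injective_iff p j 0 _).1.1 hb
  exact fun a b hab => hi (congrArg (EtCore.Hpull p _ 0) hab)

theorem depthGE_two_of_connected (h : ConnectedSpace ↥(FEt.puncturedSpec R).toScheme) (ℓ : ℕ) :
    EtDepth.DepthGE (FEt.puncturedSpec R).ι (EtCoh.const (Spec (CommRingCat.of R)) (ZMod ℓ)) 2 := by
  refine depthGE_of_cond R 2 _ ⟨fun p hp => ?_, fun p hp => ?_⟩
  · obtain rfl : p = 0 := by omega
    exact EtRestLib.Hpull_bijective_const _ _ (EtRestLib.cst_bijective R _)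
      (cst_bijective_of_connected _ _)
  · haveI := subsingleton_H R (EtCoh.const (Spec (CommRingCat.of R)) (ZMod ℓ)) p (by omega)
    exact fun a b _ => Subsingleton.elim a b

theorem nonempty_punct (h : ∃ q : PrimeSpectrum R, q ≠ closedPoint R) :
    Nonempty ↥(FEt.puncturedSpec R).toScheme :=
  let ⟨q, hq⟩ := h
  ⟨⟨q, hq⟩⟩

theorem connectedSpace_punct (hu : CAlgX.HasUniqueMinimalPrime R)
    (h : ∃ q : PrimeSpectrum R, q ≠ closedPoint R) :
    ConnectedSpace ↥(FEt.puncturedSpec R).toScheme := by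
  obtain ⟨P, hP, huniq⟩ := hu
  haveI := hP.1.1
  have hle : ∀ q : PrimeSpectrum R, P ≤ q.asIdeal := fun q => by
    obtain ⟨p, hp, hpq⟩ := Ideal.exists_minimalPrimes_le (I := ⊥) (J := q.asIdeal) bot_le
    exact huniq p hp ▸ hpq
  let η : PrimeSpectrum R := ⟨P, hP.1.1⟩
  have hη : η ≠ closedPoint R := fun he => by
    obtain ⟨q, hq⟩ := h
    refine hq (PrimeSpectrum.ext (le_antisymm (IsLocalRing.le_maximalIdeal q.isPrime.ne_top) ?_))
    exact (congrArg PrimeSpectrum.asIdeal he).symm.le.trans (hle q)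
  let η' : ↥(FEt.puncturedSpec R).toScheme := ⟨η, hη⟩
  have hd : closure {η'} = Set.univ := by
    refine Set.eq_univ_of_forall fun q => ?_
    refine specializes_iff_mem_closure.1 ?_
    refine (Topology.IsInducing.subtypeVal).specializes_iff.1 ?_
    exact (PrimeSpectrum.le_iff_specializes η q.1).1 (hle q.1)
  refine connectedSpace_iff_univ.2 ?_
  rw [← hd]
  exact isConnected_singleton.closure

end Local

/-- A nonclosed point lifts to the strict henselization. -/
theorem exists_ne_closedPoint (A R : Type u) [CommRing A] [IsLocalRing A] [CommRing R] [IsLocalRing R]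
    [Algebra A R] [IsLocalHom (algebraMap A R)] [Hensel.IsStrictHenselization A R]
    (h : ∃ q : PrimeSpectrum A, q ≠ closedPoint A) : ∃ q : PrimeSpectrum R, q ≠ closedPoint R := by
  haveI := Hens.faithfullyFlat_of_isStrictHenselization (R := A) (S := R)
  obtain ⟨q, hq⟩ := h
  obtain ⟨r, rfl⟩ := PrimeSpectrum.comap_surjective_of_faithfullyFlat (B := R) q
  exact ⟨r, fun he => hq (he ▸ IsLocalRing.comap_closedPoint (algebraMap A R))⟩

theorem exists_ne_closedPoint_of_dim (A : Type u) [CommRing A] [IsLocalRing A]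
    (h : (1 : WithBot ℕ∞) ≤ ringKrullDim A) : ∃ q : PrimeSpectrum A, q ≠ closedPoint A := by
  by_contra hq
  push Not at hq
  haveI : Subsingleton (PrimeSpectrum A) := ⟨fun a b => (hq a).trans (hq b).symm⟩
  have : ringKrullDim A ≤ 0 := Order.krullDim_nonpos_of_subsingleton
  exact absurd (h.trans this) (by decide)

/-- A point of a closed nowhere dense set is a proper specialisation. -/
theorem exists_ne_closedPoint_stalk (S : Scheme.{u}) [IsLocallyNoetherian S] {Z : Set S}
    (hZ : IsClosed Z) (hd : interior Z = ∅) (s : S) (hs : s ∈ Z) :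
    ∃ q : PrimeSpectrum (S.presheaf.stalk s), q ≠ closedPoint (S.presheaf.stalk s) := by
  obtain ⟨_, ⟨U, hU, rfl⟩, hsU, -⟩ :=
    S.isBasis_affineOpens.exists_subset_of_mem_open (Set.mem_univ s) isOpen_univ
  haveI : IsAffine (U : Scheme.{u}) := hU
  haveI : IsNoetherian (U : Scheme.{u}) := {}
  haveI : TopologicalSpace.NoetherianSpace ↥(U : Scheme.{u}) := inferInstance
  let s' : ↥(U : Scheme.{u}) := ⟨s, hsU⟩
  obtain ⟨o, ho, ⟨a, ha⟩, hoC⟩ :=
    TopologicalSpace.NoetherianSpace.exists_isOpen_nonempty_subset_irreducibleComponent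
      (irreducibleComponent s') (irreducibleComponent_mem_irreducibleComponents s')
  have ho' : IsOpen (Subtype.val '' o : Set S) := U.2.isOpenMap_subtype_val o ho
  obtain ⟨_, ⟨b, hb, rfl⟩, hbZ⟩ : ∃ y ∈ (Subtype.val '' o : Set S), y ∉ Z := by
    by_contra hcon
    push Not at hcon
    have := (ho'.subset_interior_iff.2 hcon) ⟨a, ha, rfl⟩
    rw [hd] at this
    exact this
  have hg := (isIrreducible_irreducibleComponent (x := s')).isGenericPoint_genericPoint
    isClosed_irreducibleComponent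
  set η := (isIrreducible_irreducibleComponent (x := s')).genericPoint
  have h1 : η.1 ⤳ b.1 := (hg.specializes (hoC hb)).map continuous_subtype_val
  have h2 : η.1 ⤳ s :=
    (hg.specializes (mem_irreducibleComponent (x := s'))).map continuous_subtype_val
  have h3 : η.1 ∉ Z := fun hη => hbZ (h1.mem_closed hZ hη)
  obtain ⟨q, hq⟩ : η.1 ∈ Set.range (S.fromSpecStalk s) := by
    rw [Scheme.range_fromSpecStalk]
    exact h2
  refine ⟨q, fun he => h3 ?_⟩
  rw [← hq, he]
  exact (S.fromSpecStalk_closedPoint (x := s)).symm ▸ hs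

theorem depthAtGE_const (X : Scheme.{u}) (x : X) (ℓ n : ℕ)
    (h : ∀ (R : Type u) [CommRing R] [HenselianLocalRing R] [IsSepClosed (ResidueField R)]
      [Algebra (X.presheaf.stalk x) R] [IsLocalHom (algebraMap (X.presheaf.stalk x) R)]
      [Hensel.IsStrictHenselization (X.presheaf.stalk x) R],
      EtDepth.DepthGE (FEt.puncturedSpec R).ι (EtCoh.const (Spec (CommRingCat.of R)) (ZMod ℓ)) n) :
    EtDepth.DepthAtGE X (EtCoh.const X (ZMod ℓ)) x n := by
  intro R _ _ _ _ hR
  haveI := hR.henselian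
  haveI := hR.isSepClosure.sep_closed
  exact depthGE_of_iso _ (EtCore.pullConst _ (ZMod ℓ)).symm n (h R)

theorem depthGE_two_const {X U S : Scheme.{u}} [IsLocallyNoetherian X] [IsLocallyNoetherian S]
    (f : X ⟶ S) [Flat f]
    (hsep : ∀ (K : Type u) [Field K] (k : Spec (CommRingCat.of K) ⟶ S), IsReduced (pullback f k))
    (j : U ⟶ X) [IsOpenImmersion j] [EtCoh.BCCont j]
    (hY : ∀ y : X, y ∉ Set.range j.base → (1 : WithBot ℕ∞) ≤ ringKrullDim ↑(CInt.fiberStalk f y))
    (hab : IsNowhereDense (f.base '' (Set.range j.base)ᶜ) ∨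
      ∀ y : X, y ∉ Set.range j.base → CAlg2.IsGeomUnibranch ↑(CInt.fiberStalk f y))
    (ℓ : ℕ) (hℓ : ℓ.Prime) : EtDepth.DepthGE j (EtCoh.const X (ZMod ℓ)) 2 := by
  haveI : QuasiCompact j := inferInstance
  refine Groth.Agent.EtDepthLoc.depthGE_of_depthAt j 2 _ fun y hy => ?_
  have hf := isLocAcyclicLE_zero f hsep ⟨inferInstance, inferInstance⟩ ℓ
  have hfib : ∀ x' : ↥(f.fiber (f.base y)), (f.fiberι (f.base y)).base x' = y → x' = f.asFiber y :=
    fun x' hx' => (f.fiberι (f.base y)).isEmbedding.injective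
      (hx'.trans (f.fiberι_asFiber y).symm)
  have key : EtDepth.DepthAtGE X ((EtCoh.pull f).obj (EtCoh.const S (ZMod ℓ))) y 2 := by
    rcases hab with ha | hb
    · refine depthAtGE_pull f y inferInstance hℓ 0 1 1 _ (isLTorsion_const S ℓ) hf
        (depthAtGE_const S _ ℓ 1 fun R _ _ _ _ _ _ => depthGE_one_of_nonempty R (nonempty_punct R
          (exists_ne_closedPoint (S.presheaf.stalk (f.base y)) R
            (exists_ne_closedPoint_stalk S isClosed_closure ha (f.base y)
              (subset_closure ⟨y, hy, rfl⟩)))) ℓ) fun x' hx' => ?_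
      obtain rfl := hfib x' hx'
      exact depthAtGE_const _ _ ℓ 1 fun R _ _ _ _ _ _ => depthGE_one_of_nonempty R (nonempty_punct R
        (exists_ne_closedPoint _ R (exists_ne_closedPoint_of_dim _ (hY y hy)))) ℓ
    · refine depthAtGE_pull f y inferInstance hℓ 0 0 2 _ (isLTorsion_const S ℓ) hf
        (fun R _ _ _ _ _ i hi => absurd hi (Nat.not_lt_zero i)) fun x' hx' => ?_
      obtain rfl := hfib x' hx'
      exact depthAtGE_const _ _ ℓ 2 fun R _ _ _ _ _ hR => depthGE_two_of_connected R
        (connectedSpace_punct R ((Groth.Agent.S2135.result (Ash := R)).1 (hb y hy))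
          (exists_ne_closedPoint _ R (exists_ne_closedPoint_of_dim _ (hY y hy)))) ℓ
  intro R _ _ _ _ _
  exact depthGE_of_iso _ ((EtCoh.pull _).mapIso (EtCore.pullConst f (ZMod ℓ))) 2 (key R)

end Groth.Agent.EtAcDepth
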