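import Groth.Agent.EtAcDepth.PointCover
import Groth.Agent.EtAcDepth.Acyc
import Groth.Agent.EtAcDepth.FibreLimit
import Groth.Agent.EtAcDepth.FlatDepth
import Groth.Prelude.Def_EtAcyc
import Mathlib.AlgebraicGeometry.Morphisms.FormallyUnramified

/-!
# Local acyclicity at algebraic geometric points
-/

set_option autoImplicit false
set_option backward.isDefEq.respectTransparency false
set_option linter.style.haveILetI false

universe u

open CategoryTheory CategoryTheory.Limits AlgebraicGeometry Opposite IsLocalRing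

noncomputable section

namespace Groth.Agent.EtAcDepth

open Groth.Agent Groth.Agent.EtaleSite Groth.Agent.EtaleSite.ConstSections

/-- The fibres at algebraic geometric points are acyclic for the primes of `L` up to degree `m`. -/
def GoodA (R S : Type u) [CommRing R] [CommRing S] [Algebra R S] (L : Set ℕ) (m : ℕ) : Prop :=
  ∀ (Ω : Type u) [Field Ω] [IsSepClosed Ω] [Algebra R Ω], AlgPt R Ω → ∀ ℓ : ℕ, ℓ.Prime → ℓ ∈ L →
    GoodScheme (pullback (Spec.map (CommRingCat.ofHom (algebraMap R S)))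
      (Spec.map (CommRingCat.ofHom (algebraMap R Ω)))) ℓ m

/-- Local acyclicity at algebraic geometric points. -/
def AcycA {X S : Scheme.{u}} (f : X ⟶ S) (L : Set ℕ) (m : ℕ) : Prop :=
  ∀ (x : X) (RS RX : Type u) [CommRing RS] [CommRing RX] [IsLocalRing RS] [IsLocalRing RX]
    [Algebra (S.presheaf.stalk (f.base x)) RS] [IsLocalHom (algebraMap (S.presheaf.stalk (f.base x)) RS)]
    [Hensel.IsStrictHenselization (S.presheaf.stalk (f.base x)) RS]
    [Algebra (X.presheaf.stalk x) RX] [IsLocalHom (algebraMap (X.presheaf.stalk x) RX)]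
    [Hensel.IsStrictHenselization (X.presheaf.stalk x) RX]
    [Algebra RS RX] [IsLocalHom (algebraMap RS RX)],
    (algebraMap RS RX).comp (algebraMap (S.presheaf.stalk (f.base x)) RS) =
      (algebraMap (X.presheaf.stalk x) RX).comp (f.stalkMap x).hom → GoodA RS RX L m

theorem AcycA.of_square {X S X' S' : Scheme.{u}} {f : X ⟶ S} {L : Set ℕ} {m : ℕ} (hf : AcycA f L m)
    (f' : X' ⟶ S') {g₁ : X' ⟶ X} {g₂ : S' ⟶ S} (h₁ : SHStable g₁) (h₂ : SHStable g₂)
    (w : f' ≫ g₂ = g₁ ≫ f) : AcycA f' L m := by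
  intro x' RS RX _ _ _ _ _ _ _ _ _ _ _ _ hc
  have hs : g₂ (f'.base x') = f.base (g₁ x') := congrArg (fun k : X' ⟶ S => k x') w
  obtain ⟨algS, locS, hS, eS⟩ := exists_alg h₂ (f'.base x') RS _ hs
  obtain ⟨algX, locX, hX, eX⟩ := exists_alg h₁ x' RX _ rfl
  refine hf (g₁ x') RS RX ?_
  haveI : IsLocalHom ((algebraMap RS RX).comp (algebraMap (S.presheaf.stalk (f.base (g₁ x'))) RS)) :=
    RingHom.isLocalHom_comp _ _
  haveI : IsLocalHom ((algebraMap (X.presheaf.stalk (g₁ x')) RX).comp (f.stalkMap (g₁ x')).hom) :=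
    RingHom.isLocalHom_comp _ _
  have i1 : IsLocalHom (CommRingCat.ofHom ((algebraMap RS RX).comp
      (algebraMap (S.presheaf.stalk (f.base (g₁ x'))) RS))).hom := by
    rw [CommRingCat.hom_ofHom]; infer_instance
  have i2 : IsLocalHom (CommRingCat.ofHom ((algebraMap (X.presheaf.stalk (g₁ x')) RX).comp
      (f.stalkMap (g₁ x')).hom)).hom := by
    rw [CommRingCat.hom_ofHom]; infer_instance
  refine congrArg CommRingCat.Hom.hom (@StrictHens.SchemeBC.stalk_hom_ext _
    (CommRingCat.of RX) (inferInstanceAs (IsLocalRing RX)) (f.base (g₁ x'))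
    (CommRingCat.ofHom ((algebraMap RS RX).comp (algebraMap (S.presheaf.stalk (f.base (g₁ x'))) RS)))
    (CommRingCat.ofHom ((algebraMap (X.presheaf.stalk (g₁ x')) RX).comp (f.stalkMap (g₁ x')).hom))
    i1 i2 ?_)
  rw [CommRingCat.ofHom_comp, CommRingCat.ofHom_comp, CommRingCat.ofHom_hom, Spec.map_comp,
    Spec.map_comp, Category.assoc, Category.assoc, Scheme.SpecMap_stalkMap_fromSpecStalk]
  show Spec.map (CommRingCat.ofHom (algebraMap RS RX)) ≫ Hens2.specOf S (f.base (g₁ x')) RS = _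
  rw [eS, ← Category.assoc, specOf_comp_of_comm f' x' RS RX hc, Category.assoc, w, ← Category.assoc,
    ← eX]
  exact Category.assoc _ _ _

theorem acycA_of_isLocAcyclicN {X S : Scheme.{u}} {f : X ⟶ S} {L : Set ℕ} {m : ℕ}
    (hf : EtAcyc.IsLocAcyclicN f L m) : AcycA f L m := by
  intro x RS RX _ _ _ _ _ _ _ _ _ _ _ _ hc Ω _ _ _ hΩ ℓ hℓ hℓL
  have h := hf x RS RX hc
  haveI : (RingHom.ker (algebraMap RS Ω)).IsPrime := RingHom.ker_isPrime _
  exact goodScheme_fibre_of_compN (Spec.map (CommRingCat.ofHom (algebraMap RS RX))) L m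
    (fun W _ => h W) (RingHom.ker (algebraMap RS Ω)) rfl (fun z => hΩ z) hℓ hℓL

/-- Étale morphisms preserve strict henselizations. -/
theorem shStable_of_etale {W X : Scheme.{u}} (g : W ⟶ X) [Etale g] : SHStable g := by
  intro z R _ _ _ _ hS
  letI := mapAlg g z R
  haveI := isLocalHom_mapAlg g z R
  haveI := hS.henselian
  haveI := hS.isSepClosure.sep_closed
  obtain ⟨V, hV, hxV, -⟩ := exists_isAffineOpen_mem_and_subset (X := X) (U := ⊤) (x := g z) trivial
  obtain ⟨V', hV', hzV', hle⟩ := exists_isAffineOpen_mem_and_subset (X := W) (U := g ⁻¹ᵁ V) (x := z) hxV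
  let φ := g.appLE V V' hle
  have hφ : φ.hom.Etale := HasRingHomProperty.appLE @Etale g ‹Etale g› ⟨V, hV⟩ ⟨V', hV'⟩ hle
  letI : Algebra Γ(X, V) Γ(W, V') := φ.hom.toAlgebra
  haveI hA : Algebra.Etale Γ(X, V) Γ(W, V') := RingHom.etale_algebraMap.1 hφ
  letI := TopCat.Presheaf.algebra_section_stalk W.presheaf ⟨z, hzV'⟩
  letI := TopCat.Presheaf.algebra_section_stalk X.presheaf ⟨g z, hxV⟩
  haveI := hV'.isLocalization_stalk ⟨z, hzV'⟩
  haveI := hV.isLocalization_stalk ⟨g z, hxV⟩
  letI : Algebra Γ(W, V') R :=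
    ((algebraMap (W.presheaf.stalk z) R).comp (algebraMap Γ(W, V') (W.presheaf.stalk z))).toAlgebra
  haveI : IsScalarTower Γ(W, V') (W.presheaf.stalk z) R := .of_algebraMap_eq fun _ => rfl
  have hR := EtLimit.fac_et_strictHenselization (A := Γ(W, V')) (L := W.presheaf.stalk z) (R := R)
    (hV'.primeIdealOf ⟨z, hzV'⟩).asIdeal
  letI : Algebra Γ(X, V) R := ((algebraMap Γ(W, V') R).comp φ.hom).toAlgebra
  haveI : IsScalarTower Γ(X, V) Γ(W, V') R := .of_algebraMap_eq fun _ => rfl
  have hfac := IndAlg.Etale.fac_trans (IndAlg.fac_self (Q := IndAlg.Etale.Et Γ(X, V)) hA) hR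
  haveI : IsScalarTower Γ(X, V) (X.presheaf.stalk (g z)) R := .of_algebraMap_eq fun s => by
    have e : φ ≫ W.presheaf.germ V' z hzV' = X.presheaf.germ V (g z) hxV ≫ g.stalkMap z := by
      rw [Scheme.Hom.germ_stalkMap]
      show (g.app V ≫ W.presheaf.map _) ≫ _ = _
      rw [Category.assoc, TopCat.Presheaf.germ_res]
    exact congrArg (algebraMap (W.presheaf.stalk z) R) (RingHom.congr_fun (congrArg CommRingCat.Hom.hom e) s)
  exact isStrictHenselization_of_fac Γ(X, V) (X.presheaf.stalk (g z)) R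
    (hV.primeIdealOf ⟨g z, hxV⟩).asIdeal hfac

/-- An algebraic point followed by a morphism with algebraic residue extensions is a geometric point. -/
theorem exists_geomPt {A : Type u} [CommRing A] {Y : Scheme.{u}} (h : Spec (CommRingCat.of A) ⟶ Y)
    (halg : ∀ w, (h.residueFieldMap w).hom.IsIntegral) {Ω : Type u} [Field Ω] [Algebra A Ω]
    (hΩ : AlgPt A Ω) : ∃ (y : Y) (_ : Algebra (Y.residueField y) Ω),
      Algebra.IsAlgebraic (Y.residueField y) Ω ∧
        EtAcyc.geomPt Y y Ω = Spec.map (CommRingCat.ofHom (algebraMap A Ω)) ≫ h := by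
  let U := Spec (CommRingCat.of A)
  let a : Spec (CommRingCat.of Ω) ⟶ U := Spec.map (CommRingCat.ofHom (algebraMap A Ω))
  obtain ⟨w, γ, hγ⟩ : ∃ (w : U) (γ : U.residueField w ⟶ CommRingCat.of Ω),
      Spec.map γ ≫ U.fromSpecResidueField w = a := ⟨_, _, (Scheme.SpecToEquivOfField Ω U).left_inv a⟩
  let c := h.residueFieldMap w
  letI : Algebra (Y.residueField (h w)) Ω := (γ.hom.comp c.hom).toAlgebra
  refine ⟨h w, inferInstance, ?_, ?_⟩
  · let ev : CommRingCat.of A ⟶ U.residueField w := StructureSheaf.toStalk A w ≫ U.residue w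
    have he : ev ≫ γ = CommRingCat.ofHom (algebraMap A Ω) := Spec.map_injective (by
      refine Eq.trans ?_ hγ
      show _ = Spec.map γ ≫ Spec.map (U.residue w) ≫ U.fromSpecStalk w
      rw [Spec.fromSpecStalk_eq', ← Spec.map_comp, ← Spec.map_comp, Category.assoc])
    letI : Algebra (U.residueField w) Ω := γ.hom.toAlgebra
    letI : Algebra (Y.residueField (h w)) (U.residueField w) := c.hom.toAlgebra
    haveI : IsScalarTower (Y.residueField (h w)) (U.residueField w) Ω := .of_algebraMap_eq fun _ => rfl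
    haveI : Algebra.IsIntegral (Y.residueField (h w)) (U.residueField w) := ⟨halg w⟩
    haveI : Algebra.IsIntegral (U.residueField w) Ω := ⟨fun z => by
      obtain ⟨b, hb, P, hP, hz⟩ := hΩ z
      have he' : γ.hom.comp ev.hom = algebraMap A Ω := congrArg CommRingCat.Hom.hom he
      have hi : IsIntegral (U.residueField w) (algebraMap A Ω b * z) :=
        ⟨P.map ev.hom, hP.map _, by rw [Polynomial.eval₂_map]; exact (congrArg (fun f => Polynomial.eval₂ f _ P) he').trans hz⟩
      have hc : algebraMap (U.residueField w) Ω (ev.hom b) = algebraMap A Ω b := RingHom.congr_fun he' b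
      have := (isIntegral_algebraMap (A := Ω) (x := (ev.hom b)⁻¹)).mul hi
      rwa [map_inv₀, hc, ← mul_assoc, inv_mul_cancel₀ hb, one_mul] at this⟩
    haveI := Algebra.IsIntegral.trans (R := Y.residueField (h w)) (U.residueField w) (B := Ω)
    infer_instance
  · show Spec.map (CommRingCat.ofHom (γ.hom.comp c.hom)) ≫ Y.fromSpecResidueField (h w) = a ≫ h
    rw [← hγ, CommRingCat.ofHom_comp, CommRingCat.ofHom_hom, CommRingCat.ofHom_hom, Spec.map_comp,
      Category.assoc, Category.assoc, Scheme.Hom.SpecMap_residueFieldMap_fromSpecResidueField]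

theorem goodScheme_of_isAcyclicSchemeN {W : Scheme.{u}} {L : Set ℕ} {n : ℕ}
    (h : EtAcyc.IsAcyclicSchemeN L n W) {ℓ : ℕ} (hℓ : ℓ.Prime) (hℓL : ℓ ∈ L) : GoodScheme W ℓ n := by
  obtain ⟨hne, hc, hH⟩ := h
  haveI := hc
  refine ⟨fun q h1 h2 => hH ℓ hℓ hℓL q h1 h2, ?_⟩
  let M : AddCommGrpCat.{u + 1} := AddCommGrpCat.of (ULift.{u + 1} (ZMod ℓ))
  let u₀ : M →+ EtCoh.sect (cSheaf W M) (EtCoh.top W) :=
    AddMonoidHom.mk' (fun c => cst (EtCoh.top W) c) fun a b => by simp [cst]
  exact ⟨((Sheaf.H.equiv₀ _ (EtCore.topIsTerminal _)).trans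
    (AddEquiv.ofBijective u₀ (cst_bijective_of_connected W M)).symm).trans AddEquiv.ulift⟩

theorem acycA_of_onStrictLocalizations {X S : Scheme.{u}} {f : X ⟶ S} {L : Set ℕ} {n : ℕ}
    (hf : EtAcyc.OnStrictLocalizations f (fun _ _ h => EtAcyc.GeomFibresAcyclicN L n h)) :
    AcycA f L n := by
  intro x RS RX _ _ _ _ _ _ _ _ _ _ _ _ hc Ω _ _ _ hΩ ℓ hℓ hℓL
  obtain ⟨y, alg, hy, e⟩ := exists_geomPt (𝟙 (Spec (CommRingCat.of RS)))
    (fun w => RingHom.isIntegral_of_surjective _
      (ConcreteCategory.bijective_of_isIso (Scheme.Hom.residueFieldMap (𝟙 (Spec (CommRingCat.of RS))) w)).2) hΩ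
  rw [Category.comp_id] at e
  have := goodScheme_of_isAcyclicSchemeN (hf x RS RX hc y Ω) hℓ hℓL
  exact this.of_iso (pullback.congrHom rfl e.symm)

end Groth.Agent.EtAcDepth
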