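import Groth.Agent.EtAcDepth.Acyc
import Groth.Agent.EtAcDepth.Leray
import Groth.Agent.EtZarFlasque.Const
import Groth.Agent.EtDescSS.Etale
import Groth.Agent.EtConsAb.GenericPush

/-!
# Constant sheaves on normal schemes with separably closed function field, and base change
-/

set_option autoImplicit false
set_option backward.isDefEq.respectTransparency false

universe u

open CategoryTheory CategoryTheory.Limits AlgebraicGeometry Opposite

noncomputable section

namespace Groth.Agent.EtAcDepth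

open Groth.Agent Groth.Agent.EtaleSite Groth.Agent.EtaleSite.ConstSections

section Flasque

variable {X : Scheme.{u}} [IsIntegral X] (hN : ∀ x : X, IsIntegrallyClosed (X.presheaf.stalk x))
  [IsSepClosed X.functionField] (M : AddCommGrpCat.{u + 1})

include hN in
theorem cst_top_bijective_normal : Function.Bijective fun c : M => cst (EtCoh.top X) c := by
  have hX := EtZarFlasque.forall_isSH hN
  haveI : Nonempty ↥X := inferInstance
  obtain ⟨x₀⟩ := ‹Nonempty ↥X›
  refine ⟨fun a b h => cst_injective (show (EtCoh.top X).left from x₀) h, fun s => ?_⟩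
  choose D c hD hDc using EtZarFlasque.exists_cst_nhd hX M s
  refine ⟨c x₀, (eq_of_pieces (cSheaf X M) D (fun x => ⟨x, hD x⟩) s (cst _ (c x₀)) fun x => ?_).symm⟩
  rw [hDc, map_cst]
  haveI : PreirreducibleSpace ↥(EtCoh.top X).left := inferInstanceAs (PreirreducibleSpace ↥X)
  have hmeet : ((D x : Set (EtCoh.top X).left) ∩ (D x₀ : Set (EtCoh.top X).left)).Nonempty :=
    nonempty_preirreducible_inter (D x).2 (D x₀).2 ⟨x, hD x⟩ ⟨x₀, hD x₀⟩
  obtain ⟨z, hz, hz'⟩ := hmeet
  exact congrArg _ (EtZarFlasque.cst_unique M (hDc x) (hDc x₀) hz hz')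

include hN in
theorem subsingleton_H_normal (q : ℕ) : Subsingleton (EtCoh.H X (cSheaf X M) (q + 1)) := by
  have hX := EtZarFlasque.forall_isSH hN
  have h := EtZarFlasque.isFlasque_of_surj (EtZarFlasque.allSH hX) _ (EtZarFlasque.surj_const hX M)
  have := (Flasque.subsingleton_H_iff (EtCoh.top X) (cSheaf X M) (q + 1)).2
    (h (EtCoh.top X) (q + 1) q.succ_pos)
  exact (((EtCoh.HF X (q + 1)).mapIso ((HpullComp.pullId X).app (cSheaf X M))).addCommGroupIsoToAddEquiv.toEquiv).subsingleton_congr.1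
    this

end Flasque

section Surj

variable {X Y : Scheme.{u}} (v : X ⟶ Y) [PreservesFiniteLimits (EtCoh.pull v)]

/-- Inverse image along a surjective morphism is faithful. -/
theorem eq_zero_of_pull [Surjective v] {A B : EtCoh.Ab Y} (a : A ⟶ B) (h : (EtCoh.pull v).map a = 0) :
    a = 0 := by
  let S := ShortComplex.mk (kernel.ι a) (0 : A ⟶ A) comp_zero
  haveI : Epi ((EtCoh.pull v).map (kernel.ι a)) := by
    haveI : Epi (kernel.ι ((EtCoh.pull v).map a)) :=
      epi_of_epi_fac (kernel.lift_ι ((EtCoh.pull v).map a) (𝟙 _) (by rw [h, comp_zero]))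
    rw [show (EtCoh.pull v).map (kernel.ι a) =
      (PreservesKernel.iso (EtCoh.pull v) a).hom ≫ kernel.ι ((EtCoh.pull v).map a) by
        rw [PreservesKernel.iso_hom, kernelComparison_comp_ι]]
    exact epi_comp _ _
  have hex : S.Exact := EtDescSS.Etale.exact_of_pull v S
    ((ShortComplex.exact_iff_epi _ (Functor.map_zero _ _ _)).2 ‹_›)
  haveI : Epi (kernel.ι a) := (S.exact_iff_epi rfl).1 hex
  rw [← cancel_epi (kernel.ι a), kernel.condition, comp_zero]

theorem Hpull_zero_injective_of_surjective [Surjective v] (F : EtCoh.Ab Y) :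
    Function.Injective (EtCore.Hpull v F 0) := by
  rw [injective_iff_map_eq_zero]
  intro x hx
  obtain ⟨a, rfl⟩ := (Abelian.Ext.mk₀_bijective _ _).2 x
  rw [HpullComp.Hpull_mk₀, ← Abelian.Ext.mk₀_zero] at hx
  have h := (Abelian.Ext.mk₀_bijective _ _).1 hx
  have h0 : (EtCoh.pull v).map a = 0 := (cancel_epi (EtCore.pullConst v ℤ).inv).1 (h.trans comp_zero.symm)
  rw [eq_zero_of_pull v a h0, Abelian.Ext.mk₀_zero]

end Surj

section Dense

variable {X P : Scheme.{u}} (g : P ⟶ X)

/-- The unit at a constant sheaf is injective if every point generises into the image. -/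
theorem mono_unit_const (hg : ∀ x : X, ∃ p : P, g p ⤳ x) (M : AddCommGrpCat.{u + 1}) :
    Mono ((EtCoh.pullPushAdj g).unit.app (cSheaf X M)) := by
  let G := cSheaf X M
  let u₀ : G ⟶ (EtCoh.push g).obj ((EtCoh.pull g).obj G) := (EtCoh.pullPushAdj g).unit.app G
  refine (EtaleSite.mono_iff_stalk u₀).2 fun Ω _ _ ξ => ?_
  obtain ⟨φ₀, -⟩ := exists_fiber_point ξ (EtCoh.top X) (ξ default) rfl
  rw [injective_iff_map_eq_zero]
  intro q hq
  obtain ⟨c, rfl⟩ := EtConsAb.germ_cst_surjective ξ (EtCoh.top X) φ₀ q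
  have hq' : germ ξ ((EtCoh.push g).obj ((EtCoh.pull g).obj G)) (EtCoh.top X) φ₀
      (EtConsAb.pullSect g G (EtCoh.top X) (cst (EtCoh.top X) c)) = 0 :=
    (germ_naturality ξ u₀ (EtCoh.top X) φ₀ (cst (EtCoh.top X) c)).symm.trans hq
  rw [← map_zero (germ ξ ((EtCoh.push g).obj ((EtCoh.pull g).obj G)) (EtCoh.top X) φ₀).hom] at hq'
  obtain ⟨V, k, v, hv, hV⟩ := (germ_eq_iff ξ _ _ φ₀ _ _).1 hq'
  let v₀ : V.left := v.left (default : Spec (CommRingCat.of Ω))
  obtain ⟨p, hp⟩ := hg (V.hom v₀)
  haveI : Etale V.hom := V.prop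
  obtain ⟨w, -, hw⟩ := Flat.generalizingMap (f := V.hom) hp
  let ζ := geomPointAt P p
  obtain ⟨ψ, -⟩ := exists_fiber_point (ζ ≫ g) V w (by
    rw [Scheme.Hom.comp_apply, geomPointAt_apply, hw])
  have h0 : germ (ζ ≫ g) G V ψ (cst V c) = germ (ζ ≫ g) G V ψ (cst V 0) := by
    have he : EtConsAb.pullSect g G V (cst V c) = 0 := by
      rw [← map_cst k c]
      exact (NatTrans.naturality_apply u₀.hom k.op (cst (EtCoh.top X) c)).trans (hV.trans (map_zero _))
    have h1 := EtConsAb.germ_pullSect g ζ G V ψ (cst V c)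
    rw [he, map_zero] at h1
    have h2 := congrArg ((stalkPullIso g ζ).hom.app G) h1
    rw [map_zero, ← ConcreteCategory.comp_apply, Iso.inv_hom_id_app, ConcreteCategory.id_apply] at h2
    rw [← h2, cst, map_zero, map_zero]
  rw [germ_cst_injective (ζ ≫ g) V ψ h0, cst, map_zero, map_zero]

end Dense

end Groth.Agent.EtAcDepth
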