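import Groth.Agent.EtAcDepth.Closed
import Groth.Agent.S8525

/-!
# Depth of inverse images along locally acyclic morphisms of strictly local schemes
-/

set_option autoImplicit false
set_option backward.isDefEq.respectTransparency false
set_option linter.style.haveILetI false

universe u

open CategoryTheory CategoryTheory.Limits AlgebraicGeometry Opposite IsLocalRing TopologicalSpace

noncomputable section

namespace Groth.Agent.EtAcDepth

open Groth.Agent Groth.Agent.EtaleSite Groth.Agent.EtaleSite.ConstSections Groth.Agent.EtColim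

variable {A : Type u} [CommRing A] [HenselianLocalRing A] [IsSepClosed (ResidueField A)]
  {R : Type u} [CommRing R] [HenselianLocalRing R] [IsSepClosed (ResidueField R)] [IsNoetherianRing R]
  (φ : A →+* R) [IsLocalHom φ] {ℓ m : ℕ} (hℓ : ℓ.Prime) (q : ℕ)
  [HenselianLocalRing (R ⧸ (maximalIdeal A).map φ)]
  [IsSepClosed (ResidueField (R ⧸ (maximalIdeal A).map φ))]
  (hq : EtDepth.DepthGE (FEt.puncturedSpec (R ⧸ (maximalIdeal A).map φ)).ι
    (EtCoh.const (Spec (CommRingCat.of (R ⧸ (maximalIdeal A).map φ))) (ZMod ℓ)) q)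

include hℓ hq in
/-- Sheaves supported at the closed point. -/
theorem depthGE_pull_closed (K : EtCoh.Ab (Spec (CommRingCat.of A))) (hK : EtDepth.IsLTorsion ℓ K)
    (h0 : (EtCoh.pull (FEt.puncturedSpec A).ι).map (𝟙 K) = 0) :
    EtDepth.DepthGE (FEt.puncturedSpec R).ι ((EtCoh.pull (Spec.map (CommRingCat.ofHom φ))).obj K) q := by
  let h := Spec.map (CommRingCat.ofHom φ)
  let I := (maximalIdeal A).map φ
  let i₀ : Spec (CommRingCat.of (ResidueField A)) ⟶ Spec (CommRingCat.of A) :=
    Spec.map (CommRingCat.ofHom (residue A))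
  haveI : IsClosedImmersion i₀ := IsClosedImmersion.spec_of_surjective _ residue_surjective
  have hsupp : EtPBC.supp K ⊆ Set.range i₀.base := by
    rintro y ⟨Ω, _, _, ξ, hξ, hne⟩
    refine ⟨closedPoint (ResidueField A), ?_⟩
    have hy : ξ default = y := hξ.le ⟨_, rfl⟩
    have hyc : y = closedPoint A := by
      by_contra hyne
      refine hne (IsZero.of_iso (X := (EtCoh.stalk ξ).obj K) ?_ (Iso.refl _))
      rcases EtSupp.exists_lift_or_notMem (FEt.puncturedSpec A).ι ξ with ⟨ζ, hζ⟩ | hout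
      · rw [IsZero.iff_id_eq_zero, ← CategoryTheory.Functor.map_id, ← hζ,
          ← NatIso.naturality_1 (EtaleSite.stalkPullIso (FEt.puncturedSpec A).ι ζ) (𝟙 K)]
        simp only [Functor.comp_map, h0]
        simp
      · exact absurd (by rw [range_punct]; exact fun e => hyne (hy.symm.trans ((congrArg ξ (Subsingleton.elim _ _)).trans e))) hout
    rw [hyc]
    exact IsLocalRing.comap_closedPoint (residue A)
  haveI := EtaleSite.isIso_unit_of_supp i₀ K hsupp
  let C := (EtCoh.pull i₀).obj K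
  obtain ⟨eC⟩ := exists_iso_const_field (ResidueField A) C
  let M := C.obj.obj (op (EtCoh.top (Spec (CommRingCat.of (ResidueField A)))))
  have hM : ∀ x : M, ∃ k : ℕ, ℓ ^ k • x = 0 := by
    haveI := isSepClosed_residueField_field (ResidueField A)
    let c := closedPt (ResidueField A)
    let g : M →+ (EtCoh.stalk (c ≫ i₀)).obj K :=
      ((EtaleSite.stalkPullIso i₀ c).hom.app K).hom.comp (germ c C (EtCoh.top _) (topPoint _)).hom
    have hg : Function.Injective g :=
      (ConcreteCategory.bijective_of_isIso ((EtaleSite.stalkPullIso i₀ c).hom.app K)).1.comp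
        (bijective_germ_top (ResidueField A) C).1
    intro x
    obtain ⟨gn, ψ, ⟨k, hk⟩, hgn⟩ := exists_gen_germ_pow hℓ hK (c ≫ i₀) (g x)
    refine ⟨k, hg ?_⟩
    rw [map_nsmul, map_zero, ← hgn, ← map_nsmul, ← hk, gn.killed, map_zero]
  let i' : Spec (CommRingCat.of (R ⧸ I)) ⟶ Spec (CommRingCat.of R) :=
    Spec.map (CommRingCat.ofHom (Ideal.Quotient.mk I))
  let h0' : Spec (CommRingCat.of (R ⧸ I)) ⟶ Spec (CommRingCat.of (ResidueField A)) :=
    Spec.map (CommRingCat.ofHom (Ideal.quotientMap I φ Ideal.le_comap_map))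
  haveI : IsClosedImmersion i' := IsClosedImmersion.spec_of_surjective _ Ideal.Quotient.mk_surjective
  have hpb : IsPullback h0' i' i₀ h := (AlgSp.InfRing.isPullback_quotient (maximalIdeal A) φ).flip
  haveI := isIso_baseChange0_integral i₀ h i' h0' hpb C
  let e : (EtCoh.pull h).obj K ≅ (EtCoh.push i').obj (cSheaf (Spec (CommRingCat.of (R ⧸ I))) M) :=
    (EtCoh.pull h).mapIso (asIso ((EtCoh.pullPushAdj i₀).unit.app K)) ≪≫
      asIso (EtCoh.baseChange0 i₀ h i' h0' hpb.w C) ≪≫
        (EtCoh.push i').mapIso ((EtCoh.pull h0').mapIso eC ≪≫ (EtCore.pullConstIso h0').app M)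
  refine depthGE_of_iso _ e.symm q ?_
  haveI : IsNoetherianRing (R ⧸ I) := inferInstance
  let jZ := (FEt.puncturedSpec (R ⧸ I)).ι
  have hr : Set.range (jZ ≫ i').base ⊆ Set.range (FEt.puncturedSpec R).ι.base := by
    rintro _ ⟨t, rfl⟩
    rw [range_punct]
    intro ht
    have hz : jZ t ∈ FEt.puncturedSpec (R ⧸ I) := t.2
    refine hz ?_
    refine (inferInstance : IsClosedImmersion i').base_closed.injective ?_
    refine ((Scheme.Hom.comp_apply jZ i' t).symm.trans ht).trans ?_
    haveI : IsLocalHom (Ideal.Quotient.mk I) := .of_surjective _ Ideal.Quotient.mk_surjective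
    exact (IsLocalRing.comap_closedPoint (Ideal.Quotient.mk I)).symm
  exact depthGE_push i' _ jZ (IsOpenImmersion.lift _ (jZ ≫ i') hr) (IsOpenImmersion.lift_fac _ _ hr).symm q _
    (depthGE_const_primary (R ⧸ I) hℓ q hq M hM)

omit [HenselianLocalRing A] [IsSepClosed (ResidueField A)] in
theorem isLTorsion_pull' {X Y : Scheme.{u}} (g : X ⟶ Y) (L : Set ℕ) (F : EtCoh.Ab Y) (hF : EtAcyc.IsLTorsion L F) :
    EtAcyc.IsLTorsion L ((EtCoh.pull g).obj F) := by
  refine (Groth.Agent.S8525.result L _).2 fun Ω _ _ ξ t => ?_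
  obtain ⟨m, hm, hz⟩ := (Groth.Agent.S8525.result L F).1 hF Ω (ξ ≫ g) ((stalkPullIso g ξ).hom.app F t)
  rw [← map_nsmul, ← map_zero ((stalkPullIso g ξ).hom.app F).hom] at hz
  exact ⟨m, hm, (ConcreteCategory.bijective_of_isIso ((stalkPullIso g ξ).hom.app F)).1 hz⟩

theorem exists_mono_of_eq {X : Scheme.{u}} {G B : EtCoh.Ab X} (T : ShortComplex (EtCoh.Ab X))
    (h1 : T.X₁ = G) (h2 : T.X₂ = B) (hT : T.ShortExact) : ∃ f : G ⟶ B, Mono f := by
  subst h1; subst h2
  exact ⟨T.f, hT.mono_f⟩

variable (hA : Acyc (Spec.map (CommRingCat.ofHom φ)) ℓ m)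

include hℓ hA in
theorem depthGE_pull_tors_closed [CompactSpace ↥(FEt.puncturedSpec A).toScheme]
    [QuasiSeparatedSpace ↥(FEt.puncturedSpec A).toScheme]
    (J : EtCoh.Ab (FEt.puncturedSpec A).toScheme) [Injective J] :
    EtDepth.DepthGE (FEt.puncturedSpec R).ι ((EtCoh.pull (Spec.map (CommRingCat.ofHom φ))).obj
      ((EtCoh.push (FEt.puncturedSpec A).ι).obj (torsPart ℓ J))) (m + 2) := by
  let w : Spec (CommRingCat.of R) := closedPoint R
  have hlt : ∃ N : ℕ, w.asIdeal.height < N := by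
    obtain ⟨n, hn⟩ := ENat.ne_top_iff_exists.1 (Ideal.height_ne_top_of_isPrime (I := w.asIdeal))
    exact ⟨n + 1, by rw [← hn]; exact_mod_cast n.lt_succ_self⟩
  obtain ⟨N, hN⟩ := hlt
  obtain ⟨algR, locR, hR, eR⟩ := exists_alg_closedPoint R w rfl
  have hd := depthAtGE_pull_tors hℓ (Spec.map (CommRingCat.ofHom φ)) hA J N w hN (map_closedPoint φ) R
  exact depthGE_of_iso _ ((EtConsAb.pullCongr eR).app _ ≪≫ (HpullComp.pullId _).app _) _ hd

include hℓ hq hA in
theorem depthGE_pull_main : ∀ (p : ℕ) (F : EtCoh.Ab (Spec (CommRingCat.of A))), EtDepth.IsLTorsion ℓ F →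
    EtDepth.DepthGE (FEt.puncturedSpec A).ι F p →
    EtDepth.DepthGE (FEt.puncturedSpec R).ι ((EtCoh.pull (Spec.map (CommRingCat.ofHom φ))).obj F)
      (min (p + q) (m + 2)) := by
  haveI := noetherianSpace φ hA hℓ
  haveI : CompactSpace ↥(FEt.puncturedSpec A).toScheme :=
    isCompact_iff_compactSpace.1 (NoetherianSpace.isCompact _)
  haveI : QuasiSeparatedSpace ↥(FEt.puncturedSpec A).toScheme :=
    quasiSeparatedSpace_of_quasiSeparated (FEt.puncturedSpec A).ι
  let h := Spec.map (CommRingCat.ofHom φ)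
  let j := (FEt.puncturedSpec A).ι
  let jR := (FEt.puncturedSpec R).ι
  haveI := EtDepthLib.preservesFiniteLimits_secSupp j
  haveI := EtDepthLib.preservesFiniteLimits_secSupp jR
  let Δ := RDerLES.derivedLES (EtDual.secSupp j)
  let ΔR := RDerLES.derivedLES (EtDual.secSupp jR)
  have step : ∀ (r p : ℕ), (∀ G, EtDepth.IsLTorsion ℓ G → EtDepth.DepthGE j G p →
      EtDepth.DepthGE jR ((EtCoh.pull h).obj G) (min r (m + 2))) →
      ∀ F, EtDepth.IsLTorsion ℓ F → EtDepth.DepthGE j F (p + 1) →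
      EtDepth.DepthGE jR ((EtCoh.pull h).obj F) (min (r + 1) (m + 2)) := by
    intro r p ih F hF hp
    have hm := (EtDepthLib.isZero_locCoh_zero_iff j F).1 (hp 0 (by omega))
    have hF' := isLTorsion_acyc hℓ hF
    -- `j⁻¹ F` is torsion, so maps into the torsion part of an injective
    let G := (EtCoh.pull j).obj F
    have hG : EtAcyc.IsLTorsion ({ℓ} : Set ℕ) G :=
      isLTorsion_pull' j _ F hF'
    obtain ⟨T, hT1, hT2, -, J, hJ, hT3⟩ := EtDescSS.CompBC.exists_embedding ({ℓ} : Set ℕ) hG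
    haveI := hJ
    obtain ⟨ι₀, hι₀⟩ : ∃ f : G ⟶ torsPart ℓ J, Mono f := exists_mono_of_eq T hT1 hT3 hT2
    let u : F ⟶ (EtCoh.push j).obj (torsPart ℓ J) := EtDual.unitApp j F ≫ (EtCoh.push j).map ι₀
    haveI : Mono u := mono_comp _ _
    let S : ShortComplex (EtCoh.Ab (Spec (CommRingCat.of A))) :=
      ShortComplex.mk u (cokernel.π u) (cokernel.condition u)
    have hS : S.ShortExact :=
      { exact := ShortComplex.exact_of_g_is_cokernel _ (cokernelIsCokernel u)
        mono_f := ‹Mono u› }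
    have hI : ∀ n, EtDepth.DepthGE j S.X₂ n := fun n => depthGE_base hℓ J n
    have hIL : EtDepth.IsLTorsion ℓ S.X₂ := isLTorsion_depth hℓ
      (TorsionPush.isLTorsion_push _ j (TorsionPush.isLTorsion_kernel _ J))
    have hQL : EtDepth.IsLTorsion ℓ S.X₃ := isLTorsion_depth hℓ
      (TorsionPush.isLTorsion_of_epi _ (cokernel.π u) (isLTorsion_acyc hℓ hIL))
    have hQ : EtDepth.DepthGE j S.X₃ p := fun i hi =>
      (Δ.exact₃ S hS i (i + 1) rfl).isZero_of_both_isZero (hI (i + 1) i (by omega)) (hp (i + 1) (by omega))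
    have hQR := ih S.X₃ hQL hQ
    have hIR := depthGE_pull_tors_closed φ hℓ hA J
    intro i hi
    rcases i with _ | i
    · rw [EtDepthLib.isZero_locCoh_zero_iff]
      have h2 : Mono (EtDual.unitApp jR ((EtCoh.pull h).obj S.X₂)) :=
        (EtDepthLib.isZero_locCoh_zero_iff _ _).1 (hIR 0 (by omega))
      haveI := h2
      exact mono_unit_of_mono jR ((EtCoh.pull h).map u)
    · exact (ΔR.exact₁ (S.map (EtCoh.pull h)) (hS.map_of_exact (EtCoh.pull h)) i (i + 1) rfl).isZero_of_both_isZero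
        (hQR i (by omega)) (hIR (i + 1) (by omega))
  have zero : ∀ r, r ≤ q → ∀ F, EtDepth.IsLTorsion ℓ F →
      EtDepth.DepthGE jR ((EtCoh.pull h).obj F) (min r (m + 2)) := by
    intro r
    induction r with
    | zero => exact fun _ F _ i hi => absurd hi (by omega)
    | succ r ihr => ?_
    intro hr F hF
    let u := EtDual.unitApp j F
    let K := kernel u
    let S : ShortComplex (EtCoh.Ab (Spec (CommRingCat.of A))) :=
      ShortComplex.mk (kernel.ι u) (cokernel.π (kernel.ι u)) (cokernel.condition _)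
    have hS : S.ShortExact :=
      { exact := ShortComplex.exact_of_g_is_cokernel _ (cokernelIsCokernel _) }
    let f₁ : S.X₃ ⟶ (EtCoh.push j).obj ((EtCoh.pull j).obj F) := cokernel.desc _ u (kernel.condition u)
    haveI : Mono f₁ := inferInstanceAs (Mono (Abelian.factorThruCoimage u ≫ 𝟙 _))
    haveI := EtDepthLib.isIso_unit_push j ((EtCoh.pull j).obj F)
    have h1 : EtDepth.DepthGE j S.X₃ 1 := fun i hi => by
      obtain rfl : i = 0 := by omega
      exact (EtDepthLib.isZero_locCoh_zero_iff j _).2 (mono_unit_of_mono j f₁)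
    have hKL : EtDepth.IsLTorsion ℓ K := isLTorsion_depth hℓ
      (TorsionPush.isLTorsion_of_mono _ (kernel.ι u)
        (fun U => EtConsAb.injective_app_of_mono (kernel.ι u) (op U)) (isLTorsion_acyc hℓ hF))
    have hK0 : (EtCoh.pull j).map (𝟙 K) = 0 := by
      have hk := (EtSupp.comp_unitApp_eq_zero_iff j (kernel.ι u)).1 (kernel.condition _)
      rw [← cancel_mono ((EtCoh.pull j).map (kernel.ι u)), ← Functor.map_comp, Category.id_comp, zero_comp, hk]
    have hKR := depthGE_pull_closed φ hℓ q hq K hKL hK0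
    have hQL : EtDepth.IsLTorsion ℓ S.X₃ := isLTorsion_depth hℓ
      (TorsionPush.isLTorsion_of_epi _ (cokernel.π (kernel.ι u)) (isLTorsion_acyc hℓ hF))
    have hQR := step r 0 (fun G hG _ => ihr (by omega) G hG) S.X₃ hQL h1
    intro i hi
    exact (ΔR.exact₂ (S.map (EtCoh.pull h)) (hS.map_of_exact (EtCoh.pull h)) i).isZero_of_both_isZero
      (hKR i (by omega)) (hQR i (by omega))
  intro p
  induction p with
  | zero =>
    intro F hF _
    rw [Nat.zero_add]
    exact zero q le_rfl F hF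
  | succ p ih =>
    intro F hF hp
    rw [show p + 1 + q = p + q + 1 by omega]
    exact step (p + q) p ih F hF hp

end Groth.Agent.EtAcDepth
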