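import Groth.Agent.EtAcDepth.GenFibre
import Groth.Agent.EtAcDepth.Main
import Groth.Agent.S8525
import Groth.Agent.FBase.BC
import Groth.Prelude.Def_EtAcyc

/-!
# Morphisms to absolutely flat schemes with separably closed residue fields
-/

set_option autoImplicit false
set_option backward.isDefEq.respectTransparency false
set_option linter.style.haveILetI false

universe u

open CategoryTheory CategoryTheory.Limits AlgebraicGeometry Opposite IsLocalRing

noncomputable section

namespace Groth.Agent.EtAcDepth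

open Groth.Agent Groth.Agent.EtaleSite Groth.Agent.EtaleSite.ConstSections

/-- Constant coefficients of `L`-torsion reduce to the primes of `L`. -/
theorem subsingleton_H_const_L {W : Scheme.{u}} [CompactSpace W] [QuasiSeparatedSpace W] (L : Set ℕ)
    (q : ℕ) (h : ∀ ℓ : ℕ, ℓ.Prime → ℓ ∈ L → Subsingleton (EtCoh.H W (EtCoh.const W (ZMod ℓ)) q))
    (M : AddCommGrpCat.{u + 1}) (hM : ∀ x : M, ∃ n, EtAcyc.PrimesIn L n ∧ n • x = 0) :
    Subsingleton (EtCoh.H W (cSheaf W M) q) := by
  have hsteps : ∀ (n : ℕ), EtAcyc.PrimesIn L n → ∀ M : AddCommGrpCat.{u + 1}, (∀ x : M, n • x = 0) →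
      Subsingleton (EtCoh.H W (cSheaf W M) q) := by
    intro n
    induction n using Nat.strong_induction_on with
    | _ n ih =>
    intro hn M hM
    rcases eq_or_ne n 1 with rfl | h1
    · have hz : IsZero M := @AddCommGrpCat.isZero_of_subsingleton _
        ⟨fun a b => by rw [← one_nsmul a, ← one_nsmul b, hM, hM]⟩
      exact AddCommGrpCat.subsingleton_of_isZero ((EtRestLib.HC W q).map_isZero hz)
    obtain ⟨ℓ, hℓ, k, rfl⟩ : ∃ ℓ, ℓ.Prime ∧ ∃ k, n = ℓ * k := by
      obtain ⟨ℓ, hℓ, hd⟩ := Nat.exists_prime_and_dvd h1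
      exact ⟨ℓ, hℓ, hd⟩
    have hℓL : ℓ ∈ L := hn.2 ℓ hℓ (dvd_mul_right ℓ k)
    have hk0 : 0 < k := Nat.pos_of_mul_pos_left hn.1
    have hk : EtAcyc.PrimesIn L k := ⟨hk0, fun p hp hd => hn.2 p hp (hd.mul_left ℓ)⟩
    let f : M →+ M := nsmulAddMonoidHom ℓ
    let S : ShortComplex AddCommGrpCat.{u + 1} :=
      ShortComplex.mk (AddCommGrpCat.ofHom f.ker.subtype) (AddCommGrpCat.ofHom f.rangeRestrict) (by
        ext ⟨x, hx⟩
        exact hx)
    have hS : S.ShortExact :=
      { exact := ShortComplex.ab_exact_iff S |>.2 fun x hx => ⟨⟨x, congrArg Subtype.val hx⟩, rfl⟩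
        mono_f := (AddCommGrpCat.mono_iff_injective _).2 Subtype.val_injective
        epi_g := (AddCommGrpCat.epi_iff_surjective _).2 f.rangeRestrict_surjective }
    haveI := (EtCore.constAdj W).leftAdjoint_preservesColimits
    haveI : PreservesFiniteLimits (constantSheaf W.smallEtaleTopology AddCommGrpCat.{u + 1}) := by
      unfold constantSheaf; infer_instance
    have hSW := hS.map_of_exact (constantSheaf W.smallEtaleTopology AddCommGrpCat.{u + 1})
    have h₁ : Subsingleton (EtCoh.H W (cSheaf W (AddCommGrpCat.of f.ker)) q) := by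
      refine EtRestLib.subsingleton_H_const (P := fun n => n ∣ ℓ) q (fun n hn d hd => hd.trans hn)
        (fun h0 => hℓ.ne_zero (zero_dvd_iff.1 h0)) (fun n hn => ?_) _
        fun x => ⟨ℓ, dvd_rfl, Subtype.ext x.2⟩
      rcases (Nat.dvd_prime hℓ).1 hn with rfl | rfl
      · exact AddCommGrpCat.subsingleton_of_isZero ((EtRestLib.HC W q).map_isZero
          (@AddCommGrpCat.isZero_of_subsingleton (AddCommGrpCat.of (ULift.{u + 1} (ZMod 1)))
            (inferInstanceAs (Subsingleton (ULift (ZMod 1))))))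
      · exact h _ hℓ hℓL
    have h₃ := ih k (lt_mul_left hk0 hℓ.one_lt) hk (AddCommGrpCat.of f.range) fun ⟨_, y, rfl⟩ => Subtype.ext (by
      show k • (ℓ • y) = 0
      rw [← mul_smul, mul_comm]
      exact hM y)
    refine subsingleton_of_forall_eq 0 fun x => ?_
    obtain ⟨y, rfl⟩ := Abelian.Ext.covariant_sequence_exact₂ _ hSW x (@Subsingleton.elim _ h₃ _ _)
    rw [@Subsingleton.elim _ h₁ y 0]
    exact Abelian.Ext.zero_comp ..
  refine EtRestLib.subsingleton_H_const (P := EtAcyc.PrimesIn L) q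
    (fun n hn d hd => ⟨Nat.pos_of_dvd_of_pos hd hn.1, fun p hp h' => hn.2 p hp (h'.trans hd)⟩)
    (fun h0 => lt_irrefl 0 h0.1) (fun n hn => hsteps n hn _ fun x => ULift.ext _ _ (by simp)) M hM

variable {W Q : Scheme.{u}} (q : W ⟶ Q) (hQ : IsPointSpace Q) [QuasiCompact q]
  (L : Set ℕ) (k : ℕ)
  (hfib : ∀ (p : Q) (ℓ : ℕ), ℓ.Prime → ℓ ∈ L →
    GoodScheme (pullback q (Q.fromSpecResidueField p)) ℓ k)

include hQ hfib in
/-- The unit of a morphism to a point space with connected fibres is an isomorphism. -/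
theorem isIso_unit_pointSpace (hL : ∃ ℓ ∈ L, ℓ.Prime) (F : EtCoh.Ab Q) :
    IsIso ((EtCoh.pullPushAdj q).unit.app F) := by
  obtain ⟨ℓ, hℓL, hℓ⟩ := hL
  haveI : Flat q := hQ.flat q
  have hb : ∀ U : Q.Etale, Function.Bijective (EtConsAb.pullSect q F U) := fun U =>
    EtSubmersive.bijective_pullSect_of_flat q (fun Ω _ _ s => by
      obtain ⟨p, γ, rfl⟩ : ∃ (p : Q) (γ : Q.residueField p ⟶ CommRingCat.of Ω),
          Spec.map γ ≫ Q.fromSpecResidueField p = s :=
        ⟨_, _, (Scheme.SpecToEquivOfField Ω Q).left_inv s⟩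
      haveI : IsSepClosed (Q.residueField p) := (hQ p).2
      haveI := (hfib p ℓ hℓ hℓL).connectedSpace hℓ
      haveI : GeometricallyConnected (pullback.snd q (Q.fromSpecResidueField p)) :=
        FBase.BC.geometricallyConnected_of_isSepClosed (k := Q.residueField p) _
      let l : pullback q (Spec.map γ ≫ Q.fromSpecResidueField p) ⟶ pullback q (Q.fromSpecResidueField p) :=
        pullback.lift (pullback.fst _ _) (pullback.snd _ _ ≫ Spec.map γ)
          (by rw [pullback.condition, Category.assoc])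
      have sq : IsPullback l (pullback.snd _ _) (pullback.snd q (Q.fromSpecResidueField p)) (Spec.map γ) := by
        refine IsPullback.of_right ?_ (pullback.lift_snd _ _ _) (IsPullback.of_hasPullback q (Q.fromSpecResidueField p))
        rw [pullback.lift_fst]
        exact IsPullback.of_hasPullback q (Spec.map γ ≫ Q.fromSpecResidueField p)
      exact GeometricallyConnected.geometrically_connectedSpace
        (f := pullback.snd q (Q.fromSpecResidueField p)) (Spec.map γ) _ _ sq) F U
  haveI : ∀ V, IsIso (((EtCoh.pullPushAdj q).unit.app F).hom.app V) := fun V =>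
    (ConcreteCategory.isIso_iff_bijective _).2 (hb V.unop)
  haveI : IsIso ((sheafToPresheaf _ _).map ((EtCoh.pullPushAdj q).unit.app F)) :=
    NatIso.isIso_of_isIso_app ((EtCoh.pullPushAdj q).unit.app F).hom
  exact isIso_of_fully_faithful (f := (EtCoh.pullPushAdj q).unit.app F)
    (sheafToPresheaf Q.smallEtaleTopology AddCommGrpCat.{u + 1})

variable [QuasiSeparated q] [CompactSpace Q] [QuasiSeparatedSpace Q]

omit [CompactSpace Q] [QuasiSeparatedSpace Q] in
include hQ hfib in
/-- Higher direct images of inverse images of torsion sheaves vanish. -/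
theorem isZero_Rpush_pointSpace (F : EtCoh.Ab Q) (hF : EtAcyc.IsLTorsion L F) (b : ℕ) (h1 : 1 ≤ b)
    (h2 : b ≤ k) : IsZero ((EtCoh.Rpush q b).obj ((EtCoh.pull q).obj F)) := by
  let G := (EtCoh.Rpush q b).obj ((EtCoh.pull q).obj F)
  haveI : Mono (0 : G ⟶ G) := (EtaleSite.mono_iff_stalk _).2 fun Ω _ _ ζ => by
    let p := ζ default
    let A : Type u := Q.presheaf.stalk p
    haveI : HenselianLocalRing A := (hQ.isSH p).1
    haveI : IsSepClosed (ResidueField A) := (hQ p).2
    haveI : IsLocalHom (algebraMap (Q.presheaf.stalk p) A) := ⟨fun _ ha => ha⟩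
    haveI : Hensel.IsStrictHenselization (Q.presheaf.stalk p) A := isStrictHenselization_self A
    obtain ⟨Φ⟩ := EtLimit.nonempty_Rpush_stalk_iso q p A b
    obtain ⟨s₁⟩ := nonempty_stalk_iso_geomPointAt ζ
    obtain ⟨s₂⟩ := nonempty_stalk_iso_geomPointAt (Hens2.geomPt Q p A)
    rw [specOf_closedPt] at s₂
    have hp : ∀ a : Spec (CommRingCat.of Ω), ζ a = p := fun a =>
      congrArg ζ (Subsingleton.elim (α := Spec (CommRingCat.of Ω)) _ _)
    rw [hp] at s₁
    have s₃ : (EtCoh.stalk ζ).obj G ≅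
        (EtCoh.pull (pullback.fst q (Hens2.specOf Q p A)) ⋙
          EtCoh.HF (pullback q (Hens2.specOf Q p A)) b).obj ((EtCoh.pull q).obj F) :=
      ((show EtCoh.stalk ζ ≅ EtCoh.stalk (geomPointAt Q p) from s₁) ≪≫ s₂.symm).app G ≪≫ Φ.app _
    let σ := Hens2.specOf Q p A
    let r : Spec (Q.residueField p) ⟶ Spec (CommRingCat.of A) := Spec.map (Q.residue p)
    haveI : IsIso r := by
      letI := (hQ p).1.toField
      haveI : IsIso (Q.residue p) := (ConcreteCategory.isIso_iff_bijective _).2
        ⟨RingHom.injective _, IsLocalRing.residue_surjective⟩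
      infer_instance
    have hr : r ≫ σ = Q.fromSpecResidueField p := by
      show Spec.map (Q.residue p) ≫ Spec.map _ ≫ _ = _
      rw [← Spec.map_comp_assoc]
      rfl
    let E : pullback q σ ≅ pullback q (Q.fromSpecResidueField p) :=
      (asIso (pullback.map q (r ≫ σ) q σ (𝟙 _) r (𝟙 _) (by simp) (by simp))).symm ≪≫
        pullback.congrHom rfl hr
    haveI : CompactSpace ↥(pullback q σ) :=
      QuasiCompact.compactSpace_of_compactSpace (pullback.snd q σ)
    haveI : QuasiSeparatedSpace ↥(pullback q σ) :=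
      quasiSeparatedSpace_of_quasiSeparated (pullback.snd q σ)
    letI : Field A := (hQ p).1.toField
    haveI : IsSepClosed A := by
      haveI : IsSepClosed (ResidueField A) := (hQ p).2
      exact EtaleSite.SetSH.isSepClosed_of_equiv
        (RingEquiv.ofBijective (IsLocalRing.residue A) ⟨RingHom.injective _, IsLocalRing.residue_surjective⟩).symm
    have hT : EtAcyc.IsLTorsion L ((EtCoh.pull σ).obj F) := isLTorsion_pull' σ L F hF
    obtain ⟨eC⟩ := exists_iso_const_field A ((EtCoh.pull σ).obj F)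
    let M := ((EtCoh.pull σ).obj F).obj.obj (op (EtCoh.top (Spec (CommRingCat.of A))))
    have hM : ∀ x : M, ∃ n, EtAcyc.PrimesIn L n ∧ n • x = 0 := by
      intro x
      haveI := isSepClosed_residueField_field A
      obtain ⟨n, hn, hz⟩ := (Groth.Agent.S8525.result L _).1 hT _ (closedPt A)
        (germ (closedPt A) _ (EtCoh.top _) (topPoint A) x)
      refine ⟨n, hn, (bijective_germ_top A ((EtCoh.pull σ).obj F)).1 ?_⟩
      show germ (closedPt A) _ _ (topPoint A) (n • x) = germ (closedPt A) _ _ (topPoint A) 0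
      rw [map_nsmul, map_zero, hz]
    haveI := subsingleton_H_const_L (W := pullback q σ) L b
      (fun ℓ hℓ hℓL => ((hfib p ℓ hℓ hℓL).of_iso E).1 b h1 h2) M hM
    let eF : (EtCoh.pull (pullback.fst q σ)).obj ((EtCoh.pull q).obj F) ≅
        cSheaf (pullback q σ) M :=
      ((EtCore.pullComp (pullback.fst q σ) q).symm ≪≫ EtCore.pullCongr pullback.condition ≪≫
        EtCore.pullComp (pullback.snd q σ) σ).app F ≪≫
        (EtCoh.pull (pullback.snd q σ)).mapIso eC ≪≫ (EtCore.pullConstIso (pullback.snd q σ)).app M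
    have i := s₃ ≪≫ (EtCoh.HF _ b).mapIso eF
    haveI : Subsingleton ((EtCoh.stalk ζ).obj G) :=
      i.addCommGroupIsoToAddEquiv.toEquiv.subsingleton_congr.2
        (inferInstanceAs (Subsingleton (EtCoh.H (pullback q σ) (cSheaf (pullback q σ) M) b)))
    exact fun a a' _ => Subsingleton.elim a a'
  exact IsZero.of_mono_zero G G

include hQ hfib in
/-- Cohomology of inverse images of torsion sheaves vanishes. -/
theorem subsingleton_H_pointSpace (F : EtCoh.Ab Q) (hF : EtAcyc.IsLTorsion L F) (b : ℕ) (h1 : 1 ≤ b)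
    (h2 : b ≤ k) : Subsingleton (EtCoh.H W ((EtCoh.pull q).obj F) b) := by
  obtain ⟨e⟩ := nonempty_H_push_equiv_le q ((EtCoh.pull q).obj F) b fun c hc hcb =>
    isZero_Rpush_pointSpace q hQ L k hfib F hF c hc (hcb.trans h2)
  haveI := EtSection.subsingleton_H hQ.isSH hQ.isClosed_singleton
    ((EtCoh.push q).obj ((EtCoh.pull q).obj F)) b h1
  exact e.toEquiv.symm.injective.subsingleton

end Groth.Agent.EtAcDepth
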