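import Groth.Agent.EtAcDepth.EtaleBC0
import Groth.Agent.EtAcDepth.Leray
import Groth.Agent.EtDescSS.CompBCDesc
import Groth.Agent.EtSupp.ExtZero
import Groth.Agent.EtRamLib.Kummer.BaseChangeUnit
import Groth.Agent.DerFun.Basic
import Groth.Agent.SiteCoh.PushDerived
import Groth.Agent.S3513

/-!
# Acyclicity in terms of units and higher direct images
-/

set_option autoImplicit false
set_option backward.isDefEq.respectTransparency false

universe w w' v v' u u'

open CategoryTheory CategoryTheory.Limits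

namespace Groth.Agent.EtaleSite.AdjExt

variable {C : Type u} [Category.{v} C] [Abelian C] [EnoughInjectives C] [HasExt.{w} C]
  {D : Type u'} [Category.{v'} D] [Abelian D] [HasExt.{w'} D]
  {L : D ⥤ C} [L.Additive] [PreservesFiniteLimits L] [PreservesFiniteColimits L]
  {R : C ⥤ D} [R.Additive] [PreservesFiniteLimits R]
  (adj : L ⊣ R)

omit [EnoughInjectives C] [PreservesFiniteLimits R] [R.Additive] in
theorem toExt_add (A : D) (F : C) (n : ℕ) (a b : Abelian.Ext A (R.obj F) n) :
    toExt adj A F n (a + b) = toExt adj A F n a + toExt adj A F n b := by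
  simp [toExt, Abelian.Ext.mapExactFunctor_add, Abelian.Ext.add_comp]

omit [EnoughInjectives C] [PreservesFiniteLimits R] [R.Additive] in
theorem toExt_zero (A : D) (F : C) (n : ℕ) : toExt adj A F n 0 = 0 :=
  (AddMonoidHom.mk' (toExt adj A F n) (toExt_add adj A F n)).map_zero

omit [EnoughInjectives C] [PreservesFiniteLimits R] [R.Additive] in
theorem toExt_sub (A : D) (F : C) (n : ℕ) (a b : Abelian.Ext A (R.obj F) n) :
    toExt adj A F n (a - b) = toExt adj A F n a - toExt adj A F n b :=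
  (AddMonoidHom.mk' (toExt adj A F n) (toExt_add adj A F n)).map_sub a b

omit [Abelian D] [HasExt.{w'} D] [EnoughInjectives C] in
theorem sub_comp' {A B F : C} {p q r : ℕ} (x y : Abelian.Ext A B p) (z : Abelian.Ext B F q)
    (h : p + q = r) : (x - y).comp z h = x.comp z h - y.comp z h :=
  (AddMonoidHom.mk' (fun t : Abelian.Ext A B p => t.comp z h)
    fun a b => Abelian.Ext.add_comp a b z h).map_sub x y

/-- The next derived functor has no sections when the comparison is bijective. -/
theorem hom_rightDerived_eq_zero (n : ℕ) : ∀ (A : D) (F : C),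
    (∀ q : ℕ, 0 < q → q ≤ n → IsZero ((R.rightDerived q).obj F)) →
    Function.Surjective (toExt adj A F (n + 1)) → Function.Injective (toExt adj A F (n + 2)) →
    ∀ y : A ⟶ (R.rightDerived (n + 1)).obj F, y = 0 := by
  induction n with
  | zero =>
    intro A F _ hsur hinj y
    let S : ShortComplex C := ShortComplex.mk (Injective.ι F) (cokernel.π _) (cokernel.condition _)
    have hS : S.ShortExact := { exact := ShortComplex.exact_cokernel _ }
    have hI : Injective S.X₂ := inferInstanceAs (Injective (Injective.under F))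
    haveI := R.map_mono S.f
    let T : ShortComplex D :=
      ShortComplex.mk (R.map S.f) (cokernel.π (R.map S.f)) (cokernel.condition _)
    have hT : T.ShortExact := { exact := ShortComplex.exact_cokernel _ }
    have hTI : Injective T.X₂ := Injective.injective_of_adjoint adj S.X₂
    have hR : (S.map R).Exact := hS.exact.map_of_mono_of_preservesKernel R hS.mono_f inferInstance
    let m₃ : T.X₃ ⟶ R.obj S.X₃ := cokernel.desc (R.map S.f) (R.map S.g) (S.map R).zero
    haveI : Mono m₃ := hR.mono_cokernelDesc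
    have hπ : cokernel.π (R.map S.f) ≫ m₃ = R.map S.g := cokernel.π_desc _ _ _
    let φ₃ : L.obj T.X₃ ⟶ S.X₃ := L.map m₃ ≫ adj.counit.app S.X₃
    let f : T.map L ⟶ S :=
      { τ₁ := adj.counit.app S.X₁
        τ₂ := adj.counit.app S.X₂
        τ₃ := φ₃
        comm₁₂ := (adj.counit_naturality S.f).symm
        comm₂₃ := by
          show adj.counit.app S.X₂ ≫ S.g = L.map (cokernel.π (R.map S.f)) ≫ φ₃
          rw [← adj.counit_naturality S.g, ← Category.assoc, ← L.map_comp]
          simp [m₃] }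
    -- the connecting map presents the first derived functor
    let les := RDerLES.derivedLES R
    let δ : R.obj S.X₃ ⟶ (R.rightDerived 1).obj S.X₁ :=
      R.rightDerivedZeroIsoSelf.inv.app S.X₃ ≫ les.δ S hS 0 1 rfl
    have hz : ∀ X : C, IsIso (R.rightDerivedZeroIsoSelf.inv.app X) := fun X => inferInstance
    haveI : Epi (les.δ S hS 0 1 rfl) :=
      (les.exact₁ S hS 0 1 rfl).epi_f ((Functor.isZero_rightDerived_obj_injective_succ R 0 S.X₂).eq_of_tgt _ _)
    haveI : Epi δ := epi_comp _ _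
    have hδ0 : R.map S.g ≫ δ = 0 := by
      show R.map S.g ≫ R.rightDerivedZeroIsoSelf.inv.app S.X₃ ≫ les.δ S hS 0 1 rfl = 0
      rw [R.rightDerivedZeroIsoSelf.inv.naturality_assoc]
      exact (congrArg (_ ≫ ·) (les.comp_δ S hS 0 1 rfl)).trans comp_zero
    let W : ShortComplex D := ShortComplex.mk m₃ δ (by
      rw [← cancel_epi (cokernel.π (R.map S.f)), reassoc_of% hπ, hδ0, comp_zero])
    have hW : W.ShortExact := by
      refine { exact := ?_, mono_f := ‹Mono m₃›, epi_g := ‹Epi δ› }
      have h3 : (ShortComplex.mk (R.map S.g) δ hδ0).Exact := by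
        refine ShortComplex.exact_of_iso ?_ (les.exact₃ S hS 0 1 rfl)
        refine ShortComplex.isoMk (R.rightDerivedZeroIsoSelf.app S.X₂) (R.rightDerivedZeroIsoSelf.app S.X₃)
          (Iso.refl _) (R.rightDerivedZeroIsoSelf.hom.naturality S.g).symm ?_
        show R.rightDerivedZeroIsoSelf.hom.app S.X₃ ≫ δ = les.δ S hS 0 1 rfl ≫ 𝟙 _
        simp [δ]
      refine (ShortComplex.exact_iff_of_epi_of_isIso_of_mono
        (φ := ({ τ₁ := cokernel.π (R.map S.f), τ₂ := 𝟙 _, τ₃ := 𝟙 _,
                 comm₁₂ := hπ.trans (Category.comp_id _).symm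
                 comm₂₃ := (Category.id_comp _).trans (Category.comp_id _).symm } :
          ShortComplex.mk (R.map S.g) δ hδ0 ⟶ W))).1 h3
    -- lift the section
    have hnat : (hT.map_of_exact L).extClass.comp (Abelian.Ext.mk₀ (adj.counit.app S.X₁)) (add_zero 1) =
        (Abelian.Ext.mk₀ φ₃).comp hS.extClass (zero_add 1) :=
      (hT.map_of_exact L).extClass_naturality hS f
    have htoExt : ∀ {k : ℕ} (z : Abelian.Ext A T.X₃ k), toExt adj A S.X₁ (k + 1) (z.comp hT.extClass rfl) =
        ((z.mapExactFunctor L).comp (Abelian.Ext.mk₀ φ₃) (add_zero k)).comp hS.extClass rfl := by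
      intro k z
      show (((z.comp hT.extClass rfl).mapExactFunctor L)).comp (Abelian.Ext.mk₀ (adj.counit.app S.X₁))
        (add_zero _) = _
      rw [Abelian.Ext.mapExactFunctor_comp, Abelian.Ext.mapExactFunctor_extClass,
        Abelian.Ext.comp_assoc_of_third_deg_zero, Abelian.Ext.comp_assoc_of_second_deg_zero]
      exact congrArg (fun t => (z.mapExactFunctor L).comp t rfl) hnat
    obtain ⟨x₀, hx⟩ := Abelian.Ext.covariant_sequence_exact₃ A hW (Abelian.Ext.mk₀ y) (zero_add 1) (by
      let ξ : Abelian.Ext A T.X₃ 1 := (Abelian.Ext.mk₀ y).comp hW.extClass (zero_add 1)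
      have hξ : ξ.comp (Abelian.Ext.mk₀ m₃) (add_zero 1) = 0 := by
        show ((Abelian.Ext.mk₀ y).comp hW.extClass (zero_add 1)).comp (Abelian.Ext.mk₀ W.f) (add_zero 1) = 0
        rw [Abelian.Ext.comp_assoc_of_third_deg_zero, hW.extClass_comp, Abelian.Ext.comp_zero]
      have h2 : ξ.comp hT.extClass (rfl : 1 + 1 = 2) = 0 := hinj (by
        rw [toExt_zero, htoExt, ← Abelian.Ext.mk₀_comp_mk₀, ← Abelian.Ext.comp_assoc_of_third_deg_zero,
          ← Abelian.Ext.mapExactFunctor_mk₀, ← Abelian.Ext.mapExactFunctor_comp]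
        rw [hξ, Abelian.Ext.mapExactFunctor_zero, Abelian.Ext.zero_comp, Abelian.Ext.zero_comp])
      obtain ⟨z, hz'⟩ := Abelian.Ext.covariant_sequence_exact₃ A hT ξ rfl h2
      rw [Abelian.Ext.eq_zero_of_injective (I := T.X₂) z, Abelian.Ext.zero_comp] at hz'
      exact hz'.symm)
    obtain ⟨x, rfl⟩ := Abelian.Ext.homEquiv₀.symm.surjective x₀
    rw [Abelian.Ext.homEquiv₀_symm_apply, Abelian.Ext.mk₀_comp_mk₀] at hx
    obtain rfl : x ≫ δ = y := (Abelian.Ext.mk₀_bijective _ _).1 hx
    -- the obstruction comes from the target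
    obtain ⟨e, he⟩ := hsur ((Abelian.Ext.mk₀ ((adj.homEquiv _ _).symm x)).comp hS.extClass (zero_add 1))
    obtain ⟨x₁, hx₁⟩ := Abelian.Ext.covariant_sequence_exact₁ A hT e
      (Abelian.Ext.eq_zero_of_injective _) (rfl : 0 + 1 = 1)
    obtain ⟨x', rfl⟩ := Abelian.Ext.homEquiv₀.symm.surjective x₁
    rw [← hx₁, htoExt, Abelian.Ext.homEquiv₀_symm_apply, Abelian.Ext.mapExactFunctor_mk₀,
      Abelian.Ext.mk₀_comp_mk₀] at he
    have h0 : (Abelian.Ext.mk₀ ((adj.homEquiv _ _).symm x - L.map x' ≫ φ₃)).comp hS.extClass (zero_add 1) = 0 := by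
      rw [← Abelian.Ext.addEquiv₀_symm_apply, map_sub, sub_comp']
      exact sub_eq_zero.2 he.symm
    obtain ⟨z₀, hz₀⟩ := Abelian.Ext.covariant_sequence_exact₃ (L.obj A) hS _ (zero_add 1) h0
    obtain ⟨z, rfl⟩ := Abelian.Ext.homEquiv₀.symm.surjective z₀
    rw [Abelian.Ext.homEquiv₀_symm_apply, Abelian.Ext.mk₀_comp_mk₀] at hz₀
    have hzx : z ≫ S.g = (adj.homEquiv _ _).symm x - (adj.homEquiv _ _).symm (x' ≫ m₃) := by
      refine ((Abelian.Ext.mk₀_bijective _ _).1 hz₀).trans ?_
      rw [adj.homEquiv_counit, adj.homEquiv_counit, L.map_comp, Category.assoc]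
    have hfin : x = (adj.homEquiv _ _ z ≫ cokernel.π (R.map S.f) + x') ≫ m₃ := by
      rw [Preadditive.add_comp, Category.assoc, hπ, ← Adjunction.homEquiv_naturality_right, hzx,
        ← Adjunction.homAddEquiv_apply, map_sub, Adjunction.homAddEquiv_apply, Adjunction.homAddEquiv_apply,
        Equiv.apply_symm_apply, Equiv.apply_symm_apply, sub_add_cancel]
    rw [hfin, Category.assoc]
    exact (congrArg (_ ≫ ·) W.zero).trans comp_zero
  | succ n ih =>
    intro A F hF hsur hinj y
    let S : ShortComplex C := ShortComplex.mk (Injective.ι F) (cokernel.π _) (cokernel.condition _)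
    have hS : S.ShortExact := { exact := ShortComplex.exact_cokernel _ }
    have hI : Injective S.X₂ := inferInstanceAs (Injective (Injective.under F))
    let les := RDerLES.derivedLES R
    have zI : ∀ q : ℕ, 0 < q → IsZero ((R.rightDerived q).obj S.X₂) := fun q hq => by
      obtain ⟨k, rfl⟩ : ∃ k, q = k + 1 := ⟨q - 1, by omega⟩
      exact Functor.isZero_rightDerived_obj_injective_succ R k _
    have zQ : ∀ q : ℕ, 0 < q → q ≤ n → IsZero ((R.rightDerived q).obj S.X₃) := fun q hq hqm =>
      (les.exact₃ S hS q (q + 1) rfl).isZero_of_both_zeros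
        ((zI q hq).eq_of_src _ _) ((hF (q + 1) (by omega) (by omega)).eq_of_tgt _ _)
    have hRS : (S.map R).ShortExact := by
      have := hS.mono_f
      have hex : (S.map R).Exact := hS.exact.map_of_mono_of_preservesKernel R hS.mono_f inferInstance
      have hm : Mono (R.map S.f) := R.map_mono S.f
      have he : Epi ((R.rightDerived 0).map S.g) :=
        (les.exact₃ S hS 0 1 rfl).epi_f ((hF 1 (by omega) (by omega)).eq_of_tgt _ _)
      have he' : Epi (R.map S.g) := by
        have hnat := (R.rightDerivedZeroIsoSelf).hom.naturality S.g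
        have : R.map S.g = (R.rightDerivedZeroIsoSelf).inv.app S.X₂ ≫ (R.rightDerived 0).map S.g ≫
            (R.rightDerivedZeroIsoSelf).hom.app S.X₃ := by
          simp [hnat]
        rw [this]
        infer_instance
      exact { exact := hex, mono_f := hm, epi_g := he' }
    have hRI : Injective (S.map R).X₂ := Injective.injective_of_adjoint adj S.X₂
    have hiso : IsIso (les.δ S hS (n + 1) (n + 2) rfl) := by
      have : Mono (les.δ S hS (n + 1) (n + 2) rfl) :=
        (les.exact₃ S hS (n + 1) (n + 2) rfl).mono_g ((zI (n + 1) (by omega)).eq_of_src _ _)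
      have : Epi (les.δ S hS (n + 1) (n + 2) rfl) :=
        (les.exact₁ S hS (n + 1) (n + 2) rfl).epi_f ((zI (n + 2) (by omega)).eq_of_tgt _ _)
      exact isIso_of_mono_of_epi _
    have hsur' : Function.Surjective (toExt adj A S.X₃ (n + 1)) := fun z => by
      obtain ⟨e, he⟩ := hsur (z.comp hS.extClass rfl)
      obtain ⟨x, hx⟩ := Abelian.Ext.covariant_sequence_exact₁ A hRS e
        (Abelian.Ext.eq_zero_of_injective _) (rfl : n + 1 + 1 = n + 1 + 1)
      have h0 : (toExt adj A S.X₃ (n + 1) x - z).comp hS.extClass rfl = 0 := by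
        rw [sub_comp', sub_eq_zero]
        exact (toExt_comp_extClass adj hS hRS x).symm.trans
          ((congrArg (toExt adj A S.X₁ (n + 1 + 1)) hx).trans he)
      obtain ⟨w, hw⟩ := Abelian.Ext.covariant_sequence_exact₃ (L.obj A) hS _ rfl h0
      rw [Abelian.Ext.eq_zero_of_injective (I := S.X₂) w, Abelian.Ext.zero_comp] at hw
      exact ⟨x, sub_eq_zero.1 hw.symm⟩
    have hinj' : Function.Injective (toExt adj A S.X₃ (n + 2)) := fun a b hab => by
      have h1 : (a - b).comp hRS.extClass (rfl : n + 2 + 1 = n + 3) = 0 := hinj (by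
        have h := toExt_comp_extClass adj hS hRS (a - b)
        refine Eq.trans h (Eq.trans ?_ (toExt_zero adj A S.X₁ (n + 3)).symm)
        rw [toExt_sub, hab, sub_self, Abelian.Ext.zero_comp])
      obtain ⟨w, hw⟩ := Abelian.Ext.covariant_sequence_exact₃ A hRS _ rfl h1
      rw [Abelian.Ext.eq_zero_of_injective (I := (S.map R).X₂) w, Abelian.Ext.zero_comp] at hw
      exact sub_eq_zero.1 hw.symm
    rw [← cancel_mono (inv (les.δ S hS (n + 1) (n + 2) rfl)), zero_comp]
    exact ih A S.X₃ zQ hsur' hinj' _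

end Groth.Agent.EtaleSite.AdjExt

namespace Groth.Agent.EtAcDepth

open AlgebraicGeometry Opposite Groth.Agent Groth.Agent.EtaleSite

variable {X Y : Scheme.{u}} (f : X ⟶ Y)

theorem bijective_pullConst_comp (G : EtCoh.Ab X) (q : ℕ) :
    Function.Bijective fun x : Abelian.Ext ((EtCoh.pull f).obj (EtCoh.const Y ℤ)) G q =>
      (Abelian.Ext.mk₀ (EtCore.pullConst f ℤ).inv).comp x (zero_add q) := by
  refine Function.bijective_iff_has_inverse.2
    ⟨fun x => (Abelian.Ext.mk₀ (EtCore.pullConst f ℤ).hom).comp x (zero_add q), ?_, ?_⟩ <;>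
  · intro x
    simp

/-- `Hpull` through the unit and the Leray comparison. -/
theorem Hpull_eq_toExt [PreservesFiniteLimits (EtCoh.pull f)] (F : EtCoh.Ab Y) (q : ℕ) :
    ⇑(EtCore.Hpull f F q) = (fun x : Abelian.Ext ((EtCoh.pull f).obj (EtCoh.const Y ℤ))
        ((EtCoh.pull f).obj F) q => (Abelian.Ext.mk₀ (EtCore.pullConst f ℤ).inv).comp x (zero_add q)) ∘
      AdjExt.toExt (EtCoh.pullPushAdj f) (EtCoh.const Y ℤ) ((EtCoh.pull f).obj F) q ∘
      fun e : EtCoh.H Y F q => e.comp (Abelian.Ext.mk₀ ((EtCoh.pullPushAdj f).unit.app F)) (add_zero q) := by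
  funext e
  refine congrArg (fun x => (Abelian.Ext.mk₀ (EtCore.pullConst f ℤ).inv).comp x (zero_add q)) ?_
  simp only [AdjExt.toExt, Function.comp_apply, Abelian.Ext.mapExactFunctor_comp,
    Abelian.Ext.mapExactFunctor_mk₀, Abelian.Ext.comp_assoc_of_second_deg_zero,
    Abelian.Ext.mk₀_comp_mk₀]
  erw [(EtCoh.pullPushAdj f).left_triangle_components F]
  exact (Abelian.Ext.comp_mk₀_id _).symm

/-- Isomorphic units and vanishing direct images give the comparison. -/
theorem compN_of_unit (L : Set ℕ) (n : ℕ)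
    (h : ∀ F : EtCoh.Ab Y, EtAcyc.IsLTorsion L F → IsIso ((EtCoh.pullPushAdj f).unit.app F) ∧
      ∀ q : ℕ, 1 ≤ q → q ≤ n → IsZero ((EtCoh.Rpush f q).obj ((EtCoh.pull f).obj F))) :
    EtAcyc.CompN f L n := by
  intro F hF _
  obtain ⟨hu, hR⟩ := h F hF
  have hη : ∀ q, Function.Bijective fun e : EtCoh.H Y F q =>
      e.comp (Abelian.Ext.mk₀ ((EtCoh.pullPushAdj f).unit.app F)) (add_zero q) := fun q =>
    HpullComp.HF_map_bijective ((EtCoh.pullPushAdj f).unit.app F)
  refine ⟨fun q hq => ?_, ?_⟩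
  · rw [Hpull_eq_toExt]
    exact (bijective_pullConst_comp f _ q).comp ((AdjExt.toExt_bijective_le (EtCoh.pullPushAdj f) q _ _
      fun b h1 h2 => hR b h1 (h2.trans hq)).comp (hη q))
  · rw [Hpull_eq_toExt]
    exact (bijective_pullConst_comp f _ (n + 1)).1.comp
      ((EtDescSS.CompBCDesc.toExt_injective_bounded (EtCoh.pullPushAdj f) n _ _
        fun b h1 h2 => hR b h1 h2).comp (hη (n + 1)).1)

/-- Affine étale schemes refine every neighbourhood of a geometric point. -/
theorem exists_affine_refine {U : Y.Etale} {Ω : Type u} [Field Ω] [IsSepClosed Ω]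
    {ξ : Spec (CommRingCat.of Ω) ⟶ Y} (φ : (Scheme.pointSmallEtale ξ).fiber.obj U) :
    ∃ (W : Y.Etale) (g : W ⟶ U) (ψ : (Scheme.pointSmallEtale ξ).fiber.obj W),
      IsAffine W.left ∧ (Scheme.pointSmallEtale ξ).fiber.map g ψ = φ := by
  obtain ⟨W, hW, hvW, -⟩ := exists_isAffineOpen_mem_and_subset
    (show φ.left (default : Spec (CommRingCat.of Ω)) ∈ (⊤ : U.left.Opens) from trivial)
  haveI : Etale U.hom := U.prop
  obtain ⟨ψ, hψ⟩ := EtConsAb.exists_fiber_lift (EtaleSite.pieceHom U W) φ ⟨_, hvW⟩ rfl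
  exact ⟨EtaleSite.piece U W, EtaleSite.pieceHom U W, ψ, hW, hψ⟩

/-- Sections at `W` through the restriction to `W`. -/
theorem isIso_of_pull_top {G G' : EtCoh.Ab Y} (a : G ⟶ G')
    (h : ∀ W : Y.Etale, IsAffine W.left →
      Function.Bijective fun k : EtCoh.const W.left ℤ ⟶ (EtCoh.pull W.hom).obj G =>
        k ≫ (EtCoh.pull W.hom).map a) : IsIso a := by
  suffices hb : ∀ W : Y.Etale, IsAffine W.left → Function.Bijective (a.hom.app (op W)) by
    refine isIso_of_stalk a fun Ω _ _ ξ => (ConcreteCategory.isIso_iff_bijective _).2 ⟨?_, fun y => ?_⟩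
    · rw [injective_iff_map_eq_zero]
      intro x hx
      obtain ⟨U, φ, s, rfl⟩ := exists_germ_eq ξ G x
      rw [germ_naturality, ← map_zero (germ ξ G' U φ).hom] at hx
      obtain ⟨V, k, v, hv, hV⟩ := (germ_eq_iff ξ G' U φ _ _).1 hx
      obtain ⟨W, g, ψ, hW, hψ⟩ := exists_affine_refine v
      have h0 : G.obj.map g.op (G.obj.map k.op s) = 0 := by
        refine (hb W hW).1 ?_
        rw [NatTrans.naturality_apply a.hom g.op, NatTrans.naturality_apply a.hom k.op, hV, map_zero, map_zero,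
          map_zero]
      rw [← hv, ← germ_res, ← hψ, ← germ_res, h0, map_zero]
    · obtain ⟨U, φ, s, rfl⟩ := exists_germ_eq ξ G' y
      obtain ⟨W, g, ψ, hW, hψ⟩ := exists_affine_refine φ
      obtain ⟨t, ht⟩ := (hb W hW).2 (G'.obj.map g.op s)
      refine ⟨germ ξ G W ψ t, ?_⟩
      rw [germ_naturality, ht, germ_res, hψ]
  intro W hW
  have h1 : Function.Bijective (((EtCoh.pull W.hom).map a).hom.app (op (EtCoh.top W.left))) := by
    refine (Function.Bijective.of_comp_iff _ (Flasque.evTop_bijective ((EtCoh.pull W.hom).obj G))).1 ?_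
    refine (congrArg Function.Bijective ?_).mpr ((Flasque.evTop_bijective ((EtCoh.pull W.hom).obj G')).comp (h W hW))
    funext k
    exact (Flasque.evTop_comp k _).symm
  let j : EtCoh.top W.left ⟶ (EtCoh.bc W.hom).obj W :=
    MorphismProperty.Over.homMk (pullback.lift (𝟙 _) (𝟙 _) rfl) (pullback.lift_snd _ _ _) trivial
  have hj : IsIso (j.left ≫ pullback.fst W.hom W.hom) := by
    rw [show j.left ≫ pullback.fst W.hom W.hom = 𝟙 _ from pullback.lift_fst _ _ _]; infer_instance
  refine (Function.Bijective.of_comp_iff' (EtaleBC0.bijective_pullSect_restr W.hom G' j hj) _).1 ?_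
  refine (congrArg Function.Bijective ?_).mpr
    (h1.comp (EtaleBC0.bijective_pullSect_restr W.hom G j hj))
  funext s
  show ((EtCoh.pull W.hom).obj G').obj.map j.op (EtConsAb.pullSect W.hom G' W (a.hom.app (op W) s)) =
    ((EtCoh.pull W.hom).map a).hom.app _ (((EtCoh.pull W.hom).obj G).obj.map j.op (EtConsAb.pullSect W.hom G W s))
  refine Eq.trans ?_ (NatTrans.naturality_apply ((EtCoh.pull W.hom).map a).hom j.op _).symm
  refine congrArg _ ?_
  exact ConcreteCategory.congr_hom
    (congrArg (fun k => k.hom.app (op W)) ((EtCoh.pullPushAdj W.hom).unit.naturality a)) s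

/-- A sheaf is zero if it has no sections on any étale scheme. -/
theorem isZero_of_pull_top (G : EtCoh.Ab Y)
    (h : ∀ W : Y.Etale, IsAffine W.left →
      ∀ k : EtCoh.const W.left ℤ ⟶ (EtCoh.pull W.hom).obj G, k = 0) : IsZero G := by
  haveI : IsIso (0 : G ⟶ G) := isIso_of_pull_top 0 fun W hW =>
    ⟨fun k k' _ => (h W hW k).trans (h W hW k').symm, fun k => ⟨0, (h W hW _).trans (h W hW k).symm⟩⟩
  exact (IsZero.iff_id_eq_zero G).2
    ((IsIso.hom_inv_id (0 : G ⟶ G)).symm.trans zero_comp)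

/-- Acyclicity gives isomorphic units and vanishing direct images. -/
theorem unit_of_compN (L : Set ℕ) (n : ℕ)
    (h : ∀ W : Y.Etale, IsAffine W.left → ∃ (P : Scheme.{u}) (hb : P ⟶ X) (pY : P ⟶ W.left),
      IsPullback hb pY f W.hom ∧ EtAcyc.CompN pY L n)
    (F : EtCoh.Ab Y) (hF : EtAcyc.IsLTorsion L F) :
    IsIso ((EtCoh.pullPushAdj f).unit.app F) ∧
      ∀ q : ℕ, 1 ≤ q → q ≤ n → IsZero ((EtCoh.Rpush f q).obj ((EtCoh.pull f).obj F)) := by
  have key : ∀ W : Y.Etale, EtAcyc.IsLTorsion L ((EtCoh.pull W.hom).obj F) := fun W =>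
    Groth.Agent.S3513.isLTorsion_pull W.hom L F hF
  have hu : ∀ {Z Z' : Scheme.{u}} (π : Z' ⟶ Z), EtAcyc.CompN π L n → ∀ G, EtAcyc.IsLTorsion L G →
      Function.Bijective fun k : EtCoh.const Z ℤ ⟶ G => k ≫ (EtCoh.pullPushAdj π).unit.app G :=
    fun π hπ G hG => (EtDescSS.CompBC.bijective_map_iff π (EtCoh.const _ ℤ) G).1
      ((EtDescSS.CompBC.bijective_Hpull_zero_iff π G).1 ((hπ G hG).1 0 (Nat.zero_le _)))
  have hunit : IsIso ((EtCoh.pullPushAdj f).unit.app F) := by
    refine isIso_of_pull_top _ fun W hW => ?_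
    obtain ⟨P, hb, pY, sq, hc⟩ := h W hW
    haveI := EtaleBC0.isIso_baseChange0 f W.hom pY hb sq ((EtCoh.pull f).obj F)
    have e := EtRamLib.Kummer.Cover.pull_map_unit_baseChange0 f W.hom pY hb sq.w F
    let κ := EtCoh.baseChange0 f W.hom pY hb sq.w ((EtCoh.pull f).obj F) ≫
      (EtCoh.push pY).map ((EtRamLib.Kummer.Cover.pullSquare f W.hom pY hb sq.w).hom.app F)
    haveI : IsIso κ := inferInstance
    have hκ : Function.Bijective fun k : EtCoh.const W.left ℤ ⟶ _ => k ≫ κ :=
      Function.bijective_iff_has_inverse.2 ⟨fun k => k ≫ inv κ, fun k => by simp, fun k => by simp⟩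
    refine (Function.Bijective.of_comp_iff' hκ _).1 ?_
    refine (congrArg Function.Bijective ?_).mpr (hu pY hc _ (key W))
    funext k
    exact (Category.assoc _ _ _).trans (congrArg (k ≫ ·) e)
  refine ⟨hunit, fun q => ?_⟩
  induction q using Nat.strong_induction_on with
  | _ q ih =>
  intro h1 h2
  obtain ⟨m, rfl⟩ : ∃ m, q = m + 1 := ⟨q - 1, by omega⟩
  refine isZero_of_pull_top _ fun W hW₀ => ?_
  obtain ⟨P, hb, pY, sq, hc⟩ := h W hW₀
  haveI : Etale hb := MorphismProperty.of_isPullback sq.flip W.prop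
  haveI : (EtCoh.pull hb).PreservesInjectiveObjects := ⟨fun {I} _ => EtSupp.ExtZero.injective_pull hb I⟩
  let β : EtCoh.push f ⋙ EtCoh.pull W.hom ≅ EtCoh.pull hb ⋙ EtCoh.push pY :=
    NatIso.ofComponents
      (fun G => haveI := EtaleBC0.isIso_baseChange0 f W.hom pY hb sq G
        asIso (EtCoh.baseChange0 f W.hom pY hb sq.w G))
      (fun a => EtRamLib.Kummer.Cover.baseChange0_natural f W.hom pY hb sq.w a)
  let κ : ∀ b : ℕ, (EtCoh.pull W.hom).obj ((EtCoh.Rpush f b).obj ((EtCoh.pull f).obj F)) ≅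
      (EtCoh.Rpush pY b).obj ((EtCoh.pull pY).obj ((EtCoh.pull W.hom).obj F)) := fun b =>
    (DerFun.rightDerivedPostIso (EtCoh.pull W.hom) (EtCoh.push f) b _).symm ≪≫
      SiteCoh.PushDerived.rightDerivedObjIso β b _ ≪≫
      DerFun.rightDerivedCompIso (EtCoh.pull hb) (EtCoh.push pY) b _ ≪≫
      (EtCoh.Rpush pY b).mapIso ((EtRamLib.Kummer.Cover.pullSquare f W.hom pY hb sq.w).app F)
  have hW : IsIso ((EtCoh.pullPushAdj pY).unit.app ((EtCoh.pull W.hom).obj F)) := by
    haveI := hunit
    haveI := EtaleBC0.isIso_baseChange0 f W.hom pY hb sq ((EtCoh.pull f).obj F)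
    exact (congrArg (fun k => IsIso k)
      (EtRamLib.Kummer.Cover.pull_map_unit_baseChange0 f W.hom pY hb sq.w F)).mp inferInstance
  have hη : ∀ b, Function.Bijective fun e : EtCoh.H W.left ((EtCoh.pull W.hom).obj F) b =>
      e.comp (Abelian.Ext.mk₀ ((EtCoh.pullPushAdj pY).unit.app ((EtCoh.pull W.hom).obj F))) (add_zero b) :=
    fun b => HpullComp.HF_map_bijective _
  obtain ⟨hbij, hinj⟩ := hc _ (key W)
  have hsur : Function.Surjective (AdjExt.toExt (EtCoh.pullPushAdj pY) (EtCoh.const W.left ℤ)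
      ((EtCoh.pull pY).obj ((EtCoh.pull W.hom).obj F)) (m + 1)) := by
    have := (hbij (m + 1) h2).2
    rw [Hpull_eq_toExt] at this
    exact (Function.Surjective.of_comp_left this (bijective_pullConst_comp pY _ _).1).of_comp
  have hinj' : Function.Injective (AdjExt.toExt (EtCoh.pullPushAdj pY) (EtCoh.const W.left ℤ)
      ((EtCoh.pull pY).obj ((EtCoh.pull W.hom).obj F)) (m + 2)) := by
    have : Function.Injective (EtCore.Hpull pY ((EtCoh.pull W.hom).obj F) (m + 2)) := by
      rcases Nat.lt_or_ge (m + 1) n with hlt | hge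
      · exact (hbij (m + 2) hlt).1
      · obtain rfl : m + 1 = n := le_antisymm h2 hge
        exact hinj
    rw [Hpull_eq_toExt] at this
    exact (Function.Injective.of_comp this).of_comp_right (hη (m + 2)).2
  intro k
  have := AdjExt.hom_rightDerived_eq_zero (EtCoh.pullPushAdj pY) m _ _
    (fun b hb1 hb2 => ((EtCoh.pull W.hom).map_isZero (ih b (by omega) hb1 (by omega))).of_iso (κ b).symm)
    hsur hinj' (k ≫ (κ (m + 1)).hom)
  exact (cancel_mono (κ (m + 1)).hom).1 (this.trans zero_comp.symm)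

end Groth.Agent.EtAcDepth
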