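import Groth.Agent.EtAcDepth.BasePoint
import Groth.Agent.EtAcDepth.PointPush
import Groth.Agent.EtAcDepth.AcycA
import Groth.Agent.EtAcDepth.Piece
import Groth.Agent.EtColim.TorsionPush
import Groth.Agent.EtAcDepth.UnitCrit

/-!
# Acyclicity from geometric fibres over affine bases
-/

set_option autoImplicit false
set_option backward.isDefEq.respectTransparency false
set_option linter.style.haveILetI false

universe u

open CategoryTheory CategoryTheory.Limits AlgebraicGeometry Opposite IsLocalRing

noncomputable section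

namespace Groth.Agent.EtAcDepth

open Groth.Agent Groth.Agent.EtaleSite Groth.Agent.EtaleSite.ConstSections
open Groth.Agent.EtLimit Groth.Agent.EtSubmersive Groth.Agent.EtColim

variable {A B : Type u} [CommRing A] [CommRing B] [Algebra A B]

/-- Points of the cover are algebraic over the base. -/
theorem IsPointCover.algPt_residueField (hB : IsPointCover A B) (p : Spec (CommRingCat.of B)) :
    ∃ φ : A →+* (Spec (CommRingCat.of B)).residueField p,
      Spec.map (CommRingCat.ofHom φ) = (Spec (CommRingCat.of B)).fromSpecResidueField p ≫ coverMap A B ∧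
        @AlgPt A _ _ _ φ.toAlgebra := by
  let P := Spec (CommRingCat.of B)
  let ev : CommRingCat.of B ⟶ P.residueField p := StructureSheaf.toStalk B p ≫ P.residue p
  have hev : Spec.map ev = P.fromSpecResidueField p := by
    show Spec.map _ = Spec.map (P.residue p) ≫ P.fromSpecStalk p
    rw [Spec.map_comp, Spec.fromSpecStalk_eq']
  refine ⟨ev.hom.comp (algebraMap A B), ?_, ?_⟩
  · rw [show CommRingCat.ofHom (ev.hom.comp (algebraMap A B)) = CommRingCat.ofHom (algebraMap A B) ≫ ev from rfl,
      Spec.map_comp, hev]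
  letI := (ev.hom.comp (algebraMap A B)).toAlgebra
  let L := P.presheaf.stalk p
  letI : Algebra B L := StructureSheaf.stalkAlgebra (R := B) p
  haveI : IsLocalization.AtPrime L p.asIdeal := StructureSheaf.IsLocalization.to_stalk B p
  haveI : p.asIdeal.IsMaximal := hB.maximal _ p.isPrime
  have hq : ∀ b ∈ p.asIdeal, ev.hom b = 0 := fun b hb => by
    show IsLocalRing.residue L (algebraMap B L b) = 0
    rw [IsLocalRing.residue_eq_zero_iff]
    exact (IsLocalization.AtPrime.to_map_mem_maximal_iff L p.asIdeal b).2 hb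
  let lift : B ⧸ p.asIdeal →+* P.residueField p := Ideal.Quotient.lift _ ev.hom hq
  letI := Ideal.Quotient.field p.asIdeal
  have hs : Function.Surjective lift := fun z => by
    obtain ⟨l, rfl⟩ := IsLocalRing.residue_surjective z
    obtain ⟨t, s, rfl⟩ := IsLocalization.exists_mk'_eq p.asIdeal.primeCompl l
    have hs0 : Ideal.Quotient.mk p.asIdeal (s : B) ≠ 0 := fun h => s.2 (Ideal.Quotient.eq_zero_iff_mem.1 h)
    refine ⟨Ideal.Quotient.mk _ t * (Ideal.Quotient.mk p.asIdeal (s : B))⁻¹, ?_⟩
    refine mul_right_cancel₀ (b := lift (Ideal.Quotient.mk p.asIdeal (s : B)))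
      (fun h => hs0 (lift.injective (h.trans (map_zero lift).symm))) ?_
    rw [← map_mul, inv_mul_cancel_right₀ hs0]
    have := congrArg (IsLocalRing.residue L) (IsLocalization.mk'_spec L t s)
    rw [map_mul] at this
    exact this.symm
  intro z
  obtain ⟨z, rfl⟩ := hs z
  obtain ⟨a, ha, P₀, hP₀, hz⟩ := hB.algebraic p.asIdeal z
  refine ⟨a, fun h => ha (lift.injective (h.trans (map_zero lift).symm)), P₀, hP₀, ?_⟩
  have := congrArg lift hz
  rw [map_zero, Polynomial.hom_eval₂, map_mul] at this
  exact this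

theorem exists_strictPair {X S : Scheme.{u}} (f : X ⟶ S) (x : X) :
    ∃ (RS RX : Type u) (_ : CommRing RS) (_ : CommRing RX)
    (_ : HenselianLocalRing RS) (_ : HenselianLocalRing RX) (_ : IsSepClosed (ResidueField RS))
    (_ : IsSepClosed (ResidueField RX)) (_ : Algebra (S.presheaf.stalk (f x)) RS)
    (_ : Algebra (X.presheaf.stalk x) RX)
    (_ : IsLocalHom (algebraMap (S.presheaf.stalk (f x)) RS))
    (_ : IsLocalHom (algebraMap (X.presheaf.stalk x) RX))
    (_ : Hensel.IsStrictHenselization (S.presheaf.stalk (f x)) RS)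
    (_ : Hensel.IsStrictHenselization (X.presheaf.stalk x) RX) (_ : Algebra RS RX)
    (_ : IsLocalHom (algebraMap RS RX)) (_ : EtLimit.EtPres (Hens2.specOf S (f x) RS))
    (_ : EtLimit.EtPres (Hens2.specOf X x RX)),
      (algebraMap RS RX).comp (algebraMap (S.presheaf.stalk (f x)) RS) =
        (algebraMap (X.presheaf.stalk x) RX).comp (f.stalkMap x).hom := by
  let OS := S.presheaf.stalk (f x)
  let OX := X.presheaf.stalk x
  let RS := Hens.StrictHenselization ↑OS
  let RX := Hens.StrictHenselization ↑OX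
  let iS : Hensel.IsStrictHenselization ↑OS RS := inferInstance
  let iX : Hensel.IsStrictHenselization ↑OX RX := inferInstance
  haveI := iS.henselian
  haveI := iX.henselian
  haveI := iS.isSepClosure.sep_closed
  haveI := iX.isSepClosure.sep_closed
  haveI : IsLocalHom ((algebraMap OX RX).comp (f.stalkMap x).hom) := RingHom.isLocalHom_comp _ _
  obtain ⟨b, hbloc, hb⟩ := StrictHens.SchemeBC.exists_hom (S := RS)
    ((algebraMap OX RX).comp (f.stalkMap x).hom)
  letI : Algebra RS RX := b.toAlgebra
  haveI : IsLocalHom (algebraMap RS RX) := hbloc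
  obtain ⟨PS⟩ := EtLimit.nonempty_etPres S (f x) RS
  obtain ⟨PX⟩ := EtLimit.nonempty_etPres X x RX
  exact ⟨RS, RX, inferInstance, inferInstance, inferInstance, inferInstance, inferInstance,
    inferInstance, inferInstance, inferInstance, inferInstance, inferInstance, inferInstance, inferInstance,
    inferInstance, inferInstance, PS, PX, hb⟩

variable (hB : IsPointCover A B) {V : Scheme.{u}} (v : V ⟶ Spec (CommRingCat.of A)) [QuasiCompact v]
  [QuasiSeparated v] (L : Set ℕ) (m n : ℕ) (hv : AcycA v L m) (hnm : n ≤ m + 1)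
  (hfib : ∀ (Ω : Type u) [Field Ω] [IsSepClosed Ω] [Algebra A Ω], AlgPt A Ω → ∀ ℓ : ℕ, ℓ.Prime → ℓ ∈ L →
    GoodScheme (pullback v (Spec.map (CommRingCat.ofHom (algebraMap A Ω)))) ℓ n)

omit [QuasiCompact v] [QuasiSeparated v] in
include hB hv in
/-- The picture over strictly local rings. -/
theorem exists_localPicture (x : V) : ∃ (RS RX : Type u) (_ : CommRing RS) (_ : CommRing RX)
    (_ : HenselianLocalRing RS) (_ : HenselianLocalRing RX) (_ : IsSepClosed (ResidueField RS))
    (_ : IsSepClosed (ResidueField RX)) (_ : Algebra ((Spec (CommRingCat.of A)).presheaf.stalk (v x)) RS)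
    (_ : Algebra (V.presheaf.stalk x) RX)
    (_ : IsLocalHom (algebraMap (V.presheaf.stalk x) RX))
    (_ : Hensel.IsStrictHenselization (V.presheaf.stalk x) RX) (_ : Algebra RS RX)
    (_ : IsLocalHom (algebraMap RS RX))
    (_ : EtLimit.EtPres (Hens2.specOf (Spec (CommRingCat.of A)) (v x) RS))
    (_ : EtLimit.EtPres (Hens2.specOf V x RX)),
    IsPointSpace (pullback (coverMap A B) (Hens2.specOf (Spec (CommRingCat.of A)) (v x) RS)) ∧
    Spec.map (CommRingCat.ofHom (algebraMap RS RX)) ≫ Hens2.specOf (Spec (CommRingCat.of A)) (v x) RS =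
      Hens2.specOf V x RX ≫ v ∧
    ∃ q : pullback (pullback.fst v (coverMap A B)) (Hens2.specOf V x RX) ⟶
        pullback (coverMap A B) (Hens2.specOf (Spec (CommRingCat.of A)) (v x) RS),
      QuasiCompact q ∧ QuasiSeparated q ∧
      q ≫ pullback.fst _ _ = pullback.fst _ _ ≫ pullback.snd v (coverMap A B) ∧
      q ≫ pullback.snd _ _ = pullback.snd _ _ ≫ Spec.map (CommRingCat.ofHom (algebraMap RS RX)) ∧
      ∀ p, ∀ ℓ : ℕ, ℓ.Prime → ℓ ∈ L → GoodScheme (pullback q
        ((pullback (coverMap A B) (Hens2.specOf (Spec (CommRingCat.of A)) (v x) RS)).fromSpecResidueField p)) ℓ m := by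
  obtain ⟨RS, RX, _, _, _, _, _, _, _, _, _, _, _, _, _, _, PS, PX, hc⟩ := exists_strictPair v x
  obtain ⟨hQ, hres⟩ := hB.pullback_specOf (v x) RS
  let π := coverMap A B
  let σS := Hens2.specOf (Spec (CommRingCat.of A)) (v x) RS
  let σX := Hens2.specOf V x RX
  let ψ := Spec.map (CommRingCat.ofHom (algebraMap RS RX))
  have hψ : ψ ≫ σS = σX ≫ v := specOf_comp_of_comm v x RS RX hc
  let q : pullback (pullback.fst v π) σX ⟶ pullback π σS :=
    pullback.lift (pullback.fst _ _ ≫ pullback.snd v π) (pullback.snd _ _ ≫ ψ)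
      ((Category.assoc _ _ _).trans ((congrArg (pullback.fst (pullback.fst v π) σX ≫ ·) pullback.condition.symm).trans
        ((Category.assoc _ _ _).symm.trans ((congrArg (· ≫ v) pullback.condition).trans
          ((Category.assoc _ _ _).trans ((congrArg (pullback.snd (pullback.fst v π) σX ≫ ·) hψ.symm).trans
            (Category.assoc _ _ _).symm))))))
  have sq : IsPullback q (pullback.snd (pullback.fst v π) σX) (pullback.snd π σS) ψ := by
    refine IsPullback.of_right ?_ (pullback.lift_snd _ _ _) (IsPullback.of_hasPullback π σS)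
    rw [pullback.lift_fst, hψ]
    exact (IsPullback.of_hasPullback _ σX).paste_horiz (IsPullback.of_hasPullback v π).flip
  refine ⟨RS, RX, inferInstance, inferInstance, inferInstance, inferInstance, inferInstance, inferInstance,
    inferInstance, inferInstance, inferInstance, inferInstance, inferInstance, inferInstance, PS, PX,
    hQ, hψ, q, MorphismProperty.of_isPullback sq.flip (inferInstance : QuasiCompact ψ),
    MorphismProperty.of_isPullback sq.flip (inferInstance : QuasiSeparated ψ),
    pullback.lift_fst _ _ _, pullback.lift_snd _ _ _, fun p ℓ hℓ hℓL => ?_⟩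
  obtain ⟨φ, hφ, hφa⟩ := hres p
  haveI : IsSepClosed ((pullback π σS).residueField p) := (hQ p).2
  letI := φ.toAlgebra
  have hgood : GoodScheme (pullback ψ (Spec.map (CommRingCat.ofHom φ))) ℓ m :=
    hv x RS RX hc ((pullback π σS).residueField p) hφa ℓ hℓ hℓL
  refine hgood.of_iso ?_
  exact ((IsPullback.of_hasPullback q ((pullback π σS).fromSpecResidueField p)).flip.paste_vert sq).flip.isoPullback ≪≫
    pullback.congrHom rfl hφ.symm

omit [QuasiSeparated v] [QuasiCompact v] in
include hB hfib in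
theorem goodScheme_fibre_cover (p : Spec (CommRingCat.of B)) {ℓ : ℕ} (hℓ : ℓ.Prime) (hℓL : ℓ ∈ L) :
    GoodScheme (pullback (pullback.snd v (coverMap A B)) ((Spec (CommRingCat.of B)).fromSpecResidueField p)) ℓ n := by
  obtain ⟨φ, hφ, hφa⟩ := hB.algPt_residueField p
  haveI : IsSepClosed ((Spec (CommRingCat.of B)).residueField p) := (hB.isPointSpace p).2
  letI := φ.toAlgebra
  have h : GoodScheme (pullback v (Spec.map (CommRingCat.ofHom φ))) ℓ n :=
    hfib ((Spec (CommRingCat.of B)).residueField p) hφa ℓ hℓ hℓL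
  exact h.of_iso (pullbackLeftPullbackSndIso v (coverMap A B) _ ≪≫ pullback.congrHom rfl hφ.symm)

include hB hv in
theorem isIso_bc0_cover (hL : ∃ ℓ ∈ L, ℓ.Prime) (F : EtCoh.Ab (Spec (CommRingCat.of B))) :
    IsIso (EtCoh.baseChange0 (coverMap A B) v (pullback.fst v (coverMap A B)) (pullback.snd v (coverMap A B))
      pullback.condition.symm F) := by
  refine isIso_of_stalk _ fun Ω' _ _ ξ₀ => ?_
  obtain ⟨RS, RX, _, _, _, _, _, _, _, _, _, _, _, _, PS, PX, hQ, hψ, q, hqc, hqs, hq₁, hq₂, hgood⟩ :=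
    exists_localPicture hB v L m hv (ξ₀ default)
  let x := ξ₀ default
  let σX := Hens2.specOf V x RX
  let F' := (EtCoh.pull (pullback.fst (coverMap A B) (Hens2.specOf (Spec (CommRingCat.of A)) (v x) RS))).obj F
  haveI := isIso_unit_pointSpace q hQ L m hgood hL F'
  have hqb : Function.Bijective (EtConsAb.pullSect q F' (EtCoh.top _)) := by
    haveI : IsIso ((sheafToPresheaf _ _).map ((EtCoh.pullPushAdj q).unit.app F')) := inferInstance
    haveI : IsIso (((EtCoh.pullPushAdj q).unit.app F').hom.app (op (EtCoh.top _))) :=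
      NatIso.isIso_app_of_isIso ((sheafToPresheaf _ _).map ((EtCoh.pullPushAdj q).unit.app F')) _
    exact ConcreteCategory.bijective_of_isIso (((EtCoh.pullPushAdj q).unit.app F').hom.app (op (EtCoh.top _)))
  let ξ := EtSubmersive.overClosed (𝟙 (Spec (CommRingCat.of (ResidueField RX)))) ≫ σX
  have hξ : ∀ a : Spec (CommRingCat.of (ResidueField RX)), ξ a = x := fun a => by
    rw [Scheme.Hom.comp_apply]
    refine Eq.trans (congrArg σX ?_) (specOf_closedPoint' V x RX)
    exact IsLocalRing.PrimeSpectrum.comap_residue _ _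
  obtain ⟨e₀⟩ := nonempty_stalk_iso_geomPointAt ξ₀
  have hx0 : ∀ a : Spec (CommRingCat.of Ω'), ξ₀ a = x := fun a =>
    congrArg ξ₀ (Subsingleton.elim (α := Spec (CommRingCat.of Ω')) _ _)
  rw [hx0] at e₀
  obtain ⟨e₁⟩ := nonempty_stalk_iso_geomPointAt ξ
  refine (NatIso.isIso_map_iff e₀ _).2 ?_
  rw [hξ] at e₁
  exact (NatIso.isIso_map_iff e₁ _).1 ((ConcreteCategory.isIso_iff_bijective _).2
    (bijective_stalk_bc_of_pullSect (coverMap A B) v (pullback.fst v (coverMap A B))
      (pullback.snd v (coverMap A B)) (IsPullback.of_hasPullback v (coverMap A B)).flip F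
      _ σX PS PX (algebraMap RS RX) hψ q hq₁ hq₂ hqb))

include hB hv in
theorem isZero_Rpush_fst (G : EtCoh.Ab (Spec (CommRingCat.of B))) (hG : EtAcyc.IsLTorsion L G) (b : ℕ)
    (h1 : 1 ≤ b) (h2 : b ≤ m) :
    IsZero ((EtCoh.Rpush (pullback.fst v (coverMap A B)) b).obj
      ((EtCoh.pull (pullback.snd v (coverMap A B))).obj G)) := by
  let j := pullback.fst v (coverMap A B)
  let vP := pullback.snd v (coverMap A B)
  let H := (EtCoh.Rpush j b).obj ((EtCoh.pull vP).obj G)
  haveI : Mono (0 : H ⟶ H) := (EtaleSite.mono_iff_stalk _).2 fun Ω' _ _ ξ => by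
    obtain ⟨RS, RX, _, _, _, _, _, _, _, _, _, _, _, _, PS, PX, hQ, hψ, q, hqc, hqs, hq₁, hq₂, hgood⟩ :=
      exists_localPicture hB v L m hv (ξ default)
    haveI := hqc
    haveI := hqs
    let x := ξ default
    let σX := Hens2.specOf V x RX
    let σS := Hens2.specOf (Spec (CommRingCat.of A)) (v x) RS
    haveI : CompactSpace ↥(pullback (coverMap A B) σS) :=
      QuasiCompact.compactSpace_of_compactSpace (pullback.snd (coverMap A B) σS)
    haveI : QuasiSeparatedSpace ↥(pullback (coverMap A B) σS) :=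
      quasiSeparatedSpace_of_quasiSeparated (pullback.snd (coverMap A B) σS)
    haveI := subsingleton_H_pointSpace q hQ L m hgood
      ((EtCoh.pull (pullback.fst (coverMap A B) σS)).obj G) (isLTorsion_pull' _ L G hG) b h1 h2
    haveI : QuasiCompact j := inferInstance
    haveI : QuasiSeparated j := inferInstance
    obtain ⟨Φ⟩ := EtLimit.nonempty_Rpush_stalk_iso j x RX b
    obtain ⟨s₁⟩ := nonempty_stalk_iso_geomPointAt ξ
    obtain ⟨s₂⟩ := nonempty_stalk_iso_geomPointAt (Hens2.geomPt V x RX)
    rw [specOf_closedPt] at s₂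
    have hx : ∀ a : Spec (CommRingCat.of Ω'), ξ a = x := fun a =>
      congrArg ξ (Subsingleton.elim (α := Spec (CommRingCat.of Ω')) _ _)
    rw [hx] at s₁
    let eG : (EtCoh.pull (pullback.fst j σX)).obj ((EtCoh.pull vP).obj G) ≅
        (EtCoh.pull q).obj ((EtCoh.pull (pullback.fst (coverMap A B) σS)).obj G) :=
      ((EtCore.pullComp (pullback.fst j σX) vP).symm ≪≫ EtCore.pullCongr hq₁.symm ≪≫
        EtCore.pullComp q (pullback.fst (coverMap A B) σS)).app G
    have i := (s₁ ≪≫ s₂.symm).app H ≪≫ Φ.app _ ≪≫ (EtCoh.HF _ b).mapIso eG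
    haveI : Subsingleton ((EtCoh.stalk ξ).obj H) :=
      i.addCommGroupIsoToAddEquiv.toEquiv.subsingleton_congr.2 ‹_›
    exact fun a a' _ => Subsingleton.elim a a'
  exact IsZero.of_mono_zero H H

include hB in
theorem isZero_Rpush_cover (G : EtCoh.Ab (Spec (CommRingCat.of B))) (b : ℕ) (h1 : 1 ≤ b) :
    IsZero ((EtCoh.Rpush (coverMap A B) b).obj G) := by
  let π := coverMap A B
  let H := (EtCoh.Rpush π b).obj G
  haveI : Mono (0 : H ⟶ H) := (EtaleSite.mono_iff_stalk _).2 fun Ω' _ _ ξ => by
    let u := ξ default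
    let R := Hens.StrictHenselization ↑((Spec (CommRingCat.of A)).presheaf.stalk u)
    let iR : Hensel.IsStrictHenselization ↑((Spec (CommRingCat.of A)).presheaf.stalk u) R := inferInstance
    haveI := iR.isSepClosure.sep_closed
    obtain ⟨hQ, -⟩ := hB.pullback_specOf u R
    let σ := Hens2.specOf (Spec (CommRingCat.of A)) u R
    haveI : CompactSpace ↥(pullback π σ) :=
      QuasiCompact.compactSpace_of_compactSpace (pullback.snd π σ)
    haveI : QuasiSeparatedSpace ↥(pullback π σ) :=
      quasiSeparatedSpace_of_quasiSeparated (pullback.snd π σ)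
    haveI := EtSection.subsingleton_H hQ.isSH hQ.isClosed_singleton ((EtCoh.pull (pullback.fst π σ)).obj G) b h1
    obtain ⟨Φ⟩ := EtLimit.nonempty_Rpush_stalk_iso π u R b
    obtain ⟨s₁⟩ := nonempty_stalk_iso_geomPointAt ξ
    obtain ⟨s₂⟩ := nonempty_stalk_iso_geomPointAt (Hens2.geomPt (Spec (CommRingCat.of A)) u R)
    rw [specOf_closedPt] at s₂
    have hu : ∀ a : Spec (CommRingCat.of Ω'), ξ a = u := fun a =>
      congrArg ξ (Subsingleton.elim (α := Spec (CommRingCat.of Ω')) _ _)
    rw [hu] at s₁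
    have i := (s₁ ≪≫ s₂.symm).app H ≪≫ Φ.app _
    haveI : Subsingleton ((EtCoh.stalk ξ).obj H) :=
      i.addCommGroupIsoToAddEquiv.toEquiv.subsingleton_congr.2 ‹_›
    exact fun a a' _ => Subsingleton.elim a a'
  exact IsZero.of_mono_zero H H

include hB in
theorem subsingleton_H_push_cover (G : EtCoh.Ab (Spec (CommRingCat.of B))) (b : ℕ) (h1 : 1 ≤ b) :
    Subsingleton (EtCoh.H (Spec (CommRingCat.of A)) ((EtCoh.push (coverMap A B)).obj G) b) := by
  obtain ⟨e⟩ := nonempty_H_push_equiv_le (coverMap A B) G b fun c hc _ => isZero_Rpush_cover hB G c hc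
  haveI := EtSection.subsingleton_H hB.isPointSpace.isSH hB.isPointSpace.isClosed_singleton G b h1
  exact e.toEquiv.injective.subsingleton

include hB hv hnm hfib in
theorem bijective_Hpull_push_cover (hL : ∃ ℓ ∈ L, ℓ.Prime) (G : EtCoh.Ab (Spec (CommRingCat.of B)))
    (hG : EtAcyc.IsLTorsion L G) (b : ℕ) (hb : b ≤ n) :
    Function.Bijective (EtCore.Hpull v ((EtCoh.push (coverMap A B)).obj G) b) := by
  let π := coverMap A B
  let j := pullback.fst v π
  let vP := pullback.snd v π
  have hP := hB.isPointSpace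
  haveI := isIso_bc0_cover hB v L m hv hL G
  haveI : QuasiCompact vP := inferInstance
  haveI : QuasiSeparated vP := inferInstance
  have hgoodP : ∀ (p : Spec (CommRingCat.of B)) (ℓ : ℕ), ℓ.Prime → ℓ ∈ L →
      GoodScheme (pullback vP ((Spec (CommRingCat.of B)).fromSpecResidueField p)) ℓ n :=
    fun p ℓ hℓ hℓL => goodScheme_fibre_cover hB v L n hfib p hℓ hℓL
  rcases Nat.eq_zero_or_pos b with rfl | hb1
  · haveI := isIso_unit_pointSpace vP hP L n hgoodP hL G
    let I := (EtCoh.push π).obj G
    let θ := (EtCoh.pushComp π vP ≪≫ EtCoh.pushCongr pullback.condition.symm ≪≫ (EtCoh.pushComp v j).symm).app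
      ((EtCoh.pull vP).obj G)
    have e1 : (EtCoh.pullPushAdj v).unit.app I ≫
        (EtCoh.push v).map (EtCoh.baseChange0 π v j vP pullback.condition.symm G) =
        (EtCoh.push π).map ((EtCoh.pullPushAdj vP).unit.app G) ≫ θ.hom :=
      ((EtCoh.pullPushAdj v).homEquiv_unit _ _ _).symm.trans
        (((EtCoh.pullPushAdj v).homEquiv _ _).apply_symm_apply _)
    haveI : IsIso ((EtCoh.pullPushAdj v).unit.app I) := by
      haveI : IsIso ((EtCoh.pullPushAdj v).unit.app I ≫
          (EtCoh.push v).map (EtCoh.baseChange0 π v j vP pullback.condition.symm G)) := e1 ▸ inferInstance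
      exact IsIso.of_isIso_comp_right _ ((EtCoh.push v).map (EtCoh.baseChange0 π v j vP pullback.condition.symm G))
    rw [EtDescSS.CompBC.bijective_Hpull_zero_iff, EtDescSS.CompBC.bijective_map_iff]
    exact Function.bijective_iff_has_inverse.2 ⟨fun k => k ≫ inv ((EtCoh.pullPushAdj v).unit.app I),
      fun k => (Category.assoc _ _ _).trans ((congrArg (k ≫ ·) (IsIso.hom_inv_id _)).trans (Category.comp_id k)),
      fun k => (Category.assoc _ _ _).trans ((congrArg (k ≫ ·) (IsIso.inv_hom_id _)).trans (Category.comp_id k))⟩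
  · haveI := subsingleton_H_push_cover hB G b hb1
    haveI : CompactSpace ↥(pullback v π) := QuasiCompact.compactSpace_of_compactSpace vP
    haveI : QuasiSeparatedSpace ↥(pullback v π) := quasiSeparatedSpace_of_quasiSeparated vP
    haveI := subsingleton_H_pointSpace vP hP L n hgoodP G hG b hb1 hb
    obtain ⟨k, rfl⟩ : ∃ k, b = k + 1 := ⟨b - 1, by omega⟩
    have hinj := EtDescSS.CompBCDesc.toExt_injective_bounded (EtCoh.pullPushAdj j) k
      (EtCoh.const V ℤ) ((EtCoh.pull vP).obj G) fun c hc hck => isZero_Rpush_fst hB v L m hv G hG c hc (by omega)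
    haveI : Subsingleton (Abelian.Ext ((EtCoh.pull j).obj (EtCoh.const V ℤ)) ((EtCoh.pull vP).obj G) (k + 1)) :=
      (Equiv.ofBijective _ (bijective_pullConst_comp j ((EtCoh.pull vP).obj G) (k + 1))).subsingleton_congr.2 ‹_›
    haveI : Subsingleton (EtCoh.H V ((EtCoh.push j).obj ((EtCoh.pull vP).obj G)) (k + 1)) :=
      hinj.subsingleton
    have hs : Subsingleton (EtCoh.H V ((EtCoh.pull v).obj ((EtCoh.push π).obj G)) (k + 1)) :=
      EtDescSS.CompBC.subsingleton_H_of_iso
        (asIso (EtCoh.baseChange0 π v j vP pullback.condition.symm G)).symm (k + 1)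
    have hs' : Subsingleton (EtCoh.H (Spec (CommRingCat.of A)) ((EtCoh.push π).obj G) (k + 1)) :=
      subsingleton_H_push_cover hB G (k + 1) hb1
    exact ⟨fun x y _ => @Subsingleton.elim _ hs' x y, fun y => ⟨0, @Subsingleton.elim _ hs _ _⟩⟩

include hB hv hnm hfib in
theorem compN_of_cover (hL : ∃ ℓ ∈ L, ℓ.Prime) : EtAcyc.CompN v L n := by
  intro F₀ hF₀ _
  haveI : Surjective (coverMap A B) := ⟨fun p => hB.surjective p⟩
  let π := coverMap A B
  have hmono : ∀ F : EtCoh.Ab (Spec (CommRingCat.of A)), Mono ((EtCoh.pullPushAdj π).unit.app F) := fun F => by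
    haveI : IsSplitMono ((EtCoh.pull π).map ((EtCoh.pullPushAdj π).unit.app F)) :=
      ⟨⟨⟨(EtCoh.pullPushAdj π).counit.app _, (EtCoh.pullPushAdj π).left_triangle_components F⟩⟩⟩
    refine Preadditive.mono_of_cancel_zero _ fun k hk => eq_zero_of_pull π k ?_
    rw [← cancel_mono ((EtCoh.pull π).map ((EtCoh.pullPushAdj π).unit.app F)), ← Functor.map_comp, hk,
      Functor.map_zero, zero_comp]
  have main : ∀ i : ℕ, ∀ F : EtCoh.Ab (Spec (CommRingCat.of A)), EtAcyc.IsLTorsion L F →
      (i ≤ n → Function.Bijective (EtCore.Hpull v F i)) ∧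
        (i ≤ n + 1 → Function.Injective (EtCore.Hpull v F i)) := by
    intro i
    induction i with
    | zero =>
      intro F hF
      let u := (EtCoh.pullPushAdj π).unit.app F
      haveI : Mono u := hmono F
      let S := ShortComplex.mk u (cokernel.π u) (cokernel.condition u)
      have hS : S.ShortExact :=
        { exact := ShortComplex.exact_of_g_is_cokernel _ (cokernelIsCokernel u)
          mono_f := ‹Mono u› }
      have hI : EtAcyc.IsLTorsion L S.X₂ := TorsionPush.isLTorsion_push L π (isLTorsion_pull' π L F hF)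
      have hQ : EtAcyc.IsLTorsion L S.X₃ := TorsionPush.isLTorsion_of_epi L (cokernel.π u) hI
      have hinj : ∀ F : EtCoh.Ab (Spec (CommRingCat.of A)), EtAcyc.IsLTorsion L F →
          Function.Injective (EtCore.Hpull v F 0) := by
        intro F' hF'
        let u' := (EtCoh.pullPushAdj π).unit.app F'
        haveI : Mono u' := hmono F'
        intro x y hxy
        apply Abelian.Ext.postcomp_mk₀_injective_of_mono (EtCoh.const _ ℤ) u'
        refine (bijective_Hpull_push_cover hB v L m n hv hnm hfib hL _ (isLTorsion_pull' π L F' hF') 0 (Nat.zero_le _)).1 ?_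
        exact (HpullSeq.Hpull_postcomp v u' 0 x).trans
          ((congrArg (fun t => Abelian.Ext.comp t (Abelian.Ext.mk₀ ((EtCoh.pull v).map u')) (add_zero 0)) hxy).trans
            (HpullSeq.Hpull_postcomp v u' 0 y).symm)
      refine ⟨fun _ => ⟨hinj F hF, fun z => ?_⟩, fun _ => hinj F hF⟩
      obtain ⟨t, ht⟩ := (bijective_Hpull_push_cover hB v L m n hv hnm hfib hL _ (isLTorsion_pull' π L F hF) 0 (Nat.zero_le _)).2
        (z.comp (Abelian.Ext.mk₀ ((EtCoh.pull v).map u)) (add_zero 0))
      have h0 : t.comp (Abelian.Ext.mk₀ S.g) (add_zero 0) = 0 := by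
        refine hinj _ hQ ((HpullSeq.Hpull_postcomp v S.g 0 t).trans ?_)
        rw [map_zero, show EtCore.Hpull v S.X₂ 0 t = _ from ht,
          Abelian.Ext.comp_assoc_of_second_deg_zero, Abelian.Ext.mk₀_comp_mk₀, ← Functor.map_comp, S.zero,
          Functor.map_zero, Abelian.Ext.mk₀_zero, Abelian.Ext.comp_zero]
      obtain ⟨x, hx⟩ := Abelian.Ext.covariant_sequence_exact₂ _ hS t h0
      refine ⟨x, ?_⟩
      apply Abelian.Ext.postcomp_mk₀_injective_of_mono (EtCoh.const V ℤ) ((EtCoh.pull v).map u)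
      refine (HpullSeq.Hpull_postcomp v u 0 x).symm.trans ?_
      exact (congrArg (EtCore.Hpull v S.X₂ 0) hx).trans ht
    | succ i ih =>
      intro F hF
      let u := (EtCoh.pullPushAdj π).unit.app F
      haveI : Mono u := hmono F
      let S := ShortComplex.mk u (cokernel.π u) (cokernel.condition u)
      have hS : S.ShortExact :=
        { exact := ShortComplex.exact_of_g_is_cokernel _ (cokernelIsCokernel u)
          mono_f := ‹Mono u› }
      have hSV := hS.map_of_exact (EtCoh.pull v)
      have hG := isLTorsion_pull' π L F hF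
      have hQ : EtAcyc.IsLTorsion L S.X₃ :=
        TorsionPush.isLTorsion_of_epi L (cokernel.π u) (TorsionPush.isLTorsion_push L π hG)
      have hbI := fun b hb => bijective_Hpull_push_cover hB v L m n hv hnm hfib hL _ hG b hb
      have hsX : Subsingleton (EtCoh.H (Spec (CommRingCat.of A)) S.X₂ (i + 1)) :=
        subsingleton_H_push_cover hB ((EtCoh.pull π).obj F) (i + 1) (Nat.succ_pos i)
      have hinj : i + 1 ≤ n + 1 → Function.Injective (EtCore.Hpull v F (i + 1)) := fun hin => by
        rw [injective_iff_map_eq_zero]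
        intro e he
        obtain ⟨y, rfl⟩ := Abelian.Ext.covariant_sequence_exact₁ _ hS e
          (@Subsingleton.elim _ hsX _ _) (rfl : i + 1 = i + 1)
        obtain ⟨w', hw'⟩ := Abelian.Ext.covariant_sequence_exact₃ _ hSV _ (rfl : i + 1 = i + 1)
          ((HpullSeq.Hpull_extClass v hS i y).symm.trans he)
        obtain ⟨w₀, rfl⟩ := (hbI i (by omega)).2 w'
        have hy : y = w₀.comp (Abelian.Ext.mk₀ S.g) (add_zero i) :=
          ((ih S.X₃ hQ).1 (by omega)).1 (hw'.symm.trans (HpullSeq.Hpull_postcomp v S.g i w₀).symm)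
        rw [hy, Abelian.Ext.comp_assoc_of_second_deg_zero, hS.comp_extClass, Abelian.Ext.comp_zero]
      refine ⟨fun hin => ⟨hinj (by omega), fun z => ?_⟩, hinj⟩
      have hsV : Subsingleton (EtCoh.H V ((EtCoh.pull v).obj S.X₂) (i + 1)) :=
        @Function.Surjective.subsingleton _ _ _ hsX (hbI (i + 1) hin).2
      obtain ⟨qV, rfl⟩ := Abelian.Ext.covariant_sequence_exact₁ _ hSV z
        (@Subsingleton.elim _ hsV _ _) (rfl : i + 1 = i + 1)
      obtain ⟨y, rfl⟩ := ((ih S.X₃ hQ).1 (by omega)).2 qV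
      exact ⟨y.comp hS.extClass rfl, HpullSeq.Hpull_extClass v hS i y⟩
  exact ⟨fun q hq => (main q F₀ hF₀).1 hq, (main (n + 1) F₀ hF₀).2 le_rfl⟩

end Groth.Agent.EtAcDepth
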