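import Groth.Agent.EtAcDepth.AcycA
import Groth.Agent.EtLimit.Nbhd

/-!
# Algebraic points of strict localisations
-/

set_option autoImplicit false
set_option backward.isDefEq.respectTransparency false
set_option linter.style.haveILetI false

universe u

open CategoryTheory CategoryTheory.Limits AlgebraicGeometry Opposite
open scoped TensorProduct

noncomputable section

namespace Groth.Agent.EtAcDepth

open Groth.Agent

/-- Algebraic points of an ind-étale algebra are algebraic over the base. -/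
theorem algPt_of_fac {A R Ω : Type u} [CommRing A] [CommRing R] [Field Ω] [Algebra A R] [Algebra R Ω]
    [Algebra A Ω] [IsScalarTower A R Ω] (hfac : IndAlg.Fac (IndAlg.Etale.Et A) R) (hΩ : AlgPt R Ω) :
    AlgPt A Ω := by
  let p := RingHom.ker (algebraMap A Ω)
  haveI : p.IsPrime := RingHom.ker_isPrime _
  let A₀ := A ⧸ p
  letI : Algebra A₀ Ω := (RingHom.kerLift (algebraMap A Ω)).toAlgebra
  haveI : IsScalarTower A A₀ Ω := .of_algebraMap_eq fun _ => rfl
  have hinj : Function.Injective (algebraMap A₀ Ω) := RingHom.kerLift_injective _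
  let K := FractionRing A₀
  letI : Algebra K Ω := (IsFractionRing.lift hinj).toAlgebra
  haveI : IsScalarTower A₀ K Ω := .of_algebraMap_eq fun a => (IsFractionRing.lift_algebraMap hinj a).symm
  haveI : IsScalarTower A K Ω := IsScalarTower.of_algebraMap_eq fun a => by
    rw [IsScalarTower.algebraMap_apply A A₀ K, ← IsScalarTower.algebraMap_apply A₀ K Ω,
      ← IsScalarTower.algebraMap_apply A A₀ Ω]
  have hR : ∀ r : R, algebraMap R Ω r ∈ integralClosure K Ω := fun r => by
    obtain ⟨E, _, _, hE, v, w, hw⟩ := hfac (Polynomial A) inferInstance (Polynomial.aeval r)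
    haveI : Algebra.Etale A E := hE
    haveI : Module.Finite K (K ⊗[A] E) := Algebra.FormallyUnramified.finite_of_free _ _
    let φ : K ⊗[A] E →ₐ[K] Ω := Algebra.TensorProduct.lift (Algebra.ofId K Ω)
      ((IsScalarTower.toAlgHom A R Ω).comp w) fun _ _ => Commute.all _ _
    have h : φ ((1 : K) ⊗ₜ[A] v Polynomial.X) = algebraMap R Ω r := by
      have : w (v Polynomial.X) = r := (AlgHom.congr_fun hw Polynomial.X).trans (Polynomial.aeval_X r)
      simp [φ, this]
    exact h ▸ (IsIntegral.of_finite K ((1 : K) ⊗ₜ[A] v Polynomial.X)).map φ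
  intro z
  obtain ⟨b, hb, P, hP, hz⟩ := hΩ z
  let C := integralClosure K Ω
  have hbz : IsIntegral K (algebraMap R Ω b * z) := by
    let ψ : R →+* C := (algebraMap R Ω).codRestrict C.toSubring fun r => hR r
    refine isIntegral_trans (A := C) _ ⟨P.map ψ, hP.map _, ?_⟩
    rw [Polynomial.eval₂_map]
    exact hz
  have hzK : IsAlgebraic K z := by
    have := (hR b).inv.mul hbz
    rw [inv_mul_cancel_left₀ hb] at this
    exact this.isAlgebraic
  obtain ⟨a, ha, hi⟩ := ((IsFractionRing.isAlgebraic_iff A₀ K Ω).2 hzK).exists_integral_multiple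
  obtain ⟨a, rfl⟩ := Ideal.Quotient.mk_surjective a
  refine ⟨a, fun h0 => ha (Ideal.Quotient.eq_zero_iff_mem.2 h0), ?_⟩
  haveI : Algebra.IsIntegral A A₀ := ⟨fun x => by
    obtain ⟨x, rfl⟩ := Ideal.Quotient.mk_surjective x
    exact isIntegral_algebraMap⟩
  rw [show algebraMap A Ω a * z = (Ideal.Quotient.mk p a) • z by rw [Algebra.smul_def]; rfl]
  exact isIntegral_trans _ hi

/-- Algebraic points of strict localisations are algebraic geometric points. -/
theorem exists_geomPt_specOf (Y : Scheme.{u}) (y : Y) (R : Type u) [CommRing R] [IsLocalRing R]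
    [Algebra (Y.presheaf.stalk y) R] [IsLocalHom (algebraMap (Y.presheaf.stalk y) R)]
    [Hensel.IsStrictHenselization (Y.presheaf.stalk y) R] {Ω : Type u} [Field Ω] [Algebra R Ω]
    (hΩ : AlgPt R Ω) : ∃ (y' : Y) (_ : Algebra (Y.residueField y') Ω),
      Algebra.IsAlgebraic (Y.residueField y') Ω ∧
        EtAcyc.geomPt Y y' Ω = Spec.map (CommRingCat.ofHom (algebraMap R Ω)) ≫ Hens2.specOf Y y R := by
  obtain ⟨V, hV, hyV⟩ : ∃ V : Y.Opens, IsAffineOpen V ∧ y ∈ V := by
    obtain ⟨_, ⟨V, hV, rfl⟩, hyV, -⟩ :=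
      Y.isBasis_affineOpens.exists_subset_of_mem_open (Set.mem_univ y) isOpen_univ
    exact ⟨V, hV, hyV⟩
  letI := TopCat.Presheaf.algebra_section_stalk Y.presheaf ⟨y, hyV⟩
  haveI := hV.isLocalization_stalk ⟨y, hyV⟩
  letI : Algebra Γ(Y, V) R :=
    ((algebraMap (Y.presheaf.stalk y) R).comp (algebraMap Γ(Y, V) (Y.presheaf.stalk y))).toAlgebra
  haveI : IsScalarTower Γ(Y, V) (Y.presheaf.stalk y) R := .of_algebraMap_eq fun _ => rfl
  letI : Algebra Γ(Y, V) Ω := ((algebraMap R Ω).comp (algebraMap Γ(Y, V) R)).toAlgebra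
  haveI : IsScalarTower Γ(Y, V) R Ω := .of_algebraMap_eq fun _ => rfl
  have hA : AlgPt Γ(Y, V) Ω := algPt_of_fac
    (EtLimit.fac_et_strictHenselization (A := Γ(Y, V)) (L := Y.presheaf.stalk y) (R := R)
      (hV.primeIdealOf ⟨y, hyV⟩).asIdeal) hΩ
  obtain ⟨y', alg, hy, e⟩ := exists_geomPt hV.fromSpec
    (fun w => RingHom.isIntegral_of_surjective _
      (ConcreteCategory.bijective_of_isIso (Scheme.Hom.residueFieldMap hV.fromSpec w)).2) hA
  refine ⟨y', alg, hy, e.trans ?_⟩
  show Spec.map (CommRingCat.ofHom ((algebraMap R Ω).comp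
      ((algebraMap (Y.presheaf.stalk y) R).comp (algebraMap Γ(Y, V) (Y.presheaf.stalk y))))) ≫ _ =
    _ ≫ Spec.map (CommRingCat.ofHom (algebraMap (Y.presheaf.stalk y) R)) ≫ Y.fromSpecStalk y
  rw [CommRingCat.ofHom_comp, CommRingCat.ofHom_comp, Spec.map_comp, Spec.map_comp, Category.assoc,
    Category.assoc, ← hV.fromSpecStalk_eq_fromSpecStalk hyV]
  rfl

end Groth.Agent.EtAcDepth
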