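import Groth.Agent.Hens.StrictAtPrime
import Groth.Agent.EtLimit.Nbhd
import Groth.Agent.IndAlg.Etale
import Mathlib.AlgebraicGeometry.Stalk

/-!
# Strict henselizations of strict localisations
-/

set_option autoImplicit false

universe u

open CategoryTheory CategoryTheory.Limits AlgebraicGeometry Opposite

noncomputable section

namespace Groth.Agent.EtAcDepth

open Groth.Agent

/-- An ind-étale strictly henselian algebra is a strict henselization. -/
theorem isStrictHenselization_of_fac (A : Type u) [CommRing A] (L : Type u) [CommRing L] [IsLocalRing L]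
    [Algebra A L] (S : Type u) [CommRing S] [IsLocalRing S] [Algebra L S]
    [IsLocalHom (algebraMap L S)] [Algebra A S] [IsScalarTower A L S] (p : Ideal A) [p.IsPrime]
    [IsLocalization.AtPrime L p] [HenselianLocalRing S] [IsSepClosed (IsLocalRing.ResidueField S)]
    (h : IndAlg.Fac (IndAlg.Etale.Et A) S) : Hensel.IsStrictHenselization L S := by
  refine Hens.isStrictHenselization_of_stages A L S p (fun z => ?_) fun B _ _ hB θ b hb => ?_
  · obtain ⟨E, _, _, hE, v, w, hw⟩ := h (Polynomial A) inferInstance (Polynomial.aeval z)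
    refine ⟨E, inferInstance, inferInstance, hE, w, v Polynomial.X, ?_⟩
    rw [← AlgHom.comp_apply, hw, Polynomial.aeval_X]
  · haveI : Algebra.FinitePresentation A B := IndAlg.Etale.et_fp B hB
    haveI : Algebra.FinitePresentation A (B ⧸ Ideal.span {b}) :=
      Algebra.FinitePresentation.quotient (Submodule.fg_span_singleton b)
    let g : (B ⧸ Ideal.span {b}) →ₐ[A] S := Ideal.Quotient.liftₐ _ θ fun x hx => by
      obtain ⟨c, rfl⟩ := Ideal.mem_span_singleton'.1 hx
      rw [map_mul, hb, mul_zero]
    obtain ⟨E, _, _, hE, v, w, hw⟩ := h (B ⧸ Ideal.span {b}) inferInstance g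
    refine ⟨E, inferInstance, inferInstance, hE, v.comp (Ideal.Quotient.mkₐ A _), w, ?_, ?_⟩
    · rw [← AlgHom.comp_assoc, hw]
      ext x
      rfl
    · show v (Ideal.Quotient.mk _ b) = 0
      rw [Ideal.Quotient.eq_zero_iff_mem.2 (Ideal.mem_span_singleton_self b), map_zero]

variable {W X : Scheme.{u}}

/-- The algebra structure over the stalk at the image. -/
abbrev mapAlg (g : W ⟶ X) (z : W) (R : Type u) [CommRing R] [Algebra (W.presheaf.stalk z) R] :
    Algebra (X.presheaf.stalk (g z)) R :=
  ((algebraMap (W.presheaf.stalk z) R).comp (g.stalkMap z).hom).toAlgebra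

theorem isLocalHom_mapAlg (g : W ⟶ X) (z : W) (R : Type u) [CommRing R]
    [Algebra (W.presheaf.stalk z) R] [IsLocalHom (algebraMap (W.presheaf.stalk z) R)] :
    letI := mapAlg g z R
    IsLocalHom (algebraMap (X.presheaf.stalk (g z)) R) :=
  RingHom.isLocalHom_comp _ _

/-- Strict henselizations at points of `W` are strict henselizations at their images in `X`. -/
def SHStable (g : W ⟶ X) : Prop :=
  ∀ (z : W) (R : Type u) [CommRing R] [IsLocalRing R] [Algebra (W.presheaf.stalk z) R]
    [IsLocalHom (algebraMap (W.presheaf.stalk z) R)] [Hensel.IsStrictHenselization (W.presheaf.stalk z) R],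
    letI := mapAlg g z R
    haveI := isLocalHom_mapAlg g z R
    Hensel.IsStrictHenselization (X.presheaf.stalk (g z)) R

theorem specOf_mapAlg (g : W ⟶ X) (z : W) (R : Type u) [CommRing R] [Algebra (W.presheaf.stalk z) R] :
    letI := mapAlg g z R
    Hens2.specOf X (g z) R = Hens2.specOf W z R ≫ g := by
  letI := mapAlg g z R
  show Spec.map (CommRingCat.ofHom ((algebraMap (W.presheaf.stalk z) R).comp (g.stalkMap z).hom)) ≫ _ = _
  rw [CommRingCat.ofHom_comp, CommRingCat.ofHom_hom, Spec.map_comp, Category.assoc,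
    Scheme.SpecMap_stalkMap_fromSpecStalk]
  exact (Category.assoc _ _ _).symm

theorem shStable_of_isOpenImmersion (g : W ⟶ X) [IsOpenImmersion g] : SHStable g := by
  intro z R _ _ _ _ hS
  letI := mapAlg g z R
  haveI := isLocalHom_mapAlg g z R
  haveI := hS.henselian
  haveI := hS.isSepClosure.sep_closed
  let e := (asIso (g.stalkMap z)).commRingCatIsoToRingEquiv
  refine ⟨hS.henselian, ⟨inferInstance, ⟨fun x => ?_⟩⟩, fun T _ _ f _ τ hτ => ?_⟩
  · have hs := hS.isSepClosure.separable
    let φ : IsLocalRing.ResidueField (X.presheaf.stalk (g z)) ≃+*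
        IsLocalRing.ResidueField (W.presheaf.stalk z) := IsLocalRing.ResidueField.mapEquiv e
    refine Algebra.IsSeparable.isSeparable' (K := IsLocalRing.ResidueField R) (F := _) (self := ?_) x
    refine Algebra.IsSeparable.of_equiv_equiv φ.symm (RingEquiv.refl (IsLocalRing.ResidueField R)) ?_
    refine RingHom.ext fun y => ?_
    obtain ⟨a, rfl⟩ := IsLocalRing.residue_surjective y
    obtain ⟨b, rfl⟩ := e.surjective a
    show algebraMap _ (IsLocalRing.ResidueField R) (φ.symm (φ (IsLocalRing.residue _ b))) = _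
    rw [RingEquiv.symm_apply_apply]
    rfl
  · haveI : IsLocalHom (e.symm : W.presheaf.stalk z →+* X.presheaf.stalk (g z)) := inferInstance
    obtain ⟨k, ⟨hk, hkr⟩, hu⟩ := hS.universal T (f.comp (e.symm : _ →+* _)) τ (RingHom.ext fun y => by
      obtain ⟨a, rfl⟩ := IsLocalRing.residue_surjective y
      obtain ⟨b, rfl⟩ := e.surjective a
      refine (RingHom.congr_fun hτ (IsLocalRing.residue _ b)).trans ?_
      show IsLocalRing.residue T (f b) = IsLocalRing.residue T (f (e.symm (e b)))
      rw [RingEquiv.symm_apply_apply])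
    refine ⟨k, ⟨RingHom.ext fun b => ?_, hkr⟩, fun k' hk' => hu k' ⟨RingHom.ext fun a => ?_, hk'.2⟩⟩
    · refine (RingHom.congr_fun hk (e b)).trans ?_
      show f (e.symm (e b)) = f b
      rw [RingEquiv.symm_apply_apply]
    · obtain ⟨b, rfl⟩ := e.surjective a
      refine (RingHom.congr_fun hk'.1 b).trans ?_
      show f b = f (e.symm (e b))
      rw [RingEquiv.symm_apply_apply]

theorem SHStable.comp {W' : Scheme.{u}} {g' : W' ⟶ W} {g : W ⟶ X} (h' : SHStable g') (h : SHStable g) :
    SHStable (g' ≫ g) := by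
  intro z R _ _ _ _ _
  letI := mapAlg g' z R
  haveI := isLocalHom_mapAlg g' z R
  haveI := h' z R
  have key := h (g' z) R
  have e : (mapAlg (g' ≫ g) z R) = mapAlg g (g' z) R := by
    refine congrArg RingHom.toAlgebra ?_
    rw [Scheme.Hom.stalkMap_comp]
    rfl
  convert key using 1
  all_goals first | rfl | exact heq_of_eq e

theorem specOf_closedPoint' (X : Scheme.{u}) (x : X) (R : Type u) [CommRing R] [IsLocalRing R]
    [Algebra (X.presheaf.stalk x) R] [IsLocalHom (algebraMap (X.presheaf.stalk x) R)] :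
    Hens2.specOf X x R (IsLocalRing.closedPoint R : Spec (CommRingCat.of R)) = x := by
  rw [Scheme.Hom.comp_apply]
  exact (congrArg (X.fromSpecStalk x)
    (IsLocalRing.comap_closedPoint (algebraMap (X.presheaf.stalk x) R))).trans X.fromSpecStalk_closedPoint

theorem mem_of_specOf (X : Scheme.{u}) (x : X) (R : Type u) [CommRing R] [IsLocalRing R]
    [Algebra (X.presheaf.stalk x) R] [IsLocalHom (algebraMap (X.presheaf.stalk x) R)] {V : X.Opens}
    (hxV : x ∈ V) (z : Spec (CommRingCat.of R)) : Hens2.specOf X x R z ∈ V := by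
  have hs := (IsLocalRing.specializes_closedPoint (R := R) z).map (Hens2.specOf X x R).continuous
  refine hs.mem_open V.isOpen ?_
  exact Eq.mpr (congrArg (· ∈ V) (specOf_closedPoint' X x R)) hxV

/-- Strict localisations are stable. -/
theorem shStable_specOf (X : Scheme.{u}) (x : X) (R : Type u) [CommRing R] [IsLocalRing R]
    [Algebra (X.presheaf.stalk x) R] [IsLocalHom (algebraMap (X.presheaf.stalk x) R)]
    [Hensel.IsStrictHenselization (X.presheaf.stalk x) R] : SHStable (Hens2.specOf X x R) := by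
  intro z R' _ _ algz _ hS'
  let σ := Hens2.specOf X x R
  letI := mapAlg σ z R'
  haveI := isLocalHom_mapAlg σ z R'
  haveI := hS'.henselian
  haveI := hS'.isSepClosure.sep_closed
  obtain ⟨_, ⟨V, hV, rfl⟩, hxV, -⟩ :=
    X.isBasis_affineOpens.exists_subset_of_mem_open (Set.mem_univ x) isOpen_univ
  have hzV : σ z ∈ V := mem_of_specOf X x R hxV z
  letI := TopCat.Presheaf.algebra_section_stalk X.presheaf ⟨x, hxV⟩
  letI := TopCat.Presheaf.algebra_section_stalk X.presheaf ⟨σ z, hzV⟩
  haveI := hV.isLocalization_stalk ⟨x, hxV⟩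
  haveI := hV.isLocalization_stalk ⟨σ z, hzV⟩
  letI : Algebra Γ(X, V) R :=
    ((algebraMap (X.presheaf.stalk x) R).comp (algebraMap Γ(X, V) (X.presheaf.stalk x))).toAlgebra
  haveI : IsScalarTower Γ(X, V) (X.presheaf.stalk x) R := .of_algebraMap_eq fun _ => rfl
  have hR := EtLimit.fac_et_strictHenselization (A := Γ(X, V)) (L := X.presheaf.stalk x) (R := R)
    (hV.primeIdealOf ⟨x, hxV⟩).asIdeal
  let Lz : Type u := (Spec (CommRingCat.of R)).presheaf.stalk z
  letI algR : Algebra R Lz := StructureSheaf.stalkAlgebra (R := R) z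
  haveI : IsLocalization.AtPrime Lz z.asIdeal := StructureSheaf.IsLocalization.to_stalk (R := R) z
  letI : Algebra R R' := ((algebraMap Lz R').comp (algebraMap R Lz)).toAlgebra
  haveI : IsScalarTower R Lz R' := .of_algebraMap_eq fun _ => rfl
  have hR' := EtLimit.fac_et_strictHenselization (A := R) (L := Lz) (R := R') z.asIdeal
  letI algA : Algebra Γ(X, V) R' := ((algebraMap R R').comp (algebraMap Γ(X, V) R)).toAlgebra
  haveI : IsScalarTower Γ(X, V) R R' := .of_algebraMap_eq fun _ => rfl
  have hfac := IndAlg.Etale.fac_trans hR hR'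
  let a₁ : Γ(X, V) ⟶ CommRingCat.of R' :=
    X.presheaf.germ V (σ z) hzV ≫ σ.stalkMap z ≫ CommRingCat.ofHom (algebraMap Lz R')
  let a₂ : Γ(X, V) ⟶ CommRingCat.of R' :=
    X.presheaf.germ V x hxV ≫ CommRingCat.ofHom (algebraMap (X.presheaf.stalk x) R) ≫
      StructureSheaf.toStalk R z ≫ CommRingCat.ofHom (algebraMap Lz R')
  have ha : a₁ = a₂ := by
    refine Spec.map_injective ((cancel_mono hV.fromSpec).1 ?_)
    have h1 : Spec.map (X.presheaf.germ V (σ z) hzV) ≫ hV.fromSpec = X.fromSpecStalk (σ z) :=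
      hV.fromSpecStalk_eq_fromSpecStalk hzV
    have h2 : Spec.map (X.presheaf.germ V x hxV) ≫ hV.fromSpec = X.fromSpecStalk x :=
      hV.fromSpecStalk_eq_fromSpecStalk hxV
    simp only [a₁, a₂, Spec.map_comp, Category.assoc, h1, h2, Scheme.SpecMap_stalkMap_fromSpecStalk]
    rw [Spec.fromSpecStalk_eq']
    rfl
  haveI : IsScalarTower Γ(X, V) (X.presheaf.stalk (σ z)) R' := .of_algebraMap_eq fun s =>
    (RingHom.congr_fun (congrArg CommRingCat.Hom.hom ha) s).symm
  exact isStrictHenselization_of_fac Γ(X, V) (X.presheaf.stalk (σ z)) R'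
    (hV.primeIdealOf ⟨σ z, hzV⟩).asIdeal hfac

end Groth.Agent.EtAcDepth
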