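import Groth.Agent.EtAcDepth.PointCover
import Groth.Agent.EtAcDepth.PointSpace
import Groth.Agent.EtAcDepth.Strict
import Groth.Agent.EtLimit.Nbhd

/-!
# The point cover over strictly local bases
-/

set_option autoImplicit false
set_option backward.isDefEq.respectTransparency false
set_option linter.style.haveILetI false

universe u

open CategoryTheory CategoryTheory.Limits AlgebraicGeometry Opposite IsLocalRing
open scoped TensorProduct

noncomputable section

namespace Groth.Agent.EtAcDepth

open Groth.Agent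

/-- A point cover: absolutely flat, with separably closed algebraic residue fields. -/
structure IsPointCover (A B : Type u) [CommRing A] [CommRing B] [Algebra A B] : Prop where
  reduced : IsReduced B
  maximal : ∀ q : Ideal B, q.IsPrime → q.IsMaximal
  surjective : ∀ p : PrimeSpectrum A, ∃ q : PrimeSpectrum B, PrimeSpectrum.comap (algebraMap A B) q = p
  algClosed : ∀ (q : Ideal B) [q.IsMaximal], @IsAlgClosed (B ⧸ q) (Ideal.Quotient.field q)
  algebraic : ∀ (q : Ideal B) [q.IsPrime], AlgPt A (B ⧸ q)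

theorem exists_isPointCover (A : Type u) [CommRing A] :
    ∃ (B : Type u) (_ : CommRing B) (_ : Algebra A B), IsPointCover A B := by
  obtain ⟨B, _, _, h0, h1, h2, h3, h4⟩ := exists_pointCover A
  exact ⟨B, inferInstance, inferInstance, h0, h1, h2, h3, h4⟩

variable {A B : Type u} [CommRing A] [CommRing B] [Algebra A B] (hB : IsPointCover A B)

include hB in
/-- Local rings over the point cover of ind-étale algebras are quotients of the cover. -/
theorem surjective_local (R : Type u) [CommRing R] [Algebra A R] (hR : IndAlg.Fac (IndAlg.Etale.Et A) R)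
    (P : Ideal (B ⊗[A] R)) [P.IsPrime] (L : Type u) [CommRing L] [IsLocalRing L] [Algebra (B ⊗[A] R) L]
    [IsLocalization.AtPrime L P] :
    Function.Surjective ((algebraMap (B ⊗[A] R) L).comp (algebraMap B (B ⊗[A] R))) ∧
      IsField L ∧ IsSepClosed (ResidueField L) := by
  haveI := hB.reduced
  let ι : B →+* L := (algebraMap (B ⊗[A] R) L).comp (algebraMap B (B ⊗[A] R))
  let q : Ideal B := P.comap (algebraMap B (B ⊗[A] R))
  haveI : q.IsMaximal := hB.maximal q inferInstance
  letI := Ideal.Quotient.field q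
  haveI : IsAlgClosed (B ⧸ q) := hB.algClosed q
  have h0 : ∀ b ∈ q, ι b = 0 := fun b hb => by
    obtain ⟨e, he, heb⟩ := exists_mul_eq_zero_of_mem hB.maximal q hb
    have hu : IsUnit (ι e) := IsLocalization.map_units L
      (⟨algebraMap B (B ⊗[A] R) e, he⟩ : P.primeCompl)
    exact hu.mul_right_eq_zero.1 ((map_mul ι e b).symm.trans (by rw [heb, map_zero]))
  let lift : B ⧸ q →+* L := Ideal.Quotient.lift q ι h0
  letI : Algebra (B ⧸ q) L := lift.toAlgebra
  letI : Algebra A L := (ι.comp (algebraMap A B)).toAlgebra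
  haveI : IsScalarTower A (B ⧸ q) L := .of_algebraMap_eq fun _ => rfl
  let r₀ : R →ₐ[A] L :=
    { (algebraMap (B ⊗[A] R) L).comp (Algebra.TensorProduct.includeRight.toRingHom :
        R →+* B ⊗[A] R) with
      commutes' := fun a => congrArg (algebraMap (B ⊗[A] R) L)
        ((Algebra.TensorProduct.includeRight : R →ₐ[A] B ⊗[A] R).commutes a) }
  let w₀ : (B ⧸ q) ⊗[A] R →ₐ[B ⧸ q] L :=
    Algebra.TensorProduct.lift (Algebra.ofId (B ⧸ q) L) r₀ fun _ _ => Commute.all _ _
  have hfac : IndAlg.Fac (IndAlg.Etale.Et (B ⧸ q)) ((B ⧸ q) ⊗[A] R) := IndAlg.Etale.fac_baseChange hR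
  have hR' : ∀ r : R, r₀ r ∈ (algebraMap (B ⧸ q) L).range := fun r => by
    obtain ⟨E, _, _, hE, v, w, hw⟩ := hfac (Polynomial (B ⧸ q)) inferInstance
      (Polynomial.aeval ((1 : B ⧸ q) ⊗ₜ[A] r))
    haveI : Algebra.Etale (B ⧸ q) E := hE
    have hz : w (v Polynomial.X) = (1 : B ⧸ q) ⊗ₜ[A] r :=
      (AlgHom.congr_fun hw Polynomial.X).trans (Polynomial.aeval_X _)
    have := mem_range_of_etale (w₀.comp w) (v Polynomial.X)
    rw [AlgHom.comp_apply, hz] at this
    have e : w₀ ((1 : B ⧸ q) ⊗ₜ[A] r) = r₀ r := by simp [w₀]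
    rwa [e] at this
  have hT : ∀ t : B ⊗[A] R, algebraMap (B ⊗[A] R) L t ∈ (algebraMap (B ⧸ q) L).range := fun t => by
    induction t using TensorProduct.induction_on with
    | zero => rw [map_zero]; exact Subring.zero_mem _
    | add s t hs ht => rw [map_add]; exact Subring.add_mem _ hs ht
    | tmul b r =>
      have e : b ⊗ₜ[A] r = algebraMap B (B ⊗[A] R) b * ((1 : B) ⊗ₜ[A] r) := by
        rw [Algebra.TensorProduct.algebraMap_apply, Algebra.TensorProduct.tmul_mul_tmul]
        simp
      rw [e, map_mul]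
      exact Subring.mul_mem _ ⟨Ideal.Quotient.mk q b, rfl⟩ (hR' r)
  have hs : Function.Surjective (algebraMap (B ⧸ q) L) := fun l => by
    obtain ⟨t, s, rfl⟩ := IsLocalization.exists_mk'_eq P.primeCompl l
    obtain ⟨c, hc⟩ := hT t
    obtain ⟨d, hd⟩ := hT s
    have hu : IsUnit (algebraMap (B ⊗[A] R) L s) := IsLocalization.map_units L s
    have hd0 : d ≠ 0 := fun h0 => hu.ne_zero (by rw [← hd, h0, map_zero])
    refine ⟨c * d⁻¹, ?_⟩
    rw [IsLocalization.eq_mk'_iff_mul_eq, ← hd, ← map_mul, inv_mul_cancel_right₀ hd0, hc]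
  let e : B ⧸ q ≃+* L := RingEquiv.ofBijective (algebraMap (B ⧸ q) L) ⟨(algebraMap (B ⧸ q) L).injective, hs⟩
  refine ⟨fun l => ?_, MulEquiv.isField (Field.toIsField (B ⧸ q)) e.symm.toMulEquiv, ?_⟩
  · obtain ⟨c, rfl⟩ := hs l
    obtain ⟨b, rfl⟩ := Ideal.Quotient.mk_surjective c
    exact ⟨b, rfl⟩
  · let e' : B ⧸ q ≃+* ResidueField L :=
      RingEquiv.ofBijective ((residue L).comp (algebraMap (B ⧸ q) L))
        ⟨RingHom.injective _, residue_surjective.comp hs⟩
    exact _root_.Groth.Agent.EtaleSite.SetSH.isSepClosed_of_equiv e'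

include hB in
/-- The point cover is a point space. -/
theorem IsPointCover.isPointSpace : IsPointSpace (Spec (CommRingCat.of B)) := by
  haveI := hB.reduced
  intro q
  let L := (Spec (CommRingCat.of B)).presheaf.stalk q
  letI : Algebra B L := StructureSheaf.stalkAlgebra (R := B) q
  haveI : IsLocalization.AtPrime L q.asIdeal := StructureSheaf.IsLocalization.to_stalk B q
  haveI : q.asIdeal.IsMaximal := hB.maximal _ q.isPrime
  letI := Ideal.Quotient.field q.asIdeal
  haveI : IsAlgClosed (B ⧸ q.asIdeal) := hB.algClosed q.asIdeal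
  have h0 : ∀ b ∈ q.asIdeal, algebraMap B L b = 0 := fun b hb => by
    obtain ⟨e, he, heb⟩ := exists_mul_eq_zero_of_mem hB.maximal q.asIdeal hb
    exact (IsLocalization.map_eq_zero_iff q.asIdeal.primeCompl L b).2 ⟨⟨e, he⟩, heb⟩
  let lift : B ⧸ q.asIdeal →+* L := Ideal.Quotient.lift _ (algebraMap B L) h0
  have hs : Function.Surjective lift := fun l => by
    obtain ⟨t, s, rfl⟩ := IsLocalization.exists_mk'_eq q.asIdeal.primeCompl l
    have hs0 : Ideal.Quotient.mk q.asIdeal (s : B) ≠ 0 := fun h => s.2 (Ideal.Quotient.eq_zero_iff_mem.1 h)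
    refine ⟨Ideal.Quotient.mk _ t * (Ideal.Quotient.mk q.asIdeal (s : B))⁻¹, ?_⟩
    rw [IsLocalization.eq_mk'_iff_mul_eq]
    refine Eq.trans (congrArg (_ * ·) (show algebraMap B L s = lift (Ideal.Quotient.mk _ (s : B)) from rfl)) ?_
    rw [← map_mul, inv_mul_cancel_right₀ hs0]
    rfl
  let e : B ⧸ q.asIdeal ≃+* L := RingEquiv.ofBijective lift ⟨lift.injective, hs⟩
  refine ⟨MulEquiv.isField (Field.toIsField (B ⧸ q.asIdeal)) e.symm.toMulEquiv, ?_⟩
  exact _root_.Groth.Agent.EtaleSite.SetSH.isSepClosed_of_equiv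
    (RingEquiv.ofBijective ((residue L).comp lift) ⟨RingHom.injective _, residue_surjective.comp hs⟩)

/-- The projection of the point cover. -/
abbrev coverMap (A B : Type u) [CommRing A] [CommRing B] [Algebra A B] :
    Spec (CommRingCat.of B) ⟶ Spec (CommRingCat.of A) :=
  Spec.map (CommRingCat.ofHom (algebraMap A B))

include hB in
/-- The fibre of the point cover over a strict localisation. -/
theorem IsPointCover.pullback_specOf (u : Spec (CommRingCat.of A)) (RS : Type u) [CommRing RS] [IsLocalRing RS]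
    [Algebra ((Spec (CommRingCat.of A)).presheaf.stalk u) RS]
    [IsLocalHom (algebraMap ((Spec (CommRingCat.of A)).presheaf.stalk u) RS)]
    [Hensel.IsStrictHenselization ((Spec (CommRingCat.of A)).presheaf.stalk u) RS] :
    IsPointSpace (pullback (coverMap A B) (Hens2.specOf (Spec (CommRingCat.of A)) u RS)) ∧
      ∀ p : ↥(pullback (coverMap A B) (Hens2.specOf (Spec (CommRingCat.of A)) u RS)),
        ∃ φ : RS →+* (pullback (coverMap A B) (Hens2.specOf (Spec (CommRingCat.of A)) u RS)).residueField p,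
          Spec.map (CommRingCat.ofHom φ) =
            (pullback (coverMap A B) (Hens2.specOf (Spec (CommRingCat.of A)) u RS)).fromSpecResidueField p ≫
              pullback.snd _ _ ∧
          @AlgPt RS _ _ _ φ.toAlgebra := by
  let O := (Spec (CommRingCat.of A)).presheaf.stalk u
  letI algO : Algebra A O := StructureSheaf.stalkAlgebra (R := A) u
  haveI : IsLocalization.AtPrime O u.asIdeal := StructureSheaf.IsLocalization.to_stalk A u
  letI algA : Algebra A RS := ((algebraMap O RS).comp (algebraMap A O)).toAlgebra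
  haveI : IsScalarTower A O RS := .of_algebraMap_eq fun _ => rfl
  have hR : IndAlg.Fac (IndAlg.Etale.Et A) RS :=
    EtLimit.fac_et_strictHenselization (A := A) (L := O) (R := RS) u.asIdeal
  let σ := Hens2.specOf (Spec (CommRingCat.of A)) u RS
  have hσ : σ = Spec.map (CommRingCat.ofHom (algebraMap A RS)) := by
    show Spec.map _ ≫ _ = _
    rw [Spec.fromSpecStalk_eq', ← Spec.map_comp]
    rfl
  let T := Spec (CommRingCat.of (B ⊗[A] RS))
  let E : pullback (coverMap A B) σ ≅ T := pullback.congrHom rfl hσ ≪≫ pullbackSpecIso A B RS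
  have hT : ∀ P : T, Function.Surjective ((algebraMap (B ⊗[A] RS) (T.presheaf.stalk P)
      (self := StructureSheaf.stalkAlgebra (R := B ⊗[A] RS) P)).comp (algebraMap B (B ⊗[A] RS))) ∧
      IsField (T.presheaf.stalk P) ∧ IsSepClosed (T.residueField P) := fun P => by
    letI : Algebra (B ⊗[A] RS) (T.presheaf.stalk P) := StructureSheaf.stalkAlgebra (R := B ⊗[A] RS) P
    haveI : IsLocalization.AtPrime (T.presheaf.stalk P) P.asIdeal :=
      StructureSheaf.IsLocalization.to_stalk (B ⊗[A] RS) P
    exact surjective_local hB RS hR P.asIdeal (T.presheaf.stalk P)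
  have hPT : IsPointSpace T := fun P => (hT P).2
  refine ⟨hPT.of_iso E, fun p => ?_⟩
  let P := E.hom p
  let κ := E.hom.residueFieldMap p
  let ev : CommRingCat.of (B ⊗[A] RS) ⟶ T.residueField P := StructureSheaf.toStalk (B ⊗[A] RS) P ≫ T.residue P
  let φ : RS →+* (pullback (coverMap A B) σ).residueField p :=
    (ev ≫ κ).hom.comp (Algebra.TensorProduct.includeRight.toRingHom : RS →+* B ⊗[A] RS)
  refine ⟨φ, ?_, ?_⟩
  · have h1 : E.hom ≫ Spec.map (CommRingCat.ofHom
        (Algebra.TensorProduct.includeRight.toRingHom : RS →+* B ⊗[A] RS)) = pullback.snd _ _ := by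
      simp only [E, Iso.trans_hom, Category.assoc]
      refine (congrArg ((pullback.congrHom rfl hσ).hom ≫ ·) (pullbackSpecIso_hom_snd A B RS)).trans ?_
      simp
    have h2 : Spec.map (T.residue P) ≫ T.fromSpecStalk P = T.fromSpecResidueField P := rfl
    rw [show CommRingCat.ofHom φ = CommRingCat.ofHom (Algebra.TensorProduct.includeRight.toRingHom :
        RS →+* B ⊗[A] RS) ≫ ev ≫ κ from rfl, Spec.map_comp, Spec.map_comp, ← h1,
      ← Category.assoc]
    refine congrArg (· ≫ _) ?_
    refine Eq.trans (congrArg (Spec.map κ ≫ ·) ?_) (E.hom.SpecMap_residueFieldMap_fromSpecResidueField p)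
    show Spec.map (StructureSheaf.toStalk (B ⊗[A] RS) P ≫ T.residue P) = T.fromSpecResidueField P
    rw [Spec.map_comp, ← h2, Spec.fromSpecStalk_eq']
  · letI := φ.toAlgebra
    haveI : IsIso κ := inferInstance
    intro z
    obtain ⟨z, rfl⟩ := (ConcreteCategory.bijective_of_isIso κ).2 z
    obtain ⟨l, rfl⟩ := IsLocalRing.residue_surjective z
    obtain ⟨b, rfl⟩ := (hT P).1 l
    let ψ : B →+* (pullback (coverMap A B) σ).residueField p := (ev ≫ κ).hom.comp (algebraMap B (B ⊗[A] RS))
    let q := RingHom.ker ψ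
    haveI : q.IsPrime := RingHom.ker_isPrime ψ
    obtain ⟨a, ha, P₀, hP₀, hz⟩ := hB.algebraic q (Ideal.Quotient.mk q b)
    have hψ : ψ.comp (algebraMap A B) = φ.comp (algebraMap A RS) := RingHom.ext fun x => by
      show (ev ≫ κ).hom (algebraMap B (B ⊗[A] RS) (algebraMap A B x)) =
        (ev ≫ κ).hom ((Algebra.TensorProduct.includeRight : RS →ₐ[A] B ⊗[A] RS) (algebraMap A RS x))
      rw [AlgHom.commutes, IsScalarTower.algebraMap_apply A B (B ⊗[A] RS)]
    let g := RingHom.kerLift ψ
    refine ⟨algebraMap A RS a, fun h => ha ?_, P₀.map (algebraMap A RS), hP₀.map _, ?_⟩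
    · apply RingHom.kerLift_injective ψ
      rw [map_zero]
      exact (RingHom.congr_fun hψ a).trans h
    · rw [Polynomial.eval₂_map]
      have := congrArg g hz
      rw [map_zero, Polynomial.hom_eval₂, map_mul] at this
      refine Eq.trans ?_ this
      have e1 : g.comp (algebraMap A (B ⧸ q)) = φ.comp (algebraMap A RS) := hψ
      have e2 : g (algebraMap A (B ⧸ q) a) = φ (algebraMap A RS a) := RingHom.congr_fun hψ a
      rw [e1, e2]
      rfl

end Groth.Agent.EtAcDepth
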