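import Groth.Agent.EtAcDepth.ShBase
import Groth.Agent.EtAcDepth.UnitCrit
import Groth.Agent.EtSubmersive.ShBC
import Groth.Agent.EtaleSite.HpullComp
import Groth.Prelude.Def_SGA4h

/-!
# Units along geometric generic fibres at strictly local points of the closed fibre
-/

set_option autoImplicit false
set_option backward.isDefEq.respectTransparency false
set_option linter.style.haveILetI false

universe u

open CategoryTheory CategoryTheory.Limits AlgebraicGeometry Opposite IsLocalRing
open scoped TensorProduct

noncomputable section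

namespace Groth.Agent.EtAcDepth

open Groth.Agent Groth.Agent.EtaleSite Groth.Agent.EtLimit Groth.Agent.EtSubmersive

/-- The trivial presentation. -/
theorem nonempty_etPres_id (T : Scheme.{u}) [IsAffine T] : Nonempty (EtPres (𝟙 T)) :=
  ⟨{ I := Discrete PUnit.{u + 1}
     cofiltered := IsCofiltered.of_hasFiniteLimits _
     D := (Functor.const _).obj T
     π := 𝟙 _
     isLimit :=
      { lift := fun s => s.π.app ⟨PUnit.unit⟩
        fac := fun s j => by
          obtain ⟨⟨⟩⟩ := j
          exact Category.comp_id _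
        uniq := fun s m hm => (Category.comp_id m).symm.trans (hm ⟨PUnit.unit⟩) }
     p := fun _ => 𝟙 T
     isAffine := fun _ => ‹_›
     etale := fun _ => inferInstanceAs (Etale (𝟙 T))
     w := fun _ _ _ => Category.comp_id _
     fac := fun _ => Category.comp_id _ }⟩

theorem bijective_Hpull_of_iso_coef {A B : Scheme.{u}} (a : A ⟶ B) {G G' : EtCoh.Ab B} (φ : G ≅ G') (q : ℕ)
    (h : Function.Bijective (EtCore.Hpull a G q)) : Function.Bijective (EtCore.Hpull a G' q) := by
  refine (Function.Bijective.of_comp_iff _ (HpullComp.HF_map_bijective (n := q) φ.hom)).1 ?_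
  have e : EtCore.Hpull a G' q ∘ (fun x : EtCoh.H B G q => x.comp (Abelian.Ext.mk₀ φ.hom) (add_zero q)) =
      (fun x : EtCoh.H A ((EtCoh.pull a).obj G) q =>
        x.comp (Abelian.Ext.mk₀ ((EtCoh.pull a).map φ.hom)) (add_zero q)) ∘ EtCore.Hpull a G q :=
    funext fun x => HpullSeq.Hpull_postcomp a φ.hom q x
  rw [e]
  exact (HpullComp.HF_map_bijective _).comp h

theorem bijective_Hpull_of_iso_source {A A' B : Scheme.{u}} (E : A' ≅ A) (a : A ⟶ B) (c : A' ⟶ B)
    (w : E.hom ≫ a = c) (G : EtCoh.Ab B) (q : ℕ) (h : Function.Bijective (EtCore.Hpull a G q)) :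
    Function.Bijective (EtCore.Hpull c G q) := by
  subst w
  obtain ⟨hi, hs⟩ := HpullComp.Hpull_comp_injective_iff E.hom a q G
  have hb := (HpullComp.Hpull_bijective_of_isIso E.hom q ((EtCoh.pull a).obj G)).comp h
  exact ⟨hi.2 hb.1, hs.2 hb.2⟩

variable {X : Scheme.{u}} (R : Type u) [CommRing R] [HenselianLocalRing R] [IsSepClosed (ResidueField R)]
  {σ : Spec (CommRingCat.of R) ⟶ X} (P : EtPres σ) {N : Scheme.{u}} (h : N ⟶ X) [QuasiCompact h]
  [QuasiSeparated h] (F : EtCoh.Ab X)
  (hF : ∀ q : ℕ, Function.Bijective (EtCore.Hpull (pullback.snd h σ) ((EtCoh.pull σ).obj F) q))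

include P hF in
/-- The unit is bijective on the stalk at a strictly local point. -/
theorem bijective_stalk_unit_strict :
    Function.Bijective ((EtCoh.stalk (closedPt R ≫ σ)).map ((EtCoh.pullPushAdj h).unit.app F)) := by
  let pY := pullback.snd h σ
  let hb := pullback.fst h σ
  let G := (EtCoh.pull σ).obj F
  let T := EtCoh.top (Spec (CommRingCat.of R))
  -- sections over the strictly local scheme
  have hsec : Function.Bijective (((EtCoh.pullPushAdj pY).unit.app G).hom.app (op T)) := by
    have hb0 : Function.Bijective fun k : EtCoh.const _ ℤ ⟶ G => k ≫ (EtCoh.pullPushAdj pY).unit.app G :=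
      (EtDescSS.CompBC.bijective_map_iff pY (EtCoh.const _ ℤ) G).1
        ((EtDescSS.CompBC.bijective_Hpull_zero_iff pY G).1 (hF 0))
    refine (Function.Bijective.of_comp_iff _ (Flasque.evTop_bijective G)).1 ?_
    refine (congrArg Function.Bijective ?_).mpr
      ((Flasque.evTop_bijective ((EtCoh.push pY).obj ((EtCoh.pull pY).obj G))).comp hb0)
    funext k
    exact (Flasque.evTop_comp k _).symm
  have hst : Function.Bijective ((EtCoh.stalk (closedPt R)).map ((EtCoh.pullPushAdj pY).unit.app G)) := by
    refine (Function.Bijective.of_comp_iff _ (bijective_germ_top R G)).1 ?_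
    refine (congrArg Function.Bijective ?_).mpr
      ((bijective_germ_top R ((EtCoh.push pY).obj ((EtCoh.pull pY).obj G))).comp hsec)
    funext s
    exact germ_naturality (closedPt R) ((EtCoh.pullPushAdj pY).unit.app G) T (topPoint R) s
  -- base change to the strict localisation
  obtain ⟨PR⟩ := nonempty_etPres_id (Spec (CommRingCat.of R))
  have hbc : IsIso ((EtCoh.stalk (closedPt R)).map
      (EtCoh.baseChange0 h σ pY hb pullback.condition ((EtCoh.pull h).obj F))) := by
    have hpt : overClosed (𝟙 _) ≫ 𝟙 (Spec (CommRingCat.of R)) = closedPt R :=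
      (Category.comp_id _).trans (Category.id_comp _)
    refine (ConcreteCategory.isIso_iff_bijective _).2 ?_
    rw [← hpt]
    refine bijective_stalk_baseChange0 h σ pY hb (IsPullback.of_hasPullback h σ) _ σ (𝟙 _) P PR
      (RingHom.id R) (RingHom.Flat.id R) (by rw [CommRingCat.ofHom_id, Spec.map_id]) fun Ω _ _ η => ?_
    haveI : IsIso (Spec.map (CommRingCat.ofHom (RingHom.id R))) := by
      rw [CommRingCat.ofHom_id, Spec.map_id]; infer_instance
    exact ((asIso (pullback.snd (Spec.map (CommRingCat.ofHom (RingHom.id R))) η)).hom.homeomorph.connectedSpace_iff).2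
      inferInstance
  haveI := hbc
  haveI : IsIso ((EtCoh.stalk (closedPt R)).map ((EtCoh.pullPushAdj pY).unit.app G)) :=
    (ConcreteCategory.isIso_iff_bijective _).2 hst
  have key := congrArg (EtCoh.stalk (closedPt R)).map
    (EtRamLib.Kummer.Cover.pull_map_unit_baseChange0 h σ pY hb pullback.condition F)
  rw [Functor.map_comp, Functor.map_comp, ← IsIso.eq_comp_inv] at key
  have hi : IsIso ((EtCoh.stalk (closedPt R)).map ((EtCoh.pull σ).map ((EtCoh.pullPushAdj h).unit.app F))) :=
    (congrArg (fun k => IsIso k) key).mpr (IsIso.comp_isIso' ‹_› inferInstance)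
  exact (ConcreteCategory.isIso_iff_bijective _).1
    ((NatIso.isIso_map_iff (stalkPullIso σ (closedPt R)) _).1 hi)

end Groth.Agent.EtAcDepth
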