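import Groth.Agent.EtAcDepth.Piece
import Groth.Agent.StrictHens.Acyclic
import Groth.Agent.EtLimit.RpushStalk

/-!
# Direct image from the generic geometric fibre
-/

set_option autoImplicit false
set_option backward.isDefEq.respectTransparency false

universe u

open CategoryTheory CategoryTheory.Limits AlgebraicGeometry Opposite IsLocalRing
open scoped TensorProduct

noncomputable section

namespace Groth.Agent.EtAcDepth

open Groth.Agent Groth.Agent.EtaleSite Groth.Agent.EtaleSite.ConstSections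
open Groth.Agent.StrictHens Groth.Agent.StrictHens.Basic

/-- A scheme with the cohomology of a point for `ℤ/ℓ`, up to degree `m`. -/
def GoodScheme (W : Scheme.{u}) (ℓ m : ℕ) : Prop :=
  (∀ q : ℕ, 1 ≤ q → q ≤ m → Subsingleton (EtCoh.H W (EtCoh.const W (ZMod ℓ)) q)) ∧
    Nonempty (EtCoh.H W (EtCoh.const W (ZMod ℓ)) 0 ≃+ ZMod ℓ)

theorem GoodScheme.of_iso {W W' : Scheme.{u}} {ℓ m : ℕ} (h : GoodScheme W ℓ m) (e : W' ≅ W) :
    GoodScheme W' ℓ m := by
  refine ⟨fun q h1 h2 => ?_, ?_⟩
  · obtain ⟨i⟩ := Acyclic.nonempty_H_const_addEquiv e (ZMod ℓ) q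
    exact i.toEquiv.subsingleton_congr.1 (h.1 q h1 h2)
  · obtain ⟨i⟩ := Acyclic.nonempty_H_const_addEquiv e (ZMod ℓ) 0
    obtain ⟨j⟩ := h.2
    exact ⟨i.symm.trans j⟩

theorem GoodScheme.cst_bijective {W : Scheme.{u}} {ℓ m : ℕ} (hℓ : ℓ.Prime) (h : GoodScheme W ℓ m)
    (M : AddCommGrpCat.{u + 1}) : Function.Bijective fun c : M => cst (EtCoh.top W) c :=
  EtRestLib.cst_bijective_of_equiv hℓ.one_lt h.2.some M

theorem GoodScheme.nonempty {W : Scheme.{u}} {ℓ m : ℕ} (hℓ : ℓ.Prime) (h : GoodScheme W ℓ m) :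
    Nonempty W := by
  by_contra hW
  haveI : IsEmpty (EtCoh.top W).left := not_nonempty_iff.1 hW
  haveI := EtaleSite.sect_subsingleton_of_isEmpty (cSheaf W (AddCommGrpCat.of (ULift.{u + 1} (ZMod ℓ))))
    (EtCoh.top W)
  have h1 := h.cst_bijective hℓ (AddCommGrpCat.of (ULift.{u + 1} (ZMod ℓ)))
  haveI : Nontrivial (ZMod ℓ) := ZMod.nontrivial_iff.2 hℓ.ne_one
  exact not_subsingleton (ULift.{u + 1} (ZMod ℓ)) h1.1.subsingleton

theorem nonempty_H0_equiv {W : Scheme.{u}} (M : AddCommGrpCat.{u + 1})
    (h : Function.Bijective fun c : M => cst (EtCoh.top W) c) :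
    Nonempty (EtCoh.H W (cSheaf W M) 0 ≃ M) :=
  ⟨(Sheaf.H.equiv₀ _ (EtCore.topIsTerminal W)).toEquiv.trans (Equiv.ofBijective _ h).symm⟩

theorem isStrictHenselization_self (A : Type u) [CommRing A] [HenselianLocalRing A]
    [IsSepClosed (ResidueField A)] : Hensel.IsStrictHenselization A A := by
  refine ⟨inferInstance, ?_, fun T _ _ f _ τ hτ =>
    ⟨f, ⟨RingHom.comp_id f, fun a => (RingHom.congr_fun hτ (residue A a)).symm⟩, ?_⟩⟩
  · have h : IsSepClosure (ResidueField A) (ResidueField A) :=
      { sep_closed := inferInstance, separable := inferInstance }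
    convert h using 1
    refine Algebra.algebra_ext _ _ fun r => ?_
    obtain ⟨a, rfl⟩ := residue_surjective r
    rfl
  · rintro g ⟨hg, -⟩
    exact hg

theorem specOf_closedPt (X : Scheme.{u}) (x : X) (R : Type u) [CommRing R] [IsLocalRing R]
    [Algebra (X.presheaf.stalk x) R] [IsLocalHom (algebraMap (X.presheaf.stalk x) R)]
    (a : Spec (CommRingCat.of (ResidueField R))) : Hens2.geomPt X x R a = x := by
  refine (Scheme.Hom.comp_apply _ _ _).trans ?_
  refine Eq.trans (congrArg (Hens2.specOf X x R) ?_) (specOf_closedPoint' X x R)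
  exact IsLocalRing.PrimeSpectrum.comap_residue _ a

variable {U V Y : Scheme.{u}} (v : V ⟶ U) (h : Y ⟶ U) [IsIntegralHom h] [IsIntegral Y]
  (hN : ∀ y : Y, IsIntegrallyClosed (Y.presheaf.stalk y)) [IsSepClosed Y.functionField]
  {Ω : Type u} [Field Ω] [IsSepClosed Ω] (η : Spec (CommRingCat.of Ω) ⟶ Y)
  (hη : η default = genericPoint Y)

include hN hη in
/-- The geometric generic fibre over a strict localisation of the base change. -/
theorem goodScheme_strictLocal {ℓ m : ℕ} (hv : Acyc v ℓ m) (z : ↥(pullback v h)) (R : Type u) [CommRing R]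
    [IsLocalRing R] [Algebra ((pullback v h).presheaf.stalk z) R]
    [IsLocalHom (algebraMap ((pullback v h).presheaf.stalk z) R)]
    [hR : Hensel.IsStrictHenselization ((pullback v h).presheaf.stalk z) R] :
    GoodScheme (pullback (Hens2.specOf (pullback v h) z R ≫ pullback.snd v h) η) ℓ m := by
  haveI := hR.henselian
  haveI := hR.isSepClosure.sep_closed
  let x := pullback.fst v h z
  let y := pullback.snd v h z
  let OS := U.presheaf.stalk (v x)
  let OX := V.presheaf.stalk x
  let RY : Type u := Y.presheaf.stalk y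
  obtain ⟨hh, hsep⟩ := EtZarFlasque.forall_isSH hN y
  haveI : HenselianLocalRing RY := hh
  haveI : IsSepClosed (ResidueField RY) := hsep
  haveI : IsLocalHom (algebraMap (Y.presheaf.stalk y) RY) := ⟨fun _ ha => ha⟩
  haveI hY : Hensel.IsStrictHenselization (Y.presheaf.stalk y) RY := isStrictHenselization_self RY
  let RS := Hens.StrictHenselization ↑OS
  let RX := Hens.StrictHenselization ↑OX
  let RSinst : Hensel.IsStrictHenselization ↑OS RS := inferInstance
  let RXinst : Hensel.IsStrictHenselization ↑OX RX := inferInstance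
  haveI : IsSepClosed (ResidueField RS) := RSinst.isSepClosure.sep_closed
  haveI : IsSepClosed (ResidueField RX) := RXinst.isSepClosure.sep_closed
  let c : RY →+* R := (algebraMap ((pullback v h).presheaf.stalk z) R).comp
    ((pullback.snd v h).stalkMap z).hom
  haveI hcloc : IsLocalHom c := RingHom.isLocalHom_comp _ _
  haveI : IsLocalHom ((algebraMap (Y.presheaf.stalk y) RY).comp (SchemeBC.baseMap v h z).hom) :=
    RingHom.isLocalHom_comp _ _
  obtain ⟨a, haloc, ha⟩ := SchemeBC.exists_hom (S := RS)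
    ((algebraMap (Y.presheaf.stalk y) RY).comp (SchemeBC.baseMap v h z).hom)
  haveI : IsLocalHom ((algebraMap ((pullback v h).presheaf.stalk z) R).comp
    ((pullback.fst v h).stalkMap z).hom) := RingHom.isLocalHom_comp _ _
  obtain ⟨w, hwloc, hw⟩ := SchemeBC.exists_hom (S := RX)
    ((algebraMap ((pullback v h).presheaf.stalk z) R).comp ((pullback.fst v h).stalkMap z).hom)
  have hkey : ∀ t : OS, w (algebraMap OX RX ((v.stalkMap x).hom t)) = c (a (algebraMap OS RS t)) := fun t => by
    rw [show a (algebraMap OS RS t) = _ from RingHom.congr_fun ha t]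
    refine (RingHom.congr_fun hw _).trans ?_
    exact congrArg (fun k => algebraMap ((pullback v h).presheaf.stalk z) R (k.hom t))
      (SchemeBC.baseMap_comm v h z)
  haveI : IsLocalHom (c.comp a) := RingHom.isLocalHom_comp _ _
  obtain ⟨b, hbloc, hb, hbr⟩ := (isSH_of_isStrictHenselization (A := ↑OS) (S := RS)).exists_lift w
    (c.comp a) ((algebraMap OX RX).comp (v.stalkMap x).hom) fun t => congrArg _ (hkey t)
  have hwb : ∀ t, c (a t) = w (b t) := fun t => RingHom.congr_fun
    ((isSH_of_isStrictHenselization (A := ↑OS) (S := RS)).hom_ext (g := c.comp a) (g' := w.comp b)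
      (fun t => ((congrArg w (RingHom.congr_fun hb t)).trans (hkey t)).symm) hbr) t
  letI : Algebra RS RY := a.toAlgebra
  letI : Algebra RY R := c.toAlgebra
  letI : Algebra RS RX := b.toAlgebra
  letI : Algebra RS R := (c.comp a).toAlgebra
  letI : Algebra RX R := w.toAlgebra
  haveI : IsScalarTower RS RY R := .of_algebraMap_eq fun _ => rfl
  haveI : IsScalarTower RS RX R := .of_algebraMap_eq hwb
  haveI : IsLocalHom (algebraMap RS RY) := haloc
  haveI : IsLocalHom (algebraMap RS RX) := hbloc
  haveI : IsLocalHom (algebraMap RX R) := hwloc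
  haveI : IsLocalHom (algebraMap RY R) := hcloc
  have hs : h y = v x := by
    rw [← Scheme.Hom.comp_apply, ← Scheme.Hom.comp_apply, pullback.condition]
  have hint : Algebra.IsIntegral RS RY := by
    refine Acyclic.hasIntegralStrictStalks_of_isIntegralHom h y RS RY
      ((algebraMap OS RS).comp (U.presheaf.stalkCongr (.of_eq hs)).hom.hom)
      isSH_of_isStrictHenselization fun t => ?_
    refine (RingHom.congr_fun ha _).trans ?_
    have hcomp : (U.presheaf.stalkCongr (.of_eq hs)).hom ≫ SchemeBC.baseMap v h z =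
        h.stalkMap y := by
      refine TopCat.Presheaf.stalk_hom_ext _ fun O hO => ?_
      simp [SchemeBC.baseMap, y]
    exact congrArg (fun k => algebraMap (Y.presheaf.stalk y) RY (k.hom t)) hcomp
  have hbij := SchemeBC.bijective_lift v h z (RS := RS) (RX := RX) (RS' := RY) (RX' := R)
    isSH_of_isStrictHenselization isSH_of_isStrictHenselization isSH_of_isStrictHenselization
    (fun t => RingHom.congr_fun ha t) (fun t => RingHom.congr_fun hb t)
    (fun t => rfl) (fun t => (RingHom.congr_fun hw t).symm)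
  -- the generic point as a point over `y`
  have hspec : η default ⤳ y := by rw [hη]; exact genericPoint_specializes y
  obtain ⟨ψ, hψ⟩ : ∃ ψ : Y.presheaf.stalk y ⟶ CommRingCat.of Ω,
      Spec.map ψ ≫ Y.fromSpecStalk y = η := by
    have e : η default = η (closedPoint Ω) :=
      congrArg η (Subsingleton.elim (α := Spec (CommRingCat.of Ω)) _ _)
    have hspec' : η (closedPoint Ω) ⤳ y := e ▸ hspec
    exact ⟨Y.presheaf.stalkSpecializes hspec' ≫ Scheme.stalkClosedPointTo η, by
      rw [Spec.map_comp_assoc, Scheme.SpecMap_stalkSpecializes_fromSpecStalk]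
      exact Scheme.Spec_stalkClosedPointTo_fromSpecStalk η⟩
  letI : Algebra RY Ω := ψ.hom.toAlgebra
  letI : Algebra RS Ω := ((algebraMap RY Ω).comp a).toAlgebra
  haveI : IsScalarTower RS RY Ω := .of_algebraMap_eq fun _ => rfl
  let L : RY ⊗[RS] RX →ₐ[RY] R := Algebra.TensorProduct.lift (Algebra.ofId RY R)
    (IsScalarTower.toAlgHom RS RX R) fun _ _ => Commute.all _ _
  let P : RY ⊗[RS] RX ≃ₐ[RY] R := AlgEquiv.ofBijective L <| by
    have : ⇑L = ⇑(Algebra.TensorProduct.lift (IsScalarTower.toAlgHom RS RY R)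
      (IsScalarTower.toAlgHom RS RX R) fun _ _ => Commute.all _ _) := funext fun t => by
        induction t using TensorProduct.induction_on with
        | zero => simp
        | add s t hs ht => simp only [map_add, hs, ht]
        | tmul s t => rfl
    rw [this]; exact hbij
  let e : R ⊗[RY] Ω ≃+* RX ⊗[RS] Ω :=
    (((Algebra.TensorProduct.comm RY R Ω).trans
      (Algebra.TensorProduct.congr (AlgEquiv.refl : Ω ≃ₐ[RY] Ω) P.symm)).trans
        ((Algebra.TensorProduct.cancelBaseChange RS RY Ω Ω RX).restrictScalars RY)).toRingEquiv.trans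
      (Algebra.TensorProduct.comm RS Ω RX).toRingEquiv
  have hgood : GoodScheme (Spec (CommRingCat.of (RX ⊗[RS] Ω))) ℓ m := hv x RS RX hb Ω
  refine hgood.of_iso ?_
  let φ : CommRingCat.of RY ⟶ CommRingCat.of R := CommRingCat.ofHom (algebraMap RY R)
  have hφ : Hens2.specOf (pullback v h) z R ≫ pullback.snd v h = Spec.map φ ≫ Y.fromSpecStalk y := by
    show (Spec.map _ ≫ _) ≫ _ = _
    rw [Category.assoc, ← Scheme.SpecMap_stalkMap_fromSpecStalk, ← Spec.map_comp_assoc]
    rfl
  refine pullback.congrHom hφ hψ.symm ≪≫ ?_ ≪≫ pullbackSpecIso RY R Ω ≪≫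
    Scheme.Spec.mapIso e.toCommRingCatIso.op.symm
  exact IsLimit.conePointUniqueUpToIso (limit.isLimit _)
    (pullbackIsPullbackOfCompMono (Spec.map φ) (Spec.map ψ) (Y.fromSpecStalk y))

include hN hη in
theorem exists_generalization {ℓ m : ℕ} (hℓ : ℓ.Prime) (hv : Acyc v ℓ m) (z : ↥(pullback v h)) :
    ∃ p : ↥(pullback (pullback.snd v h) η), pullback.fst (pullback.snd v h) η p ⤳ z := by
  let R := Hens.StrictHenselization ((pullback v h).presheaf.stalk z)
  let σ := Hens2.specOf (pullback v h) z R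
  obtain ⟨p⟩ := (goodScheme_strictLocal v h hN η hη hv z R).nonempty hℓ
  let q : pullback (σ ≫ pullback.snd v h) η ⟶ pullback (pullback.snd v h) η :=
    pullback.map _ _ _ _ σ (𝟙 _) (𝟙 _) (by simp) (by simp)
  refine ⟨q p, ?_⟩
  have e : pullback.fst (pullback.snd v h) η (q p) = σ (pullback.fst (σ ≫ pullback.snd v h) η p) := by
    rw [← Scheme.Hom.comp_apply, ← Scheme.Hom.comp_apply, pullback.lift_fst]
  rw [e]
  exact ((IsLocalRing.specializes_closedPoint _).map σ.continuous).trans
    (specializes_of_eq (specOf_closedPoint' _ z R))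

include hN hη in
theorem nonempty_Rpush_stalk_generic {ℓ m : ℕ} (hv : Acyc v ℓ m)
    [QuasiCompact η] [QuasiSeparated η] (z : ↥(pullback v h)) (b : ℕ) (M : AddCommGrpCat.{u + 1})
    {Ω' : Type u} [Field Ω'] [IsSepClosed Ω'] (ξ : Spec (CommRingCat.of Ω') ⟶ pullback v h)
    (hξ : ξ default = z) :
    ∃ (W : Scheme.{u}), GoodScheme W ℓ m ∧ CompactSpace W ∧ QuasiSeparatedSpace W ∧
      Nonempty ((EtCoh.stalk ξ).obj ((EtCoh.Rpush (pullback.fst (pullback.snd v h) η) b).obj
          (cSheaf _ M)) ≅ AddCommGrpCat.of (EtCoh.H W (cSheaf W M) b)) := by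
  let g := pullback.snd v h
  let j' := pullback.fst g η
  let R := Hens.StrictHenselization ((pullback v h).presheaf.stalk z)
  have hRinst : Hensel.IsStrictHenselization ((pullback v h).presheaf.stalk z) R := inferInstance
  haveI := hRinst.isSepClosure.sep_closed
  let σ := Hens2.specOf (pullback v h) z R
  let E : pullback j' σ ≅ pullback (σ ≫ g) η :=
    pullbackSymmetry _ _ ≪≫ pullbackRightPullbackFstIso g η σ
  have hg := (goodScheme_strictLocal v h hN η hη hv z R).of_iso E
  haveI : QuasiCompact j' := inferInstance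
  haveI : QuasiSeparated j' := inferInstance
  haveI : QuasiCompact (pullback.snd j' σ) := inferInstance
  haveI : QuasiSeparated (pullback.snd j' σ) := inferInstance
  haveI : CompactSpace ↥(pullback j' σ) :=
    QuasiCompact.compactSpace_of_compactSpace (pullback.snd j' σ)
  haveI : QuasiSeparatedSpace ↥(pullback j' σ) :=
    quasiSeparatedSpace_of_quasiSeparated (pullback.snd j' σ)
  obtain ⟨Φ⟩ := EtLimit.nonempty_Rpush_stalk_iso j' z R b
  obtain ⟨s₁⟩ := nonempty_stalk_iso_geomPointAt ξ
  obtain ⟨s₂⟩ := nonempty_stalk_iso_geomPointAt (Hens2.geomPt (pullback v h) z R)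
  rw [hξ] at s₁
  rw [specOf_closedPt] at s₂
  exact ⟨pullback j' σ, hg, inferInstance, inferInstance, ⟨(s₁ ≪≫ s₂.symm).app _ ≪≫ Φ.app _ ≪≫
    (EtCoh.HF _ b).mapIso ((EtCore.pullConstIso (pullback.fst j' σ)).app M)⟩⟩

end Groth.Agent.EtAcDepth
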