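import Groth.Agent.EtDepthLib.Restriction
import Groth.Agent.EtSupp.Mono
import Groth.Agent.EtDescSS.CompBC
import Groth.Agent.EtConsAb.Supp
import Groth.Agent.EtAcDepth.Acyc
import Groth.Agent.EtAcDepth.Fibre

/-!
# Depth along the closed point of a strictly henselian local scheme
-/

set_option autoImplicit false
set_option backward.isDefEq.respectTransparency false

universe u

open CategoryTheory CategoryTheory.Limits AlgebraicGeometry Opposite

noncomputable section

namespace Groth.Agent.EtAcDepth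

open Groth.Agent Groth.Agent.EtaleSite

variable (R : Type u) [CommRing R] [HenselianLocalRing R] [IsSepClosed (IsLocalRing.ResidueField R)]

theorem range_punct :
    Set.range (FEt.puncturedSpec R).ι.base = ({IsLocalRing.closedPoint R}ᶜ : Set (PrimeSpectrum R)) :=
  (FEt.puncturedSpec R).range_ι

theorem mono_unit_of_injective (G : EtCoh.Ab (Spec (CommRingCat.of R)))
    (h : Function.Injective (EtCore.Hpull (FEt.puncturedSpec R).ι G 0)) :
    Mono (EtDual.unitApp (FEt.puncturedSpec R).ι G) := by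
  let j := (FEt.puncturedSpec R).ι
  let K := kernel (EtDual.unitApp j G)
  have hK : (EtCoh.pull j).map (kernel.ι (EtDual.unitApp j G)) = 0 :=
    (EtSupp.comp_unitApp_eq_zero_iff j _).1 (kernel.condition _)
  suffices hz : ∀ (Ω : Type u) [Field Ω] [IsSepClosed Ω] (ξ : Spec (CommRingCat.of Ω) ⟶ Spec (CommRingCat.of R)),
      (EtCoh.stalk ξ).map (kernel.ι (EtDual.unitApp j G)) = 0 from
    Preadditive.mono_of_kernel_zero (EtaleSite.hom_ext_of_stalk fun Ω _ _ ξ => by
      rw [hz Ω ξ, Functor.map_zero])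
  intro Ω _ _ ξ
  rcases EtSupp.exists_lift_or_notMem j ξ with ⟨ζ, hζ⟩ | hout
  · rw [← hζ, ← NatIso.naturality_1 (EtaleSite.stalkPullIso j ζ) (kernel.ι (EtDual.unitApp j G))]
    simp [hK]
  · have hcl : ξ default = IsLocalRing.closedPoint R := by
      by_contra hne
      exact hout (by rw [range_punct]; exact hne)
    obtain ⟨s₁⟩ := nonempty_stalk_iso_geomPointAt ξ
    obtain ⟨s₂⟩ := nonempty_stalk_iso_geomPointAt (closedPt R)
    have hcR : closedPt R default = IsLocalRing.closedPoint R :=
      IsLocalRing.PrimeSpectrum.comap_residue _ _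
    rw [hcl] at s₁
    rw [hcR] at s₂
    let T := EtCoh.top (Spec (CommRingCat.of R))
    haveI : Subsingleton (K.obj.obj (op T)) := subsingleton_of_forall_eq 0 fun s => by
      refine EtConsAb.injective_app_of_mono (kernel.ι (EtDual.unitApp j G)) (op T) ?_
      rw [map_zero]
      refine EtDepthLib.eq_zero_of_injective j G h _ ?_
      exact congrArg (fun k : K ⟶ _ => k.hom.app (op T) s) (kernel.condition (EtDual.unitApp j G))
    haveI : Subsingleton ((EtCoh.stalk (closedPt R)).obj K) := (bijective_germ_top R K).2.subsingleton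
    have hz : IsZero ((EtCoh.stalk ξ).obj K) :=
      (AddCommGrpCat.isZero_of_subsingleton ((EtCoh.stalk (closedPt R)).obj K)).of_iso ((s₁ ≪≫ s₂.symm).app K)
    exact hz.eq_of_src _ _

/-- The restriction property gives depth along the closed point. -/
theorem depthGE_of_cond : ∀ (n : ℕ) (G : EtCoh.Ab (Spec (CommRingCat.of R))),
    EtDepthLib.Cond (FEt.puncturedSpec R).ι G n → EtDepth.DepthGE (FEt.puncturedSpec R).ι G n
  | 0, G, _ => fun p hp => absurd hp (by omega)
  | 1, G, h => fun p hp => by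
    obtain rfl : p = 0 := by omega
    exact (EtDepthLib.isZero_locCoh_zero_iff _ G).2
      (mono_unit_of_injective R G ((EtDepthLib.cond_one_iff _ G).1 h))
  | n + 2, G, h => by
    have hm := mono_unit_of_injective R G (h.1 0 (by omega)).1
    obtain ⟨S, hS, rfl, _, _⟩ := EtDepthLib.exists_embedding (FEt.puncturedSpec R).ι G
    exact (EtDepthLib.depthGE_succ_iff _ hS hm (n + 1)).2
      (depthGE_of_cond (n + 1) _ ((EtDepthLib.cond_succ_iff _ hS (by omega)).1 h).2)

/-- Homomorphisms out of `ℤ` are seen on the stalk at the closed point. -/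
theorem bijective_stalk_map (G : EtCoh.Ab (Spec (CommRingCat.of R))) {A : EtCoh.Ab (Spec (CommRingCat.of R))}
    (e : A ≅ EtCoh.const (Spec (CommRingCat.of R)) ℤ) :
    Function.Bijective (fun k : A ⟶ G => (EtCoh.stalk (closedPt R)).map k) := by
  let S := Spec (CommRingCat.of R)
  let Z := AddCommGrpCat.of (ULift.{u + 1} ℤ)
  let C := constantSheaf S.smallEtaleTopology AddCommGrpCat.{u + 1}
  let adj := EtCore.constAdj S
  have hu : IsIso (adj.unit.app Z) :=
    (ConcreteCategory.isIso_iff_bijective _).2 (cst_top_bijective R Z)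
  have h1 : Function.Bijective (fun k : C.obj Z ⟶ G => (EtCore.gsec S).map k) := by
    have h2 : (fun t => adj.unit.app Z ≫ t) ∘ (fun k : C.obj Z ⟶ G => (EtCore.gsec S).map k) =
        adj.homEquiv Z G := funext fun k => (adj.homEquiv_unit Z G k).symm
    refine (Function.Bijective.of_comp_iff' (f := fun t => adj.unit.app Z ≫ t) ?_ _).1 ?_
    · exact ⟨fun a b hab => (cancel_epi (adj.unit.app Z)).1 hab, fun t => ⟨inv (adj.unit.app Z) ≫ t, by simp⟩⟩
    · rw [h2]
      exact (adj.homEquiv Z G).bijective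
  let Φ := gsecIsoStalk R
  have h3 : (fun k : A ⟶ G => (EtCoh.stalk (closedPt R)).map k) =
      (fun t => (EtCoh.stalk (closedPt R)).map e.hom ≫ Φ.inv.app (C.obj Z) ≫ t ≫ Φ.hom.app G) ∘
        (fun k : C.obj Z ⟶ G => (EtCore.gsec S).map k) ∘ (fun k : A ⟶ G => e.inv ≫ k) := funext fun k => by
    simp only [Function.comp_apply]
    rw [Φ.hom.naturality, Φ.inv_hom_id_app_assoc, ← Functor.map_comp, e.hom_inv_id_assoc]
  rw [h3]
  refine Function.Bijective.comp ?_ (h1.comp ?_)
  · exact Function.bijective_iff_has_inverse.2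
      ⟨fun t => Φ.hom.app (C.obj Z) ≫ (EtCoh.stalk (closedPt R)).map e.inv ≫ t ≫ Φ.inv.app G,
        fun t => by simp [← Functor.map_comp_assoc], fun t => by simp [← Functor.map_comp_assoc]⟩
  · exact Function.bijective_iff_has_inverse.2 ⟨fun k => e.hom ≫ k, fun k => by simp, fun k => by simp⟩

variable {A : Type u} [CommRing A] [HenselianLocalRing A] [IsSepClosed (IsLocalRing.ResidueField A)]

/-- A local morphism of strictly local schemes is bijective on global sections. -/
theorem Hpull_zero_bijective_local (h : Spec (CommRingCat.of R) ⟶ Spec (CommRingCat.of A))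
    [PreservesFiniteLimits (EtCoh.pull h)]
    (hloc : h (IsLocalRing.closedPoint R : Spec (CommRingCat.of R)) = IsLocalRing.closedPoint A)
    (G : EtCoh.Ab (Spec (CommRingCat.of A))) : Function.Bijective (EtCore.Hpull h G 0) := by
  rw [EtDescSS.CompBC.bijective_Hpull_zero_iff]
  obtain ⟨s₁⟩ := nonempty_stalk_iso_geomPointAt (closedPt R ≫ h)
  obtain ⟨s₂⟩ := nonempty_stalk_iso_geomPointAt (closedPt A)
  have h1 : (closedPt R ≫ h) default = IsLocalRing.closedPoint A := by
    rw [Scheme.Hom.comp_apply]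
    exact (congrArg h (IsLocalRing.PrimeSpectrum.comap_residue _ _)).trans hloc
  have h2 : closedPt A default = IsLocalRing.closedPoint A := IsLocalRing.PrimeSpectrum.comap_residue _ _
  rw [h1] at s₁
  rw [h2] at s₂
  let Ψ : EtCoh.pull h ⋙ EtCoh.stalk (closedPt R) ≅ EtCoh.stalk (closedPt A) :=
    EtaleSite.stalkPullIso h (closedPt R) ≪≫ s₁ ≪≫ s₂.symm
  let Z := EtCoh.const (Spec (CommRingCat.of A)) ℤ
  have key : (fun t => Ψ.inv.app Z ≫ t ≫ Ψ.hom.app G) ∘
      (fun k : (EtCoh.pull h).obj Z ⟶ (EtCoh.pull h).obj G => (EtCoh.stalk (closedPt R)).map k) ∘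
        (fun k : Z ⟶ G => (EtCoh.pull h).map k) =
      fun k : Z ⟶ G => (EtCoh.stalk (closedPt A)).map k := funext fun k => by
    show Ψ.inv.app Z ≫ (EtCoh.pull h ⋙ EtCoh.stalk (closedPt R)).map k ≫ Ψ.hom.app G = _
    rw [Ψ.hom.naturality, Ψ.inv_hom_id_app_assoc]
  have hA := bijective_stalk_map A G (Iso.refl Z)
  rw [← key] at hA
  have hc : Function.Bijective (fun t : (EtCoh.pull h ⋙ EtCoh.stalk (closedPt R)).obj Z ⟶
      (EtCoh.pull h ⋙ EtCoh.stalk (closedPt R)).obj G => Ψ.inv.app Z ≫ t ≫ Ψ.hom.app G) :=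
    Function.bijective_iff_has_inverse.2 ⟨fun t => Ψ.hom.app Z ≫ t ≫ Ψ.inv.app G,
      fun t => by simp, fun t => by simp⟩
  exact (Function.Bijective.of_comp_iff'
    (bijective_stalk_map R ((EtCoh.pull h).obj G) (EtCore.pullConst h ℤ)) _).1
    ((Function.Bijective.of_comp_iff' hc _).1 hA)

end Groth.Agent.EtAcDepth
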