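import Groth.Agent.EtAcDepth.Torsion
import Groth.Agent.EtColim.CohColimLarge
import Groth.Agent.EtaleSite.HpullSeq
import Groth.Agent.EtaleSite.HpullComp

/-!
# Comparison of cohomology of `ℓ`-torsion sheaves by effacement
-/

set_option autoImplicit false

universe u

open CategoryTheory CategoryTheory.Limits AlgebraicGeometry Opposite

noncomputable section

namespace Groth.Agent.EtAcDepth

open Groth.Agent.EtConsAb Groth.Agent.EtaleSite.HpullSeq

variable {U V : Scheme.{u}} (v : V ⟶ U) [PreservesFiniteLimits (EtCoh.pull v)]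

instance : (EtCoh.pull v).Additive :=
  Functor.additive_of_preserves_binary_products _

section Colim

variable [CompactSpace U] [QuasiSeparatedSpace U] [CompactSpace V] [QuasiSeparatedSpace V]
  {J : Type (u + 1)} [SmallCategory J] [IsFiltered J] {D : J ⥤ EtCoh.Ab U} {c : Cocone D}

theorem isColimit_pull (hc : IsColimit c) : Nonempty (IsColimit ((EtCoh.pull v).mapCocone c)) := by
  haveI : PreservesColimitsOfSize.{u + 1, u + 1} (EtCoh.pull v) :=
    (EtCoh.pullPushAdj v).leftAdjoint_preservesColimits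
  exact ⟨isColimitOfPreserves (EtCoh.pull v) hc⟩

theorem injective_of_colim (hc : IsColimit c) (n : ℕ)
    (h : ∀ j, Function.Injective (EtCore.Hpull v (D.obj j) n)) :
    Function.Injective (EtCore.Hpull v c.pt n) := by
  obtain ⟨hc'⟩ := isColimit_pull v hc
  rw [injective_iff_map_eq_zero]
  intro x hx
  obtain ⟨i, y, rfl⟩ := (EtColim.CohColimLarge.coh_colimit n hc).1 x
  rw [Sheaf.H.map_apply] at hx ⊢
  have h0 : (EtCore.Hpull v (D.obj i) n y).comp
      (Abelian.Ext.mk₀ ((EtCoh.pull v).map (c.ι.app i))) (add_zero n) = 0 :=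
    (Hpull_postcomp v (c.ι.app i) n y).symm.trans hx
  obtain ⟨j, φ, hφ⟩ := (EtColim.CohColimLarge.coh_colimit n hc').2 i (EtCore.Hpull v (D.obj i) n y)
    ((Sheaf.H.map_apply _ _).trans h0)
  rw [Sheaf.H.map_apply] at hφ
  have hy : y.comp (Abelian.Ext.mk₀ (D.map φ)) (add_zero n) = 0 :=
    h j (((Hpull_postcomp v (D.map φ) n y).trans hφ).trans (map_zero _).symm)
  rw [← c.w φ, ← Abelian.Ext.mk₀_comp_mk₀, ← Abelian.Ext.comp_assoc_of_second_deg_zero, hy,
    Abelian.Ext.zero_comp]

theorem surjective_of_colim (hc : IsColimit c) (n : ℕ)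
    (h : ∀ j, Function.Surjective (EtCore.Hpull v (D.obj j) n)) :
    Function.Surjective (EtCore.Hpull v c.pt n) := by
  obtain ⟨hc'⟩ := isColimit_pull v hc
  intro z
  obtain ⟨i, y, hy⟩ := (EtColim.CohColimLarge.coh_colimit n hc').1 z
  obtain ⟨x, rfl⟩ := h i y
  refine ⟨x.comp (Abelian.Ext.mk₀ (c.ι.app i)) (add_zero n), ?_⟩
  exact (Hpull_postcomp v (c.ι.app i) n x).trans ((Sheaf.H.map_apply _ _).symm.trans hy)

end Colim

variable (ℓ m : ℕ)

/-- Every constructible sheaf killed by a power of `ℓ` embeds in one which is acyclic on `U` and has the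
same cohomology on `V` up to degree `m`. -/
def Effaces : Prop :=
  ∀ F : EtCoh.Ab U, EtPBC.IsConstructible F → Kills ℓ F → ∃ (I : EtCoh.Ab U) (i : F ⟶ I),
    Mono i ∧ Kills ℓ I ∧ (∀ b : ℕ, Subsingleton (EtCoh.H U I (b + 1))) ∧
      ∀ b : ℕ, b ≤ m → Function.Bijective (EtCore.Hpull v I b)

variable [CompactSpace U] [QuasiSeparatedSpace U] [CompactSpace V] [QuasiSeparatedSpace V]

variable {ℓ m}

theorem extend_injective (hℓ : ℓ.Prime) (n : ℕ)
    (h : ∀ F : EtCoh.Ab U, EtPBC.IsConstructible F → Kills ℓ F → Function.Injective (EtCore.Hpull v F n))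
    (F : EtCoh.Ab U) (hF : EtDepth.IsLTorsion ℓ F) : Function.Injective (EtCore.Hpull v F n) := by
  obtain ⟨hc⟩ := nonempty_isColimit_powGen hℓ hF
  exact injective_of_colim v hc n fun j => h _ (Stage.isConstructible_obj j.1) (kills_obj j.1 j.2)

theorem extend_surjective (hℓ : ℓ.Prime) (n : ℕ)
    (h : ∀ F : EtCoh.Ab U, EtPBC.IsConstructible F → Kills ℓ F → Function.Surjective (EtCore.Hpull v F n))
    (F : EtCoh.Ab U) (hF : EtDepth.IsLTorsion ℓ F) : Function.Surjective (EtCore.Hpull v F n) := by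
  obtain ⟨hc⟩ := nonempty_isColimit_powGen hℓ hF
  exact surjective_of_colim v hc n fun j => h _ (Stage.isConstructible_obj j.1) (kills_obj j.1 j.2)

theorem Hpull_injective_zero (hℓ : ℓ.Prime) (he : Effaces v ℓ m) (F : EtCoh.Ab U)
    (hF : EtDepth.IsLTorsion ℓ F) : Function.Injective (EtCore.Hpull v F 0) := by
  refine extend_injective v hℓ 0 (fun G hG hk => ?_) F hF
  obtain ⟨I, i, hi, -, -, hb⟩ := he G hG hk
  intro x y hxy
  apply Abelian.Ext.postcomp_mk₀_injective_of_mono (EtCoh.const U ℤ) i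
  refine (hb 0 (Nat.zero_le _)).1 ?_
  refine (Hpull_postcomp v i 0 x).trans ?_
  rw [hxy]
  exact (Hpull_postcomp v i 0 y).symm

/-- Effacement gives bijective comparison maps up to degree `m`. -/
theorem Hpull_bijective (hℓ : ℓ.Prime) (he : Effaces v ℓ m) : ∀ (b : ℕ), b ≤ m → ∀ (F : EtCoh.Ab U),
    EtDepth.IsLTorsion ℓ F → Function.Bijective (EtCore.Hpull v F b) := by
  intro b
  induction b with
  | zero =>
    intro _ F hF
    refine ⟨Hpull_injective_zero v hℓ he F hF, extend_surjective v hℓ 0 (fun G hG hk z => ?_) F hF⟩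
    obtain ⟨I, i, hi, hkI, -, hb⟩ := he G hG hk
    let S := ShortComplex.mk i (cokernel.π i) (cokernel.condition i)
    have hS : S.ShortExact :=
      { exact := ShortComplex.exact_of_g_is_cokernel _ (cokernelIsCokernel i)
        mono_f := hi }
    have hQ : EtDepth.IsLTorsion ℓ S.X₃ := (hkI.of_epi (cokernel.π i)).isLTorsion
    obtain ⟨t, ht⟩ := (hb 0 (Nat.zero_le _)).2
      (z.comp (Abelian.Ext.mk₀ ((EtCoh.pull v).map i)) (add_zero 0))
    have h0 : t.comp (Abelian.Ext.mk₀ S.g) (add_zero 0) = 0 := by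
      refine Hpull_injective_zero v hℓ he _ hQ ((Hpull_postcomp v S.g 0 t).trans ?_)
      rw [map_zero, show EtCore.Hpull v S.X₂ 0 t = _ from ht,
        Abelian.Ext.comp_assoc_of_second_deg_zero, Abelian.Ext.mk₀_comp_mk₀, ← Functor.map_comp, S.zero,
        Functor.map_zero, Abelian.Ext.mk₀_zero, Abelian.Ext.comp_zero]
    obtain ⟨x, hx⟩ := Abelian.Ext.covariant_sequence_exact₂ _ hS t h0
    refine ⟨x, ?_⟩
    apply Abelian.Ext.postcomp_mk₀_injective_of_mono (EtCoh.const V ℤ) ((EtCoh.pull v).map i)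
    refine (Hpull_postcomp v i 0 x).symm.trans ?_
    exact (congrArg (EtCore.Hpull v I 0) hx).trans ht
  | succ b ih =>
    intro hb1 F hF
    have step : ∀ G : EtCoh.Ab U, EtPBC.IsConstructible G → Kills ℓ G →
        Function.Bijective (EtCore.Hpull v G (b + 1)) := by
      intro G hG hk
      obtain ⟨I, i, hi, hkI, hU, hb⟩ := he G hG hk
      let S := ShortComplex.mk i (cokernel.π i) (cokernel.condition i)
      have hS : S.ShortExact :=
        { exact := ShortComplex.exact_of_g_is_cokernel _ (cokernelIsCokernel i)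
          mono_f := hi }
      have hSV := hS.map_of_exact (EtCoh.pull v)
      have hQ : EtDepth.IsLTorsion ℓ S.X₃ := (hkI.of_epi (cokernel.π i)).isLTorsion
      have hQb := ih (by omega) _ hQ
      constructor
      · rw [injective_iff_map_eq_zero]
        intro x hx
        obtain ⟨q, rfl⟩ := Abelian.Ext.covariant_sequence_exact₁ _ hS x
          (@Subsingleton.elim _ (hU b) _ _) (rfl : b + 1 = b + 1)
        obtain ⟨iV, hiV⟩ := Abelian.Ext.covariant_sequence_exact₃ _ hSV (EtCore.Hpull v S.X₃ b q)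
          (rfl : b + 1 = b + 1) ((Hpull_extClass v hS b q).symm.trans hx)
        obtain ⟨t, rfl⟩ := (hb b (by omega)).2 iV
        have : t.comp (Abelian.Ext.mk₀ S.g) (add_zero b) = q :=
          hQb.1 ((Hpull_postcomp v S.g b t).trans hiV)
        rw [← this, Abelian.Ext.comp_assoc_of_second_deg_zero, hS.comp_extClass, Abelian.Ext.comp_zero]
      · intro z
        have hz : z.comp (Abelian.Ext.mk₀ (S.map (EtCoh.pull v)).f) (add_zero (b + 1)) = 0 := by
          obtain ⟨t, ht⟩ := (hb (b + 1) hb1).2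
            (z.comp (Abelian.Ext.mk₀ (S.map (EtCoh.pull v)).f) (add_zero (b + 1)))
          rw [← ht, @Subsingleton.elim _ (hU b) t 0, map_zero]
          rfl
        obtain ⟨qV, rfl⟩ := Abelian.Ext.covariant_sequence_exact₁ _ hSV z hz (rfl : b + 1 = b + 1)
        obtain ⟨q, rfl⟩ := hQb.2 qV
        exact ⟨q.comp hS.extClass rfl, Hpull_extClass v hS b q⟩
    exact ⟨extend_injective v hℓ _ (fun G hG hk => (step G hG hk).1) F hF,
      extend_surjective v hℓ _ (fun G hG hk => (step G hG hk).2) F hF⟩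

end Groth.Agent.EtAcDepth
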