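import Groth.Agent.EtAcDepth.PieceBC
import Groth.Agent.EtAcDepth.Efface
import Groth.Agent.EtConsAb.Embed
import Mathlib.Topology.NoetherianSpace

/-!
# Effacing constructible sheaves
-/

set_option autoImplicit false
set_option backward.isDefEq.respectTransparency false
set_option linter.style.haveILetI false

universe u

open CategoryTheory CategoryTheory.Limits AlgebraicGeometry Opposite TopologicalSpace

noncomputable section

namespace Groth.Agent.EtAcDepth

open Groth.Agent Groth.Agent.EtaleSite Groth.Agent.EtaleSite.ConstSections Groth.Agent.EtConsAb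

variable {U V : Scheme.{u}} (v : V ⟶ U) [PreservesFiniteLimits (EtCoh.pull v)] (ℓ m : ℕ)

/-- Effacing objects. -/
def Nice (I : EtCoh.Ab U) : Prop :=
  Kills ℓ I ∧ (∀ b : ℕ, Subsingleton (EtCoh.H U I (b + 1))) ∧
    ∀ b : ℕ, b ≤ m → Function.Bijective (EtCore.Hpull v I b)

variable {ℓ m}

theorem nice_biproduct {ι : Type} [Finite ι] (f : ι → EtCoh.Ab U) (h : ∀ i, Nice v ℓ m (f i)) :
    Nice v ℓ m (⨁ f) := by
  classical
  cases nonempty_fintype ι
  have key : ∀ {W : Scheme.{u}} (g : ι → EtCoh.Ab W) (G : EtCoh.Ab W) (p : ∀ i, G ⟶ g i)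
      (q : ∀ i, g i ⟶ G), ∑ i, p i ≫ q i = 𝟙 G → ∀ (b : ℕ) (x : EtCoh.H W G b),
      x = ∑ i, (x.comp (Abelian.Ext.mk₀ (p i)) (add_zero b)).comp (Abelian.Ext.mk₀ (q i)) (add_zero b) := by
    intro W g G p q hpq b x
    simp only [Abelian.Ext.comp_assoc_of_second_deg_zero, Abelian.Ext.mk₀_comp_mk₀]
    rw [← Abelian.Ext.comp_sum, ← Abelian.Ext.mk₀_sum, hpq, Abelian.Ext.comp_mk₀_id]
  have hU := key f (⨁ f) (biproduct.π f) (biproduct.ι f) biproduct.total
  have hV := key (fun i => (EtCoh.pull v).obj (f i)) ((EtCoh.pull v).obj (⨁ f))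
    (fun i => (EtCoh.pull v).map (biproduct.π f i)) (fun i => (EtCoh.pull v).map (biproduct.ι f i)) (by
      haveI : (EtCoh.pull v).Additive := Functor.additive_of_preserves_binary_products _
      simp only [← Functor.map_comp, ← Functor.map_sum, biproduct.total, CategoryTheory.Functor.map_id])
  refine ⟨kills_biproduct f fun i => (h i).1, fun b => subsingleton_of_forall_eq 0 fun x => ?_,
    fun b hb => ⟨?_, fun z => ?_⟩⟩
  · rw [hU _ x]
    refine Finset.sum_eq_zero fun i _ => ?_
    rw [@Subsingleton.elim _ ((h i).2.1 b) (x.comp (Abelian.Ext.mk₀ (biproduct.π f i)) (add_zero _)) 0]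
    exact Abelian.Ext.zero_comp ..
  · rw [injective_iff_map_eq_zero]
    intro x hx
    rw [hU _ x]
    refine Finset.sum_eq_zero fun i _ => ?_
    have : x.comp (Abelian.Ext.mk₀ (biproduct.π f i)) (add_zero b) = 0 := by
      refine ((h i).2.2 b hb).1 ((HpullSeq.Hpull_postcomp v (biproduct.π f i) b x).trans ?_)
      rw [hx, map_zero]
      exact Abelian.Ext.zero_comp ..
    rw [this]
    exact Abelian.Ext.zero_comp ..
  · choose t ht using fun i => ((h i).2.2 b hb).2
      (z.comp (Abelian.Ext.mk₀ ((EtCoh.pull v).map (biproduct.π f i))) (add_zero b))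
    refine ⟨∑ i, (t i).comp (Abelian.Ext.mk₀ (biproduct.ι f i)) (add_zero b), ?_⟩
    rw [map_sum, hV _ z]
    refine Finset.sum_congr rfl fun i _ => ?_
    exact (HpullSeq.Hpull_postcomp v (biproduct.ι f i) b (t i)).trans (by rw [ht i])

/-- The normalization at a point in an algebraic closure. -/
theorem exists_normal_cover {T : Scheme.{u}} [QuasiSeparatedSpace T] (t : T) :
    ∃ (Y : Scheme.{u}) (h : Y ⟶ T) (_ : IsIntegralHom h) (_ : IsIntegral Y)
      (_ : ∀ y : Y, IsIntegrallyClosed (Y.presheaf.stalk y)) (_ : IsSepClosed Y.functionField)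
      (Ω : Type u) (_ : Field Ω) (_ : IsSepClosed Ω) (η : Spec (CommRingCat.of Ω) ⟶ Y)
      (_ : QuasiCompact η) (_ : QuasiSeparated η),
      η default = genericPoint Y ∧ h (η default) = t := by
  let Ω := AlgebraicClosure (T.residueField t)
  let P := Spec (CommRingCat.of Ω)
  let f : P ⟶ T := closurePt t
  haveI : QuasiSeparated f := QuasiSeparated.of_comp f (terminal.from T)
  haveI : QuasiCompact f := QuasiCompact.of_comp f (terminal.from T)
  have hf : f default = t := (Scheme.Hom.comp_apply _ _ _).trans (T.fromSpecResidueField_apply t _)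
  let Y := f.normalization
  have hP : Pi1.IsNormalScheme P := fun p => by
    haveI : AlgebraicGeometry.IsIntegral P := inferInstance
    obtain rfl : p = genericPoint P := Subsingleton.elim (α := Spec (CommRingCat.of Ω)) _ _
    exact ⟨inferInstanceAs (IsDomain P.functionField), inferInstanceAs (IsIntegrallyClosed P.functionField)⟩
  have hirr : closure {(default : P)} ∈ irreducibleComponents ↥P := by
    rw [irreducibleComponents_eq_singleton, Set.mem_singleton_iff]
    exact Set.eq_univ_of_forall fun p =>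
      subset_closure (Subsingleton.elim (α := Spec (CommRingCat.of Ω)) _ _)
  have hgen : ∀ p, f.toNormalization p = genericPoint Y := fun p => by
    refine (IsGenericPoint.eq (genericPoint_spec Y) ?_).symm
    rw [IsGenericPoint, ← f.toNormalization.denseRange.closure_range]
    congr 1
    exact (Set.eq_singleton_iff_unique_mem (s := Set.range f.toNormalization).2 ⟨⟨p, rfl⟩, fun _ ⟨q, hq⟩ =>
      hq ▸ congrArg _ (Subsingleton.elim (α := Spec (CommRingCat.of Ω)) q p)⟩).symm
  have hY : Pi1.IsNormalScheme Y := fun y =>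
    (NormNormal.normal_and_eq f hP (locallyFinite_of_finite _) hirr y
      (hgen default ▸ genericPoint_specializes y)).1
  let g := f.toNormalization
  haveI : IsPreimmersion g := isPreimmersion_toNormalization t
  haveI hsep : IsSepClosed Y.functionField := by
    haveI : IsAlgClosed Ω := inferInstance
    have hp : (default : P) = IsLocalRing.closedPoint Ω :=
      Subsingleton.elim (α := Spec (CommRingCat.of Ω)) _ _
    have hgp : g (IsLocalRing.closedPoint Ω) = genericPoint Y := hgen _
    let e₁ : Y.functionField ≅ Y.presheaf.stalk (g (IsLocalRing.closedPoint Ω)) :=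
      Y.presheaf.stalkCongr (.of_eq hgp.symm)
    let a : Y.functionField ⟶ CommRingCat.of Ω :=
      e₁.hom ≫ g.stalkMap (IsLocalRing.closedPoint Ω) ≫ (stalkClosedPointIso (CommRingCat.of Ω)).hom
    have ha : Function.Surjective a.hom :=
      (stalkClosedPointIso (CommRingCat.of Ω)).commRingCatIsoToRingEquiv.surjective.comp
        ((g.stalkMap_surjective _).comp e₁.commRingCatIsoToRingEquiv.surjective)
    haveI : IsAlgClosed Y.functionField :=
      IsAlgClosed.of_ringEquiv _ _ (RingEquiv.ofBijective a.hom ⟨a.hom.injective, ha⟩).symm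
    infer_instance
  refine ⟨Y, f.fromNormalization, inferInstance, inferInstance, fun y => (hY y).2, hsep, Ω, inferInstance,
    inferInstance, g, inferInstance, inferInstance, hgen _, ?_⟩
  exact (congrArg (fun k : P ⟶ T => k default) f.toNormalization_fromNormalization).trans hf

/-- The map from a constant sheaf to the direct image of the constant sheaf. -/
def constToPush {Y T : Scheme.{u}} (h : Y ⟶ T) (M : AddCommGrpCat.{u + 1}) :
    cSheaf T M ⟶ (EtCoh.push h).obj (cSheaf Y M) :=
  (EtCoh.pullPushAdj h).unit.app _ ≫ (EtCoh.push h).map ((EtCore.pullConstIso h).app M).hom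

theorem notMem_supp_kernel {Y T : Scheme.{u}} (h : Y ⟶ T) (M : AddCommGrpCat.{u + 1}) (y : Y) :
    h y ∉ EtPBC.supp (kernel (constToPush h M)) := by
  let ζ := geomPointAt Y y
  have hz : IsZero ((EtCoh.stalk (ζ ≫ h)).obj (kernel (constToPush h M))) := by
    have h1 : (EtCoh.pull h).map (constToPush h M) ≫ (EtCoh.pullPushAdj h).counit.app (cSheaf Y M) =
        ((EtCore.pullConstIso h).app M).hom := by
      have : ((EtCoh.pullPushAdj h).homEquiv _ _).symm (constToPush h M) =
          ((EtCore.pullConstIso h).app M).hom := by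
        refine (Equiv.symm_apply_eq _).2 ?_
        rw [Adjunction.homEquiv_unit]
        rfl
      exact ((EtCoh.pullPushAdj h).homEquiv_counit _ _ _).symm.trans this
    haveI : Mono ((EtCoh.pull h).map (constToPush h M)) := mono_of_mono_fac h1
    haveI : Mono ((EtCoh.stalk (ζ ≫ h)).map (constToPush h M)) :=
      (AddCommGrpCat.mono_iff_injective _).2 ((injective_stalk_pull_iff (constToPush h M) h ζ).1
        ((EtaleSite.mono_iff_stalk _).1 inferInstance _ ζ))
    exact (IsZero.of_mono_eq_zero _ (kernel.ι_of_mono ((EtCoh.stalk (ζ ≫ h)).map (constToPush h M)))).of_iso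
      (PreservesKernel.iso _ _)
  have hpt : (ζ ≫ h) default = h y := by rw [Scheme.Hom.comp_apply, geomPointAt_apply]
  rw [← hpt, mem_supp_iff, not_not]
  exact hz

theorem eq_zero_of_comp_constToPush {T : Scheme.{u}} {ι : Type} (Y : ι → Scheme.{u}) (h : ∀ i, Y i ⟶ T)
    (hsurj : ∀ s : T, ∃ i, s ∈ Set.range (h i).base) (M : AddCommGrpCat.{u + 1}) {G : EtCoh.Ab T}
    (a : G ⟶ cSheaf T M) (ha : ∀ i, a ≫ constToPush (h i) M = 0) : a = 0 := by
  refine EtaleSite.hom_ext_of_stalk fun Ω _ _ ξ => ?_
  obtain ⟨i, y, hy⟩ := hsurj (ξ default)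
  have hn := notMem_supp_kernel (h i) M y
  rw [hy, mem_supp_iff, not_not] at hn
  rw [← kernel.lift_ι (constToPush (h i) M) a (ha i), Functor.map_comp, hn.eq_of_tgt ((EtCoh.stalk ξ).map _) 0,
    zero_comp, Functor.map_zero]

variable (hℓ : ℓ.Prime) [CompactSpace U] [QuasiSeparatedSpace U] [Surjective v] [IsNoetherian V]
  (hv : Acyc v ℓ m)
  (hglob : ∀ (Ω : Type u) [Field Ω] [IsSepClosed Ω] (a : Spec (CommRingCat.of Ω) ⟶ U),
    GoodScheme (pullback v a) ℓ m)

theorem eq_zero_of_nsmul_coprime {A B : EtCoh.Ab U} (a : A ⟶ B) {p q : ℕ} (hpq : Nat.Coprime p q)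
    (hp : p • a = 0) (hq : q • a = 0) : a = 0 := by
  have h : (Nat.gcd p q : ℤ) • a = 0 := by
    rw [Nat.gcd_eq_gcd_ab, add_smul, mul_comm (p : ℤ), mul_comm (q : ℤ), mul_smul, mul_smul,
      natCast_zsmul, natCast_zsmul, hp, hq, smul_zero, smul_zero, add_zero]
  rwa [show Nat.gcd p q = 1 from hpq, Nat.cast_one, one_smul] at h

include hℓ hv hglob in
theorem exists_finite_piece {T : Scheme.{u}} (f : T ⟶ U) [IsFinite f] (M : Type) [AddCommGroup M]
    [Finite M] {F : EtCoh.Ab U} (hF : Kills ℓ F) (β : F ⟶ (EtCoh.push f).obj (EtCoh.const T M)) :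
    ∃ (I : EtCoh.Ab U) (β' : F ⟶ I), Nice v ℓ m I ∧
      ∀ {G : EtCoh.Ab U} (c : G ⟶ F), c ≫ β' = 0 → c ≫ β = 0 := by
  classical
  obtain ⟨k, hk⟩ := hF
  haveI : QuasiSeparatedSpace T := quasiSeparatedSpace_of_quasiSeparated f
  haveI : NoetherianSpace ↥T := by
    haveI : IsLocallyNoetherian (pullback f v) :=
      LocallyOfFiniteType.isLocallyNoetherian (pullback.snd f v)
    haveI : CompactSpace ↥(pullback f v) :=
      QuasiCompact.compactSpace_of_compactSpace (pullback.snd f v)
    haveI : IsNoetherian (pullback f v) := {}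
    exact noetherianSpace_of_surjective (pullback.fst f v) (pullback.fst f v).continuous
      (pullback.fst f v).surjective
  -- finitely many normal covers
  have hfin : (genericPoints ↥T).Finite := genericPoints.finite NoetherianSpace.finite_irreducibleComponents
  haveI : Finite (genericPoints ↥T) := hfin
  obtain ⟨n, ⟨e⟩⟩ := Finite.exists_equiv_fin (genericPoints ↥T)
  choose Y h hint hI hN hsep Ω hΩ hΩs η hηc hηs hη hηt using
    fun i : Fin n => exists_normal_cover (T := T) (e.symm i).1
  have hsurj : ∀ s : T, ∃ i, s ∈ Set.range (h i).base := fun s => by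
    let Z : irreducibleComponents ↥T := ⟨irreducibleComponent s, irreducibleComponent_mem_irreducibleComponents s⟩
    let gp := genericPoints.ofComponent Z
    refine ⟨e gp, ?_⟩
    haveI := hint (e gp)
    have hspec : gp.1 ⤳ s := by
      rw [specializes_iff_mem_closure]
      have := congrArg Subtype.val (genericPoints.component_ofComponent Z)
      rw [show closure ({gp.1} : Set ↥T) = irreducibleComponent s from this]
      exact mem_irreducibleComponent
    have hcl : IsClosed (Set.range (h (e gp)).base) := (h (e gp)).isClosedMap.isClosed_range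
    exact hspec.mem_closed hcl ⟨η (e gp) default, (hηt (e gp)).trans (by rw [e.symm_apply_apply])⟩
  -- the `ℓ`-primary part
  let a := (Nat.card M).factorization ℓ
  let N := Nat.card M / ℓ ^ a
  have hN0 : Nat.card M ≠ 0 := Nat.card_pos.ne'
  have hcop : Nat.Coprime (ℓ ^ k) N := Nat.Coprime.pow_left _ (Nat.coprime_ordCompl hℓ hN0)
  let φ : AddCommGrpCat.of (ULift.{u + 1} M) ⟶
      AddCommGrpCat.of (ULift.{u + 1} (nsmulAddMonoidHom (α := M) N).range) :=
    AddCommGrpCat.ofHom (AddMonoidHom.mk' (fun x => ⟨⟨N • x.down, x.down, rfl⟩⟩) fun x y =>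
      ULift.ext _ _ (Subtype.ext (by simp [smul_add])))
  let ψ : AddCommGrpCat.of (ULift.{u + 1} (nsmulAddMonoidHom (α := M) N).range) ⟶
      AddCommGrpCat.of (ULift.{u + 1} M) :=
    AddCommGrpCat.ofHom (AddMonoidHom.mk' (fun x => ⟨x.down.1⟩) fun x y => rfl)
  let M' : AddCommGrpCat.{u + 1} := AddCommGrpCat.of (ULift.{u + 1} (nsmulAddMonoidHom (α := M) N).range)
  haveI : Finite M' := inferInstanceAs (Finite (ULift.{u + 1} (nsmulAddMonoidHom (α := M) N).range))
  have hM' : ∀ x : M', ℓ ^ a • x = 0 := fun x => by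
    obtain ⟨y, hy⟩ := x.down.2
    refine ULift.ext _ _ (Subtype.ext ?_)
    show ℓ ^ a • x.down.1 = 0
    rw [← hy]
    show ℓ ^ a • (N • y) = 0
    rw [← mul_smul, Nat.ordProj_mul_ordCompl_eq_self]
    exact card_nsmul_eq_zero'
  let I : Fin n → EtCoh.Ab U := fun i => (EtCoh.push (h i ≫ f)).obj (cSheaf (Y i) M')
  let cst := constantSheaf T.smallEtaleTopology AddCommGrpCat.{u + 1}
  let γ : (EtCoh.push f).obj (EtCoh.const T M) ⟶ (EtCoh.push f).obj (cSheaf T M') :=
    (EtCoh.push f).map (cst.map φ)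
  let β' : F ⟶ ⨁ I := biproduct.lift fun i =>
    (β ≫ γ) ≫ (EtCoh.push f).map (constToPush (h i) M') ≫ ((EtCoh.pushComp f (h i)).app _).hom
  haveI : ∀ i, IsIntegralHom (h i ≫ f) := fun i => haveI := hint i; inferInstance
  refine ⟨⨁ I, β', nice_biproduct v I fun i => ?_, fun {G} c hc => ?_⟩
  · haveI := hint i
    haveI := hI i
    haveI := hsep i
    letI := hΩ i
    haveI := hΩs i
    haveI := hηc i
    haveI := hηs i
    refine ⟨Kills.map (EtCoh.push (h i ≫ f)) ⟨a, ?_⟩, fun b => subsingleton_H_piece (h i ≫ f) (hN i) M' b,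
      fun b hb => Hpull_bijective_piece v (h i ≫ f) (hN i) (η i) (hη i) hℓ hv
        (hglob _ (η i ≫ h i ≫ f)) M' (fun x => ⟨a, hM' x⟩) b hb⟩
    have h0 : (ℓ ^ a) • 𝟙 M' = 0 := by
      refine AddCommGrpCat.hom_ext (AddMonoidHom.ext fun x => ?_)
      simpa using hM' x
    haveI : (constantSheaf (Y i).smallEtaleTopology AddCommGrpCat.{u + 1}).Additive := inferInstance
    rw [← (constantSheaf (Y i).smallEtaleTopology AddCommGrpCat.{u + 1}).map_id, ← Functor.map_nsmul, h0,
      Functor.map_zero]
  · haveI : (EtCoh.push f).Additive := inferInstance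
    have h1 : c ≫ β ≫ γ = 0 := by
      let adj := EtCoh.pullPushAdj f
      have hz : ∀ {B : EtCoh.Ab T}, (adj.homEquiv G B).symm 0 = 0 := fun {B} => by
        rw [Adjunction.homEquiv_counit, Functor.map_zero, zero_comp]
      have h2 : (adj.homEquiv _ _).symm (c ≫ β ≫ γ) = 0 := by
        refine eq_zero_of_comp_constToPush Y h hsurj M' _ fun i => ?_
        rw [← adj.homEquiv_naturality_right_symm]
        refine Eq.trans (congrArg (adj.homEquiv _ _).symm ?_) hz
        have h3 := hc =≫ biproduct.π I i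
        rw [Category.assoc, biproduct.lift_π, zero_comp, ← Category.assoc, ← Category.assoc] at h3
        rw [← cancel_mono ((EtCoh.pushComp f (h i)).app (cSheaf (Y i) M')).hom, zero_comp]
        simpa only [Category.assoc] using h3
      exact ((adj.homEquiv _ _).symm.injective (h2.trans hz.symm))
    refine eq_zero_of_nsmul_coprime _ hcop ?_ ?_
    · rw [← Category.id_comp (c ≫ β)]
      rw [show (ℓ ^ k) • (𝟙 G ≫ c ≫ β) = c ≫ ((ℓ ^ k) • 𝟙 F) ≫ β by simp, hk, zero_comp, comp_zero]
    · have e : φ ≫ ψ = N • 𝟙 (AddCommGrpCat.of (ULift.{u + 1} M)) := by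
        refine AddCommGrpCat.hom_ext (AddMonoidHom.ext fun x => ULift.ext _ _ ?_)
        simp [φ, ψ]
      have h4 : (c ≫ β) ≫ (γ ≫ (EtCoh.push f).map (cst.map ψ)) = 0 := by
        rw [← Category.assoc, Category.assoc c β γ, h1, zero_comp]
      rw [show γ ≫ (EtCoh.push f).map (cst.map ψ) = N • 𝟙 _ by
        rw [← Functor.map_comp, ← Functor.map_comp, e, Functor.map_nsmul, CategoryTheory.Functor.map_id,
          Functor.map_nsmul, CategoryTheory.Functor.map_id], Preadditive.comp_nsmul, Category.comp_id] at h4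
      exact h4

include hℓ hv hglob in
theorem effaces : Effaces v ℓ m := by
  intro F hF hk
  obtain ⟨n, T, f, hf, -, M, _, _, ι, hι⟩ := exists_embedding hF
  choose I β hI hβ using fun i => exists_finite_piece v hℓ hv hglob (f i) (M i) hk
    (ι ≫ biproduct.π _ i)
  haveI : Mono (biproduct.lift β) := Preadditive.mono_of_cancel_zero _ fun {G} c hc => by
    rw [← cancel_mono ι, zero_comp]
    refine biproduct.hom_ext _ _ fun i => ?_
    rw [zero_comp, Category.assoc]
    refine hβ i c ?_
    have h3 := hc =≫ biproduct.π I i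
    rwa [Category.assoc, biproduct.lift_π, zero_comp] at h3
  obtain ⟨h1, h2, h3⟩ := nice_biproduct v I hI
  exact ⟨⨁ I, biproduct.lift β, inferInstance, h1, h2, h3⟩

end Groth.Agent.EtAcDepth
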