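import Groth.Agent.EtConsAb.PullTriv
import Groth.Agent.EtaleSite.FiniteBC
import Groth.Agent.EtaleSite.OpenImm

/-!
# Base change along étale morphisms
-/

set_option autoImplicit false
set_option backward.isDefEq.respectTransparency false

universe u

open CategoryTheory CategoryTheory.Limits AlgebraicGeometry Opposite

noncomputable section

namespace Groth.Agent.EtAcDepth.EtaleBC0

open Groth.Agent Groth.Agent.EtaleSite Groth.Agent.EtConsAb

variable {T' T : Scheme.{u}} (t : T' ⟶ T) [Etale t]

/-- Sections of an inverse image along an étale morphism. -/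
theorem bijective_pullSect_restr (F : EtCoh.Ab T) {A : T'.Etale} {B : T.Etale}
    (j : A ⟶ (EtCoh.bc t).obj B) (hj : IsIso (j.left ≫ pullback.fst B.hom t)) :
    Function.Bijective fun s => ((EtCoh.pull t).obj F).obj.map j.op (pullSect t F B s) := by
  let e := pullIsoRestrAlong t
  have hu : (EtCoh.pullPushAdj t).unit.app F ≫ (EtCoh.push t).map (e.hom.app F) =
      (restrAlongPushAdj t).unit.app F :=
    Adjunction.unit_leftAdjointUniq_hom_app _ _ F
  let κ : (EtShriek.compEtale t).obj A ⟶ B :=
    (EtShriek.compEtale t).map j ≫ (compEtaleBcAdj t).counit.app B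
  have hκ : ∀ s, (e.hom.app F).hom.app (op A) (((EtCoh.pull t).obj F).obj.map j.op (pullSect t F B s)) =
      F.obj.map κ.op s := by
    intro s
    refine (NatTrans.naturality_apply (e.hom.app F).hom j.op (pullSect t F B s)).trans ?_
    refine (congrArg _ (congrArg (fun k => k.hom.app (op B) s) hu)).trans ?_
    change F.obj.map ((EtShriek.compEtale t).map j).op
      (F.obj.map ((compEtaleBcAdj t).counit.app B).op s) = _
    exact (ConcreteCategory.congr_hom (F.obj.map_comp _ _) s).symm
  haveI : IsIso κ.left := hj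
  let κi : B ⟶ (EtShriek.compEtale t).obj A :=
    MorphismProperty.Over.homMk (inv κ.left) ((IsIso.inv_comp_eq _).2 (MorphismProperty.Over.w κ).symm) trivial
  let κe : (EtShriek.compEtale t).obj A ≅ B :=
    { hom := κ
      inv := κi
      hom_inv_id := MorphismProperty.Over.Hom.ext (IsIso.hom_inv_id κ.left)
      inv_hom_id := MorphismProperty.Over.Hom.ext (IsIso.inv_hom_id κ.left) }
  have hb : Function.Bijective ((e.hom.app F).hom.app (op A)) := by
    haveI : IsIso ((sheafToPresheaf _ _).map (e.hom.app F)) := inferInstance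
    haveI : IsIso ((e.hom.app F).hom.app (op A)) :=
      NatIso.isIso_app_of_isIso ((sheafToPresheaf T'.smallEtaleTopology AddCommGrpCat.{u + 1}).map (e.hom.app F)) _
    exact ConcreteCategory.bijective_of_isIso _
  refine (Function.Bijective.of_comp_iff' hb _).1 ?_
  rw [show (e.hom.app F).hom.app (op A) ∘ (fun s => ((EtCoh.pull t).obj F).obj.map j.op (pullSect t F B s)) =
    F.obj.map κe.hom.op from funext hκ]
  haveI : IsIso (F.obj.map κe.hom.op) := (F.obj.mapIso κe.op).isIso_hom
  exact ConcreteCategory.bijective_of_isIso _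

variable {X S T Y : Scheme.{u}} (g : T ⟶ S) (f : X ⟶ S) (h : Y ⟶ X) (e : Y ⟶ T) [Etale f]
  (hsq : IsPullback e h g f)

include hsq in
/-- The base change map along an étale morphism is an isomorphism. -/
theorem isIso_baseChange0 (F : EtCoh.Ab T) : IsIso (EtCoh.baseChange0 g f h e hsq.w F) := by
  haveI : Etale e := MorphismProperty.of_isPullback hsq.flip ‹Etale f›
  suffices hb : ∀ U : X.Etale,
      Function.Bijective ((EtCoh.baseChange0 g f h e hsq.w F).hom.app (op U)) by
    haveI : ∀ V, IsIso ((EtCoh.baseChange0 g f h e hsq.w F).hom.app V) := fun V =>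
      (ConcreteCategory.isIso_iff_bijective _).2 (hb V.unop)
    haveI : IsIso ((sheafToPresheaf _ _).map (EtCoh.baseChange0 g f h e hsq.w F)) :=
      NatIso.isIso_of_isIso_app (EtCoh.baseChange0 g f h e hsq.w F).hom
    exact isIso_of_fully_faithful (f := EtCoh.baseChange0 g f h e hsq.w F)
      (sheafToPresheaf X.smallEtaleTopology AddCommGrpCat.{u + 1})
  intro U
  let B := (EtShriek.compEtale f).obj U
  let j : U ⟶ (EtCoh.bc f).obj B := (compEtaleBcAdj f).unit.app U
  have hj : IsIso (j.left ≫ pullback.fst B.hom f) := by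
    have hc := congrArg (fun k => k.left) ((compEtaleBcAdj f).left_triangle_components U)
    have : j.left ≫ pullback.fst B.hom f = 𝟙 _ := hc
    rw [this]; infer_instance
  let j' : (EtCoh.bc h).obj U ⟶ (EtCoh.bc e).obj ((EtCoh.bc g).obj B) :=
    (EtCoh.bc h).map j ≫ bcSwap g f h e hsq.w B
  have hs : IsIso (j'.left ≫ pullback.fst ((EtCoh.bc g).obj B).hom e) := by
    have hA : IsPullback (pullback.fst U.hom h) (pullback.snd U.hom h ≫ e) (U.hom ≫ f) g :=
      (IsPullback.of_hasPullback U.hom h).paste_vert hsq.flip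
    have e₁ : (j'.left ≫ pullback.fst ((EtCoh.bc g).obj B).hom e) ≫ pullback.fst B.hom g =
        pullback.fst U.hom h := by
      show (((EtCoh.bc h).map j).left ≫ (bcSwap g f h e hsq.w B).left) ≫ pullback.fst (pullback.snd B.hom g) e ≫ _ = _
      rw [Category.assoc, bcSwap_fst_fst]
      refine ((Category.assoc _ _ _).symm.trans (congrArg (· ≫ pullback.fst B.hom f) (pullback.lift_fst _ _ _))).trans ?_
      refine (Category.assoc _ _ _).trans ((congrArg (pullback.fst U.hom h ≫ ·) ?_).trans (Category.comp_id _))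
      exact congrArg (fun k => k.left) ((compEtaleBcAdj f).left_triangle_components U)
    have e₂ : (j'.left ≫ pullback.fst ((EtCoh.bc g).obj B).hom e) ≫ pullback.snd B.hom g =
        pullback.snd U.hom h ≫ e := by
      refine ((Category.assoc _ _ _).trans (congrArg (j'.left ≫ ·) pullback.condition)).trans ?_
      exact (Category.assoc _ _ _).symm.trans (congrArg (· ≫ e) (MorphismProperty.Over.w j'))
    have e₃ : j'.left ≫ pullback.fst ((EtCoh.bc g).obj B).hom e = hA.isoPullback.hom :=
      pullback.hom_ext (e₁.trans hA.isoPullback_hom_fst.symm) (e₂.trans hA.isoPullback_hom_snd.symm)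
    rw [e₃]; infer_instance
  refine (Function.Bijective.of_comp_iff _
    (bijective_pullSect_restr f ((EtCoh.push g).obj F) j hj)).1 ?_
  refine (congrArg Function.Bijective ?_).mpr (bijective_pullSect_restr e F j' hs)
  funext s
  refine (NatTrans.naturality_apply (EtCoh.baseChange0 g f h e hsq.w F).hom j.op
    (pullSect f ((EtCoh.push g).obj F) B s)).trans ?_
  let m : (EtCoh.push g).obj F ⟶ (EtCoh.push f).obj ((EtCoh.push h).obj ((EtCoh.pull e).obj F)) :=
    (EtCoh.push g).map ((EtCoh.pullPushAdj e).unit.app F) ≫ (EtCoh.pushComp g e).hom.app _ ≫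
      (EtCoh.pushCongr hsq.w).hom.app _ ≫ (EtCoh.pushComp f h).inv.app _
  have hm : (EtCoh.baseChange0 g f h e hsq.w F).hom.app (op ((EtCoh.bc f).obj B))
      (pullSect f ((EtCoh.push g).obj F) B s) = m.hom.app (op B) s := by
    have e' : (EtCoh.pullPushAdj f).homEquiv _ _ (EtCoh.baseChange0 g f h e hsq.w F) = m :=
      Equiv.apply_symm_apply _ _
    rw [← e', Adjunction.homEquiv_unit]
    rfl
  have hm' : m.hom.app (op B) s = ((EtCoh.pull e).obj F).obj.map (bcSwap g f h e hsq.w B).op
      (pullSect e F ((EtCoh.bc g).obj B) s) := by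
    let t := pullSect e F ((EtCoh.bc g).obj B) s
    refine Eq.trans ?_ (congrArg (fun k => k t) ((((EtCoh.pull e).obj F).obj.map_comp _ _).trans
      (congrArg (· ≫ _) (((EtCoh.pull e).obj F).obj.map_comp _ _)))).symm
    rfl
  refine (congrArg (((EtCoh.push h).obj ((EtCoh.pull e).obj F)).obj.map j.op) (hm.trans hm')).trans ?_
  exact (ConcreteCategory.congr_hom (((EtCoh.pull e).obj F).obj.map_comp _ _) _).symm

end Groth.Agent.EtAcDepth.EtaleBC0
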