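import Groth.Agent.EtAcDepth.AffineFibres
import Groth.Agent.EtAcDepth.UnitCrit
import Groth.Agent.S3513

/-!
# Acyclicity from geometric fibres
-/

set_option autoImplicit false
set_option backward.isDefEq.respectTransparency false
set_option linter.style.haveILetI false

universe u

open CategoryTheory CategoryTheory.Limits AlgebraicGeometry Opposite

noncomputable section

namespace Groth.Agent.EtAcDepth

open Groth.Agent EtAcyc

variable {X Y : Scheme.{u}} (g : X ⟶ Y) [QuasiCompact g] [QuasiSeparated g] (L : Set ℕ)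
  (hL : ∃ ℓ ∈ L, ℓ.Prime) (m n : ℕ) (hnm : n ≤ m + 1) (hg : AcycA g L m)
  (hfib : EtAcyc.GeomFibresAcyclicN L n g)

include hL hnm hg hfib in
theorem compN_prj_affine (W : Y.Etale) [IsAffine W.left] : EtAcyc.CompN (EtAcyc.prj g W) L n := by
  haveI : Etale W.hom := W.prop
  let A := Γ(W.left, ⊤)
  let e := W.left.isoSpec
  let h : Spec A ⟶ Y := e.inv ≫ W.hom
  let v : pullback W.hom g ⟶ Spec A := EtAcyc.prj g W ≫ e.hom
  haveI : QuasiCompact (EtAcyc.prj g W) := MorphismProperty.pullback_fst _ _ ‹_›
  haveI : QuasiSeparated (EtAcyc.prj g W) := MorphismProperty.pullback_fst _ _ ‹_›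
  haveI : Etale h := inferInstance
  haveI : Etale (pullback.snd W.hom g) := MorphismProperty.pullback_snd _ _ ‹_›
  have sq : IsPullback v (pullback.snd W.hom g) h g :=
    IsPullback.of_iso (IsPullback.of_hasPullback W.hom g) (Iso.refl _) e (Iso.refl _) (Iso.refl _)
      (by simp [v, EtAcyc.prj]) (by simp) (by simp [h]) (by simp)
  have hv : AcycA v L m := hg.of_square v (g₁ := pullback.snd W.hom g) (g₂ := h)
    (shStable_of_etale _) (shStable_of_etale _) sq.w
  have hfv : ∀ (Ω : Type u) [Field Ω] [IsSepClosed Ω] [Algebra A Ω], AlgPt A Ω → ∀ ℓ : ℕ, ℓ.Prime → ℓ ∈ L →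
      GoodScheme (pullback v (Spec.map (CommRingCat.ofHom (algebraMap A Ω)))) ℓ n := by
    intro Ω _ _ _ hΩ ℓ hℓ hℓL
    obtain ⟨y, alg, hy, hgeom⟩ := exists_geomPt h (fun w => by
      letI : Algebra (Y.residueField (h.base w)) ((Spec A).residueField w) := (h.residueFieldMap w).hom.toAlgebra
      haveI : Algebra.IsSeparable (Y.residueField (h.base w)) ((Spec A).residueField w) := inferInstance
      exact fun z => Algebra.IsIntegral.isIntegral (R := Y.residueField (h.base w)) z) hΩ
    refine (goodScheme_of_isAcyclicSchemeN (hfib y Ω) hℓ hℓL).of_iso ?_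
    exact ((IsPullback.of_hasPullback v (Spec.map (CommRingCat.ofHom (algebraMap A Ω)))).flip.paste_vert sq).flip.isoPullback ≪≫
      pullback.congrHom rfl hgeom.symm
  obtain ⟨B, _, _, hB⟩ := exists_isPointCover A
  haveI : QuasiCompact v := inferInstance
  haveI : QuasiSeparated v := inferInstance
  have hcomp := compN_of_cover hB v L m n hv hnm hfv hL
  have e' : EtAcyc.prj g W = v ≫ e.inv := by simp [v]
  rw [e']
  exact (S3513.compN_comp_iff v e.inv L n hcomp).2 (S3513.compN_of_iso _ L n)

include hL hnm hg hfib in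
/-- Geometric fibres and local acyclicity give acyclicity. -/
theorem isAcyclicN_of_fibres : EtAcyc.IsAcyclicN g L n := by
  intro V
  refine compN_of_unit (EtAcyc.prj g V) L n fun F hF => unit_of_compN (EtAcyc.prj g V) L n (fun W hW => ?_) F hF
  haveI : Etale W.hom := W.prop
  haveI : Etale V.hom := V.prop
  let W' : Y.Etale := MorphismProperty.Over.mk ⊤ (W.hom ≫ V.hom) (inferInstanceAs (Etale (W.hom ≫ V.hom)))
  haveI : IsAffine W'.left := hW
  refine ⟨pullback W.hom (EtAcyc.prj g V), pullback.snd _ _, pullback.fst _ _,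
    (IsPullback.of_hasPullback _ _).flip, ?_⟩
  have e : pullback.fst W.hom (EtAcyc.prj g V) =
      (pullbackRightPullbackFstIso V.hom g W.hom).hom ≫ EtAcyc.prj g W' :=
    (pullbackRightPullbackFstIso_hom_fst V.hom g W.hom).symm
  rw [e]
  exact (S3513.compN_comp_iff _ _ L n (S3513.compN_of_iso _ L n)).2
    (compN_prj_affine g L hL m n hnm hg hfib W')

end Groth.Agent.EtAcDepth
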