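import Groth.Agent.EtAcDepth.Equiv
import Groth.Agent.EtAcDepth.AlgPtTrans
import Mathlib.AlgebraicGeometry.PullbackCarrier

/-!
# Base changes of strict localisations are stable
-/

set_option autoImplicit false
set_option backward.isDefEq.respectTransparency false
set_option linter.style.haveILetI false

universe u

open CategoryTheory CategoryTheory.Limits AlgebraicGeometry Opposite
open scoped TensorProduct

noncomputable section

namespace Groth.Agent.EtAcDepth

open Groth.Agent

/-- Spectra of ind-étale algebras are stable. -/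
theorem shStable_specMap_of_fac (B C : Type u) [CommRing B] [CommRing C] [Algebra B C]
    (hfac : IndAlg.Fac (IndAlg.Etale.Et B) C) :
    SHStable (Spec.map (CommRingCat.ofHom (algebraMap B C))) := by
  intro z R' _ _ algz _ hS'
  let c := Spec.map (CommRingCat.ofHom (algebraMap B C))
  letI := mapAlg c z R'
  haveI := isLocalHom_mapAlg c z R'
  haveI := hS'.henselian
  haveI := hS'.isSepClosure.sep_closed
  let Lz : Type u := (Spec (CommRingCat.of C)).presheaf.stalk z
  letI : Algebra C Lz := StructureSheaf.stalkAlgebra (R := C) z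
  haveI : IsLocalization.AtPrime Lz z.asIdeal := StructureSheaf.IsLocalization.to_stalk (R := C) z
  letI : Algebra C R' := ((algebraMap Lz R').comp (algebraMap C Lz)).toAlgebra
  haveI : IsScalarTower C Lz R' := .of_algebraMap_eq fun _ => rfl
  have hR' := EtLimit.fac_et_strictHenselization (A := C) (L := Lz) (R := R') z.asIdeal
  let Lc : Type u := (Spec (CommRingCat.of B)).presheaf.stalk (c z)
  letI : Algebra B Lc := StructureSheaf.stalkAlgebra (R := B) (c z)
  haveI : IsLocalization.AtPrime Lc (c z).asIdeal := StructureSheaf.IsLocalization.to_stalk (R := B) (c z)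
  letI : Algebra B R' := ((algebraMap C R').comp (algebraMap B C)).toAlgebra
  haveI : IsScalarTower B C R' := .of_algebraMap_eq fun _ => rfl
  let a₁ : CommRingCat.of B ⟶ CommRingCat.of R' :=
    StructureSheaf.toStalk B (c z) ≫ c.stalkMap z ≫ CommRingCat.ofHom (algebraMap Lz R')
  let a₂ : CommRingCat.of B ⟶ CommRingCat.of R' :=
    CommRingCat.ofHom (algebraMap B C) ≫ StructureSheaf.toStalk C z ≫ CommRingCat.ofHom (algebraMap Lz R')
  have ha : a₁ = a₂ := by
    refine Spec.map_injective ?_
    show Spec.map (_ ≫ _ ≫ _) = Spec.map (_ ≫ _ ≫ _)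
    rw [Spec.map_comp, Spec.map_comp, Spec.map_comp, Spec.map_comp, Category.assoc, Category.assoc]
    refine congrArg (Spec.map (CommRingCat.ofHom (algebraMap Lz R')) ≫ ·) ?_
    refine (congrArg (Spec.map (c.stalkMap z) ≫ ·)
      (Spec.fromSpecStalk_eq' (CommRingCat.of B) (c z)).symm).trans ?_
    refine (Scheme.SpecMap_stalkMap_fromSpecStalk c).trans ?_
    exact congrArg (· ≫ c) (Spec.fromSpecStalk_eq' (CommRingCat.of C) z)
  haveI : IsScalarTower B Lc R' := .of_algebraMap_eq fun s =>
    (RingHom.congr_fun (congrArg CommRingCat.Hom.hom ha) s).symm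
  exact isStrictHenselization_of_fac B Lc R' (c z).asIdeal (IndAlg.Etale.fac_trans hfac hR')

/-- Stability is local on the source. -/
theorem SHStable.of_cover {M X : Scheme.{u}} (e : M ⟶ X)
    (h : ∀ z : M, ∃ (Q : Scheme.{u}) (j : Q ⟶ M), IsOpenImmersion j ∧ (∃ q : Q, j q = z) ∧ SHStable (j ≫ e)) :
    SHStable e := by
  intro z R _ _ algz locz hS
  obtain ⟨Q, j, hj, ⟨q, rfl⟩, hje⟩ := h z
  let a := (asIso (j.stalkMap q)).commRingCatIsoToRingEquiv
  letI algq : Algebra (Q.presheaf.stalk q) R :=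
    ((algebraMap (M.presheaf.stalk (j q)) R).comp a.symm.toRingHom).toAlgebra
  haveI : IsLocalHom a.symm.toRingHom := ⟨fun x hx => by
    have := hx.map a.toRingHom
    rwa [RingEquiv.toRingHom_eq_coe, RingEquiv.toRingHom_eq_coe, RingHom.coe_coe, RingHom.coe_coe, RingEquiv.apply_symm_apply] at this⟩
  haveI : IsLocalHom (algebraMap (Q.presheaf.stalk q) R) := RingHom.isLocalHom_comp _ _
  haveI := isStrictHenselization_of_equiv (A := M.presheaf.stalk (j q)) (R := R) a.symm rfl
  have key := hje q R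
  have hm : mapAlg (j ≫ e) q R = mapAlg e (j q) R := by
    refine congrArg RingHom.toAlgebra ?_
    rw [Scheme.Hom.stalkMap_comp]
    refine RingHom.ext fun s => ?_
    show algebraMap _ R (a.symm (a (e.stalkMap (j q) s))) = _
    rw [RingEquiv.symm_apply_apply]
    rfl
  convert key using 1
  all_goals first | rfl | exact hm.symm | exact heq_of_eq hm.symm

/-- Base changes of strict localisations are stable. -/
theorem shStable_fst_specOf {X Y : Scheme.{u}} (g : X ⟶ Y) (y : Y) (R : Type u) [CommRing R] [IsLocalRing R]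
    [Algebra (Y.presheaf.stalk y) R] [IsLocalHom (algebraMap (Y.presheaf.stalk y) R)]
    [Hensel.IsStrictHenselization (Y.presheaf.stalk y) R] :
    SHStable (pullback.fst g (Hens2.specOf Y y R)) := by
  refine SHStable.of_cover _ fun z => ?_
  obtain ⟨U, hU, hyU⟩ : ∃ U : Y.Opens, IsAffineOpen U ∧ y ∈ U := by
    obtain ⟨_, ⟨U, hU, rfl⟩, hyU, -⟩ :=
      Y.isBasis_affineOpens.exists_subset_of_mem_open (Set.mem_univ y) isOpen_univ
    exact ⟨U, hU, hyU⟩
  let σ := Hens2.specOf Y y R
  let e := pullback.fst g σ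
  have hzU : e z ∈ g ⁻¹ᵁ U := by
    have : g (e z) = σ (pullback.snd g σ z) := by
      rw [← Scheme.Hom.comp_apply, ← Scheme.Hom.comp_apply, pullback.condition]
    show g (e z) ∈ U
    exact Eq.mpr (congrArg (· ∈ U) this) (mem_of_specOf Y y R hyU _)
  obtain ⟨V, hV, hzV, hle⟩ := exists_isAffineOpen_mem_and_subset (X := X) (U := g ⁻¹ᵁ U) (x := e z) hzU
  let A := Γ(Y, U)
  let B := Γ(X, V)
  letI : Algebra A B := (g.appLE U V hle).hom.toAlgebra
  letI := TopCat.Presheaf.algebra_section_stalk Y.presheaf ⟨y, hyU⟩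
  haveI := hU.isLocalization_stalk ⟨y, hyU⟩
  letI : Algebra A R :=
    ((algebraMap (Y.presheaf.stalk y) R).comp (algebraMap A (Y.presheaf.stalk y))).toAlgebra
  haveI : IsScalarTower A (Y.presheaf.stalk y) R := .of_algebraMap_eq fun _ => rfl
  have hR := EtLimit.fac_et_strictHenselization (A := A) (L := Y.presheaf.stalk y) (R := R)
    (hU.primeIdealOf ⟨y, hyU⟩).asIdeal
  let gA := Spec.map (CommRingCat.ofHom (algebraMap A B))
  let sA := Spec.map (CommRingCat.ofHom (algebraMap A R))
  have hg : gA ≫ hU.fromSpec = hV.fromSpec ≫ g :=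
    IsAffineOpen.SpecMap_appLE_fromSpec g hU hV hle
  have hs : sA ≫ hU.fromSpec = σ := by
    show Spec.map (CommRingCat.ofHom ((algebraMap (Y.presheaf.stalk y) R).comp
      (algebraMap A (Y.presheaf.stalk y)))) ≫ _ = Spec.map _ ≫ _
    rw [CommRingCat.ofHom_comp, Spec.map_comp, Category.assoc, ← hU.fromSpecStalk_eq_fromSpecStalk hyU]
    rfl
  let j₀ : pullback gA sA ⟶ pullback g σ :=
    pullback.map gA sA g σ hV.fromSpec (𝟙 _) hU.fromSpec hg (by rw [hs, Category.id_comp])
  let E : Spec (CommRingCat.of (B ⊗[A] R)) ≅ pullback gA sA := (pullbackSpecIso A B R).symm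
  haveI : IsOpenImmersion j₀ := inferInstance
  refine ⟨_, E.hom ≫ j₀, inferInstance, ?_, ?_⟩
  · have hz : z ∈ Set.range j₀ := by
      rw [Scheme.Pullback.range_map]
      exact ⟨⟨hV.primeIdealOf ⟨e z, hzV⟩, IsAffineOpen.fromSpec_primeIdealOf hV ⟨e z, hzV⟩⟩,
        ⟨pullback.snd g σ z, rfl⟩⟩
    obtain ⟨q, hq⟩ := hz
    refine ⟨E.inv q, ?_⟩
    rw [← Scheme.Hom.comp_apply, Iso.inv_hom_id_assoc]
    exact hq
  · have he : (E.hom ≫ j₀) ≫ e =
        Spec.map (CommRingCat.ofHom (algebraMap B (B ⊗[A] R))) ≫ hV.fromSpec := by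
      rw [Category.assoc]
      refine (congrArg (E.hom ≫ ·) (pullback.lift_fst _ _ _)).trans ?_
      rw [← Category.assoc]
      exact congrArg (· ≫ hV.fromSpec) (pullbackSpecIso_inv_fst A B R)
    rw [he]
    exact (shStable_specMap_of_fac B (B ⊗[A] R) (IndAlg.Etale.fac_baseChange hR)).comp
      (shStable_of_isOpenImmersion hV.fromSpec)

end Groth.Agent.EtAcDepth
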