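import Groth.Agent.EtAcDepth.StrictVanish
import Groth.Agent.EtAcDepth.ShBase
import Groth.Agent.EtAcDepth.GlobalFibres
import Groth.Agent.S8534

/-!
# Classes vanishing on the geometric fibres
-/

set_option autoImplicit false
set_option backward.isDefEq.respectTransparency false
set_option linter.style.haveILetI false

universe u

open CategoryTheory CategoryTheory.Limits AlgebraicGeometry Opposite IsLocalRing

noncomputable section

namespace Groth.Agent.EtAcDepth

open Groth.Agent Groth.Agent.EtaleSite Groth.Agent.EtaleSite.ConstSections Groth.Agent.EtLimit EtAcyc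

section Cover

variable {A B : Type u} [CommRing A] [CommRing B] [Algebra A B] (hB : IsPointCover A B) {V : Scheme.{u}}
  (v : V ⟶ Spec (CommRingCat.of A)) [QuasiCompact v] [QuasiSeparated v] (L : Set ℕ) (k : ℕ)
  (hv : AcycA v L k) (hL : ∃ ℓ ∈ L, ℓ.Prime)

include hB hv hL in
/-- The point cover satisfies base change up to degree `k`. -/
theorem isIso_bcQ_cover (F : EtCoh.Ab (Spec (CommRingCat.of B))) (hF : IsLTorsion L F) (i : ℕ) (hi : i ≤ k) :
    IsIso (EtBC.bcQ (coverMap A B) v (pullback.fst v (coverMap A B)) (pullback.snd v (coverMap A B))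
      pullback.condition.symm i F) := by
  let π := coverMap A B
  let j := pullback.fst v π
  let vP := pullback.snd v π
  have w : vP ≫ π = j ≫ v := pullback.condition.symm
  rcases Nat.eq_zero_or_pos i with rfl | h1
  · have hadj : (EtCoh.push π).toRightDerivedZero.app F ≫ EtBC.bcQAdj π v j vP w 0 F =
        ((EtCoh.push π).map ((EtCoh.pullPushAdj vP).unit.app F) ≫ (EtCoh.pushComp π vP).hom.app _ ≫
          (EtCoh.pushCongr w).hom.app _ ≫ (EtCoh.pushComp v j).inv.app _) ≫
          (EtCoh.push v).map ((EtCoh.push j).toRightDerivedZero.app ((EtCoh.pull vP).obj F)) := by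
      dsimp only [EtBC.bcQAdj, EtBC.RpushSquareIso, Functor.comp_obj, EtCoh.Rpush]
      rw [← (EtCoh.push π).toRightDerivedZero.naturality_assoc, RDer.toRightDerivedZero_edgeIn_assoc,
        RDer.toRightDerivedZero_rightDerivedIso_assoc, RDer.toRightDerivedZero_edgeOut]
      simp only [Iso.trans_hom, Iso.symm_hom, NatTrans.comp_app, Category.assoc]
    have key : (EtCoh.pull v).map ((EtCoh.push π).toRightDerivedZero.app F) ≫
        EtBC.bcQ π v j vP w 0 F = EtCoh.baseChange0 π v j vP w F ≫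
          (EtCoh.push j).toRightDerivedZero.app ((EtCoh.pull vP).obj F) := by
      dsimp only [EtBC.bcQ, EtCoh.baseChange0]
      rw [← Adjunction.homEquiv_naturality_left_symm, hadj, Adjunction.homEquiv_naturality_right_symm]
    haveI : IsIso (EtCoh.baseChange0 π v j vP w F) := isIso_bc0_cover hB v L k hv hL F
    haveI : IsIso ((EtCoh.pull v).map ((EtCoh.push π).toRightDerivedZero.app F) ≫
        EtBC.bcQ π v j vP w 0 F) := key ▸ inferInstance
    exact IsIso.of_isIso_comp_left ((EtCoh.pull v).map ((EtCoh.push π).toRightDerivedZero.app F)) _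
  · exact ((EtCoh.pull v).map_isZero (isZero_Rpush_cover hB F i h1)).isIso
      (isZero_Rpush_fst hB v L k hv F hF i h1 hi) _

end Cover

section Factor

theorem Hpull_eq_zero_of_factor {W N M X Q : Scheme.{u}} (a : W ⟶ N) (j : N ⟶ M) (e : M ⟶ X) (l : W ⟶ Q)
    (q : Q ⟶ X) (hl : l ≫ q = (a ≫ j) ≫ e) {G : EtCoh.Ab X} {G' : EtCoh.Ab M} {G'' : EtCoh.Ab N}
    (φ : (EtCoh.pull e).obj G ≅ G') (ψ : (EtCoh.pull j).obj G' ≅ G'') (n : ℕ) (z : EtCoh.H X G n)
    (hz : EtCore.Hpull q G n z = 0) :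
    EtCore.Hpull a G'' n ((EtCore.Hpull j G' n
      ((EtCore.Hpull e G n z).comp (Abelian.Ext.mk₀ φ.hom) (add_zero n))).comp
        (Abelian.Ext.mk₀ ψ.hom) (add_zero n)) = 0 := by
  refine (Hpull_postcomp_eq_zero_iff a ψ _ _).2 ?_
  refine (Hpull_Hpull_eq_zero_iff a j rfl _ _ _).2 ?_
  refine (Hpull_postcomp_eq_zero_iff (a ≫ j) φ _ _).2 ?_
  refine (Hpull_Hpull_eq_zero_iff (a ≫ j) e rfl _ _ _).2 ?_
  refine (Hpull_Hpull_eq_zero_iff l q hl _ _ _).1 ?_
  rw [hz, map_zero]

theorem exists_fibre_map {X Y S P : Scheme.{u}} (g : X ⟶ Y) (σ : S ⟶ Y) (π : P ⟶ S) {W K : Scheme.{u}}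
    (a : W ⟶ pullback (pullback.snd g σ) π) (b : W ⟶ K) (i : K ⟶ P) (gp : K ⟶ Y)
    (hab : a ≫ pullback.snd _ _ = b ≫ i) (hgp : gp = (i ≫ π) ≫ σ) :
    ∃ l : W ⟶ pullback g gp, l ≫ pullback.fst g gp = (a ≫ pullback.fst _ _) ≫ pullback.fst g σ := by
  refine ⟨pullback.lift ((a ≫ pullback.fst _ _) ≫ pullback.fst g σ) b ?_, pullback.lift_fst _ _ _⟩
  simp only [hgp, Category.assoc]
  rw [pullback.condition (f := g) (g := σ)]
  rw [pullback.condition_assoc (f := pullback.snd g σ) (g := π), ← Category.assoc a, hab, Category.assoc]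

end Factor

variable {X Y : Scheme.{u}} (g : X ⟶ Y) [QuasiCompact g] [QuasiSeparated g] (L : Set ℕ)
  (hL : ∃ ℓ ∈ L, ℓ.Prime) (k : ℕ) (hloc : AcycA g L k) (hfibg : GeomFibresAcyclicN L k g)
  (F : EtCoh.Ab Y) (hF : IsLTorsion L F) (ξ : EtCoh.H X ((EtCoh.pull g).obj F) (k + 1))
  (h : ∀ (y : Y) (Ω : Type u) [Field Ω] [IsSepClosed Ω] [Algebra (Y.residueField y) Ω]
    [Algebra.IsAlgebraic (Y.residueField y) Ω],
      EtCore.Hpull (pullback.fst g (geomPt Y y Ω)) ((EtCoh.pull g).obj F) (k + 1) ξ = 0)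

include hL hloc hfibg hF h in
/-- A class vanishing on the geometric fibres vanishes over the strict localisations. -/
theorem Hpull_specOf_eq_zero (y : Y) (R : Type u) [CommRing R] [IsLocalRing R]
    [Algebra (Y.presheaf.stalk y) R] [IsLocalHom (algebraMap (Y.presheaf.stalk y) R)]
    [hS : Hensel.IsStrictHenselization (Y.presheaf.stalk y) R] :
    EtCore.Hpull (pullback.fst g (Hens2.specOf Y y R)) ((EtCoh.pull g).obj F) (k + 1) ξ = 0 := by
  haveI := hS.henselian
  haveI := hS.isSepClosure.sep_closed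
  obtain ⟨B, _, _, hB⟩ := exists_isPointCover R
  let σ := Hens2.specOf Y y R
  let e := pullback.fst g σ
  let v := pullback.snd g σ
  let π := coverMap R B
  let j := pullback.fst v π
  let vP := pullback.snd v π
  haveI : QuasiCompact v := MorphismProperty.pullback_snd _ _ ‹_›
  haveI : QuasiSeparated v := MorphismProperty.pullback_snd _ _ ‹_›
  haveI : Surjective π := ⟨fun p => hB.surjective p⟩
  have hv : AcycA v L k := hloc.of_square v (g₁ := e) (g₂ := σ)
    (shStable_fst_specOf g y R) (shStable_specOf Y y R) pullback.condition.symm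
  have hfib : ∀ (Ω : Type u) [Field Ω] [IsSepClosed Ω] [Algebra R Ω], AlgPt R Ω →
      ∀ ℓ : ℕ, ℓ.Prime → ℓ ∈ L → GoodScheme (pullback v (Spec.map (CommRingCat.ofHom (algebraMap R Ω)))) ℓ k := by
    intro Ω _ _ _ hΩ ℓ hℓ hℓL
    obtain ⟨y', alg, hy, hgeom⟩ := exists_geomPt_specOf Y y R hΩ
    exact (goodScheme_of_isAcyclicSchemeN (hfibg y' Ω) hℓ hℓL).of_iso
      (pullbackLeftPullbackSndIso g σ _ ≪≫ pullback.congrHom rfl hgeom.symm)
  have hcomp : CompN v L k := compN_of_cover hB v L k k hv (Nat.le_succ k) hfib hL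
  let Fs := (EtCoh.pull σ).obj F
  have hFs : IsLTorsion L Fs := Groth.Agent.S3513.isLTorsion_pull σ L F hF
  let φ : (EtCoh.pull e).obj ((EtCoh.pull g).obj F) ≅ (EtCoh.pull v).obj Fs :=
    ((EtCore.pullComp e g).symm ≪≫ EtCore.pullCongr pullback.condition ≪≫ EtCore.pullComp v σ).app F
  let zs : EtCoh.H (pullback g σ) ((EtCoh.pull v).obj Fs) (k + 1) :=
    (EtCore.Hpull e ((EtCoh.pull g).obj F) (k + 1) ξ).comp (Abelian.Ext.mk₀ φ.hom) (add_zero _)
  suffices hz : zs = 0 from (HpullComp.HF_map_bijective φ.hom).1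
    (hz.trans (Abelian.Ext.zero_comp _ _ _ _ _).symm)
  have w : vP ≫ π = j ≫ v := pullback.condition.symm
  have hP := hB.isPointSpace
  have hgoodP : ∀ (p : Spec (CommRingCat.of B)) (ℓ : ℕ), ℓ.Prime → ℓ ∈ L →
      GoodScheme (pullback vP ((Spec (CommRingCat.of B)).fromSpecResidueField p)) ℓ k :=
    fun p ℓ hℓ hℓL => goodScheme_fibre_cover hB v L k hfib p hℓ hℓL
  let Fp := (EtCoh.pull π).obj Fs
  have hFp : IsLTorsion L Fp := Groth.Agent.S3513.isLTorsion_pull π L Fs hFs
  -- the class on the point cover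
  have hj : EtCore.Hpull j ((EtCoh.pull v).obj Fs) (k + 1) zs = 0 := by
    let ψ : (EtCoh.pull j).obj ((EtCoh.pull v).obj Fs) ≅ (EtCoh.pull vP).obj Fp :=
      ((EtCore.pullComp j v).symm ≪≫ EtCore.pullCongr w.symm ≪≫ EtCore.pullComp vP π).app Fs
    let z' := (EtCore.Hpull j ((EtCoh.pull v).obj Fs) (k + 1) zs).comp (Abelian.Ext.mk₀ ψ.hom) (add_zero _)
    haveI : QuasiCompact vP := inferInstance
    haveI : QuasiSeparated vP := inferInstance
    obtain ⟨e₀, he₀⟩ : z' ∈ Set.range (EtCore.Hpull vP Fp (k + 1)) := by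
      refine mem_range_Hpull_of_strict vP Fp k (isIso_unit_pointSpace vP hP L k hgoodP hL Fp)
        (fun q h1 h2 => isZero_Rpush_pointSpace vP hP L k hgoodP Fp hFp q h1 h2) z' fun p => ?_
      let P := Spec (CommRingCat.of B)
      let O : Type u := P.presheaf.stalk p
      haveI : HenselianLocalRing O := (hP.isSH p).1
      haveI : IsSepClosed (ResidueField O) := (hP p).2
      haveI : IsLocalHom (algebraMap (P.presheaf.stalk p) O) := ⟨fun _ ha => ha⟩
      haveI : Hensel.IsStrictHenselization (P.presheaf.stalk p) O := isStrictHenselization_self O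
      obtain ⟨PP⟩ := EtLimit.nonempty_etPres P p O
      refine ⟨_, Hens2.specOf P p O, PP, ⟨closedPoint O, specOf_closedPoint' P p O⟩, ?_⟩
      let σp := Hens2.specOf P p O
      let r : Spec (P.residueField p) ⟶ Spec (CommRingCat.of O) := Spec.map (P.residue p)
      haveI : IsIso r := by
        letI := (hP p).1.toField
        haveI : IsIso (P.residue p) := (ConcreteCategory.isIso_iff_bijective _).2
          ⟨RingHom.injective _, IsLocalRing.residue_surjective⟩
        infer_instance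
      have hr : r ≫ σp = P.fromSpecResidueField p := by
        show Spec.map (P.residue p) ≫ Spec.map _ ≫ _ = _
        rw [← Spec.map_comp_assoc]
        rfl
      obtain ⟨φp, hφp, hφa⟩ := hB.algPt_residueField p
      haveI : IsSepClosed (P.residueField p) := (hP p).2
      letI := φp.toAlgebra
      obtain ⟨y', alg, hy, hgeom⟩ := exists_geomPt_specOf Y y R (Ω := P.residueField p) hφa
      have hgp : geomPt Y y' (P.residueField p) = (P.fromSpecResidueField p ≫ π) ≫ σ :=
        hgeom.trans (congrArg (· ≫ σ) hφp)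
      obtain ⟨l, hl⟩ := exists_fibre_map g σ π (pullback.fst vP σp) (pullback.snd vP σp ≫ inv r)
        (P.fromSpecResidueField p) (geomPt Y y' (P.residueField p))
        (by rw [← hr, Category.assoc, IsIso.inv_hom_id_assoc]; exact pullback.condition) hgp
      exact Hpull_eq_zero_of_factor (pullback.fst vP σp) j e l _ hl φ ψ _ ξ (h y' (P.residueField p))
    haveI := EtSection.subsingleton_H hP.isSH hP.isClosed_singleton Fp (k + 1) (Nat.succ_pos k)
    rw [Subsingleton.elim e₀ 0, map_zero] at he₀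
    exact (HpullComp.HF_map_bijective ψ.hom).1 (he₀.symm.trans (Abelian.Ext.zero_comp _ _ _ _ _).symm)
  -- descend
  have hmem : zs ∈ Set.range (EtCore.Hpull v Fs (k + 1)) := by
    refine (EtDescSS.CompBCDesc.mem_range_iff v π vP j w L k hcomp
      (fun Fb hFb i hi => isIso_bcQ_cover hB v L k hv hL Fb hFb i hi) Fs hFs zs).2 ⟨0, ?_⟩
    rw [map_zero, HpullFunctor.HpullVia_apply, hj, Abelian.Ext.zero_comp]
  obtain ⟨t, ht⟩ := hmem
  haveI := EtaleSite.subsingleton_H R Fs (k + 1) (Nat.succ_pos k)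
  rw [← ht, Subsingleton.elim t 0, map_zero]

end Groth.Agent.EtAcDepth
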