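import Groth.Agent.EtAcDepth.UnitCrit

/-!
# Classes vanishing locally on the base come from the base

If the higher direct images of `G` vanish below degree `k + 1`, a class of degree `k + 1` which vanishes
over an étale neighbourhood of every point of the base comes from `f_* G`.
-/

set_option autoImplicit false
set_option backward.isDefEq.respectTransparency false
set_option linter.style.haveILetI false

universe u

open CategoryTheory CategoryTheory.Limits AlgebraicGeometry Opposite

noncomputable section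

namespace Groth.Agent.EtAcDepth

open Groth.Agent Groth.Agent.EtaleSite

variable {X Y : Scheme.{u}} (f : X ⟶ Y)

/-- A morphism of sheaves vanishes if it vanishes over a jointly surjective étale family. -/
theorem eq_zero_of_pull_family {A B : EtCoh.Ab Y} (a : A ⟶ B)
    (h : ∀ y : Y, ∃ W : Y.Etale, (∃ w : W.left, W.hom w = y) ∧ (EtCoh.pull W.hom).map a = 0) : a = 0 := by
  refine EtaleSite.hom_ext_of_stalk fun Ω _ _ ζ => ?_
  obtain ⟨W, ⟨w, hw⟩, hW⟩ := h (ζ default)
  let η := geomPointAt W.left w
  obtain ⟨e₁⟩ := nonempty_stalk_iso_geomPointAt ζ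
  obtain ⟨e₂⟩ := nonempty_stalk_iso_geomPointAt (η ≫ W.hom)
  have hη : ∀ b, (η ≫ W.hom) b = ζ default := fun b => by
    rw [Scheme.Hom.comp_apply]
    exact (congrArg W.hom (geomPointAt_apply W.left w b)).trans hw
  rw [hη] at e₂
  have hz : ∀ b : Spec (CommRingCat.of Ω), ζ b = ζ default := fun b =>
    congrArg ζ (Subsingleton.elim (α := Spec (CommRingCat.of Ω)) _ _)
  rw [hz] at e₁
  have h1 : (EtCoh.stalk (η ≫ W.hom)).map a = 0 := by
    rw [← NatIso.naturality_1 (EtaleSite.stalkPullIso W.hom η) a]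
    rw [Functor.comp_map, hW, Functor.map_zero]
    simp
  rw [Functor.map_zero, ← NatIso.naturality_2 (e₁ ≪≫ e₂.symm) a, h1]
  simp

theorem pull_homEquiv {P W' : Scheme.{u}} (g : W' ⟶ Y) (pY : P ⟶ W') (hb : P ⟶ X) (w : hb ≫ f = pY ≫ g)
    {A : EtCoh.Ab Y} {F : EtCoh.Ab X} (s : (EtCoh.pull f).obj A ⟶ F) :
    (EtCoh.pull g).map ((EtCoh.pullPushAdj f).homEquiv A F s) ≫ EtCoh.baseChange0 f g pY hb w F =
      (EtCoh.pullPushAdj pY).homEquiv _ _
        ((EtRamLib.Kummer.Cover.pullSquare f g pY hb w).inv.app A ≫ (EtCoh.pull hb).map s) := by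
  rw [Adjunction.homEquiv_unit, Adjunction.homEquiv_unit, Functor.map_comp, Category.assoc,
    EtRamLib.Kummer.Cover.baseChange0_natural f g pY hb w s,
    ← EtRamLib.Kummer.Cover.pull_map_unit_baseChange0 f g pY hb w A]
  simp only [Category.assoc, Functor.map_comp]
  congr 1
  congr 1
  rw [← Category.assoc ((EtCoh.push pY).map _) ((EtCoh.push pY).map _), ← Functor.map_comp,
    Iso.hom_inv_id_app]
  exact (Category.id_comp _).symm.trans (congrArg (· ≫ _) (CategoryTheory.Functor.map_id _ _).symm)

/-- **Local vanishing**: a class killed étale locally on the base comes from the base. -/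
theorem mem_range_toExt (k : ℕ) : ∀ (A : EtCoh.Ab Y) (G : EtCoh.Ab X)
    (z : Abelian.Ext ((EtCoh.pull f).obj A) G (k + 1)),
    (∀ q : ℕ, 0 < q → q ≤ k → IsZero ((EtCoh.Rpush f q).obj G)) →
    (∀ y : Y, ∃ W : Y.Etale, (∃ w : W.left, W.hom w = y) ∧
      z.mapExactFunctor (EtCoh.pull (pullback.snd W.hom f)) = 0) →
    z ∈ Set.range (AdjExt.toExt (EtCoh.pullPushAdj f) A G (k + 1)) := by
  induction k with
  | zero =>
    intro A G z _ hloc
    let adj := EtCoh.pullPushAdj f
    let L := EtCoh.pull f
    let R := EtCoh.push f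
    let S : ShortComplex (EtCoh.Ab X) := ShortComplex.mk (Injective.ι G) (cokernel.π _) (cokernel.condition _)
    have hS : S.ShortExact := { exact := ShortComplex.exact_cokernel _ }
    have hI : Injective S.X₂ := inferInstanceAs (Injective (Injective.under G))
    haveI := R.map_mono S.f
    let T : ShortComplex (EtCoh.Ab Y) :=
      ShortComplex.mk (R.map S.f) (cokernel.π (R.map S.f)) (cokernel.condition _)
    have hT : T.ShortExact := { exact := ShortComplex.exact_cokernel _ }
    have hR : (S.map R).Exact := hS.exact.map_of_mono_of_preservesKernel R hS.mono_f inferInstance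
    let m₃ : T.X₃ ⟶ R.obj S.X₃ := cokernel.desc (R.map S.f) (R.map S.g) (S.map R).zero
    haveI : Mono m₃ := hR.mono_cokernelDesc
    have hπ : cokernel.π (R.map S.f) ≫ m₃ = R.map S.g := cokernel.π_desc _ _ _
    let φ₃ : L.obj T.X₃ ⟶ S.X₃ := L.map m₃ ≫ adj.counit.app S.X₃
    let φ : T.map L ⟶ S :=
      { τ₁ := adj.counit.app S.X₁
        τ₂ := adj.counit.app S.X₂
        τ₃ := φ₃
        comm₁₂ := (adj.counit_naturality S.f).symm
        comm₂₃ := by
          show adj.counit.app S.X₂ ≫ S.g = L.map (cokernel.π (R.map S.f)) ≫ φ₃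
          rw [← adj.counit_naturality S.g, ← Category.assoc, ← L.map_comp]
          simp [m₃] }
    -- the class is the boundary of a section
    obtain ⟨s₀, hs⟩ := Abelian.Ext.covariant_sequence_exact₁ _ hS z
      (Abelian.Ext.eq_zero_of_injective _) (rfl : 0 + 1 = 1)
    obtain ⟨s, rfl⟩ := Abelian.Ext.homEquiv₀.symm.surjective s₀
    rw [Abelian.Ext.homEquiv₀_symm_apply] at hs
    -- locally the section lifts
    let δ : R.obj S.X₃ ⟶ cokernel m₃ := cokernel.π m₃
    have hx : adj.homEquiv A S.X₃ s ≫ δ = 0 := eq_zero_of_pull_family _ fun y => by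
      obtain ⟨W, hw, hW⟩ := hloc y
      refine ⟨W, hw, ?_⟩
      haveI : Etale W.hom := W.prop
      let hb := pullback.snd W.hom f
      let pY := pullback.fst W.hom f
      have sq : IsPullback hb pY f W.hom := (IsPullback.of_hasPullback W.hom f).flip
      haveI := EtaleBC0.isIso_baseChange0 f W.hom pY hb sq
      rw [← hs, Abelian.Ext.mapExactFunctor_comp, Abelian.Ext.mapExactFunctor_mk₀,
        Abelian.Ext.mapExactFunctor_extClass] at hW
      obtain ⟨w₀, hw₀⟩ := Abelian.Ext.covariant_sequence_exact₃ _ (hS.map_of_exact (EtCoh.pull hb)) _ _ hW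
      obtain ⟨w₁, rfl⟩ := Abelian.Ext.homEquiv₀.symm.surjective w₀
      rw [Abelian.Ext.homEquiv₀_symm_apply, Abelian.Ext.mk₀_comp_mk₀] at hw₀
      have hw₁ : w₁ ≫ (EtCoh.pull hb).map S.g = (EtCoh.pull hb).map s := (Abelian.Ext.mk₀_bijective _ _).1 hw₀
      let e := (EtRamLib.Kummer.Cover.pullSquare f W.hom pY hb sq.w).inv.app A
      have key : (EtCoh.pull W.hom).map (adj.homEquiv A S.X₃ s) =
          ((EtCoh.pullPushAdj pY).homEquiv _ _ (e ≫ w₁) ≫ inv (EtCoh.baseChange0 f W.hom pY hb sq.w S.X₂)) ≫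
            (EtCoh.pull W.hom).map (R.map S.g) := by
        refine (cancel_mono (EtCoh.baseChange0 f W.hom pY hb sq.w S.X₃)).1 ?_
        refine (pull_homEquiv f W.hom pY hb sq.w s).trans ?_
        refine Eq.trans ?_ (Category.assoc _ _ _).symm
        refine Eq.trans ?_ (Category.assoc _ _ _).symm
        refine Eq.trans ?_ (congrArg (fun t => (EtCoh.pullPushAdj pY).homEquiv _ _ (e ≫ w₁) ≫
          inv (EtCoh.baseChange0 f W.hom pY hb sq.w S.X₂) ≫ t)
            (EtRamLib.Kummer.Cover.baseChange0_natural f W.hom pY hb sq.w S.g).symm)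
        rw [IsIso.inv_hom_id_assoc, ← Adjunction.homEquiv_naturality_right, Category.assoc]
        exact congrArg (fun t => (EtCoh.pullPushAdj pY).homEquiv _ _ (e ≫ t)) hw₁.symm
      rw [Functor.map_comp, key, Category.assoc, ← Functor.map_comp,
        show R.map S.g ≫ δ = 0 by rw [← hπ, Category.assoc, cokernel.condition, comp_zero],
        Functor.map_zero, comp_zero]
    -- so it lifts
    have hex : (ShortComplex.mk m₃ δ (cokernel.condition m₃)).Exact := ShortComplex.exact_cokernel _
    let x' := hex.lift (adj.homEquiv A S.X₃ s) hx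
    have hx' : x' ≫ m₃ = adj.homEquiv A S.X₃ s := hex.lift_f _ _
    have hs' : L.map x' ≫ φ₃ = s := by
      show L.map x' ≫ L.map m₃ ≫ adj.counit.app S.X₃ = s
      rw [← Functor.map_comp_assoc, hx']
      exact (adj.homEquiv_counit A S.X₃ _).symm.trans ((adj.homEquiv A S.X₃).symm_apply_apply s)
    refine ⟨(Abelian.Ext.mk₀ x').comp hT.extClass (zero_add 1), ?_⟩
    show (((Abelian.Ext.mk₀ x').comp hT.extClass (zero_add 1)).mapExactFunctor L).comp
      (Abelian.Ext.mk₀ (adj.counit.app S.X₁)) (add_zero _) = z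
    rw [← hs, ← hs', Abelian.Ext.mapExactFunctor_comp, Abelian.Ext.mapExactFunctor_mk₀,
      Abelian.Ext.mapExactFunctor_extClass, Abelian.Ext.comp_assoc_of_third_deg_zero,
      ← Abelian.Ext.mk₀_comp_mk₀, Abelian.Ext.comp_assoc_of_second_deg_zero]
    exact congrArg (fun t => (Abelian.Ext.mk₀ (L.map x')).comp t (zero_add 1))
      ((hT.map_of_exact L).extClass_naturality hS φ)
  | succ k ih =>
    intro A G z hG hloc
    let adj := EtCoh.pullPushAdj f
    let R := EtCoh.push f
    let S : ShortComplex (EtCoh.Ab X) := ShortComplex.mk (Injective.ι G) (cokernel.π _) (cokernel.condition _)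
    have hS : S.ShortExact := { exact := ShortComplex.exact_cokernel _ }
    have hI : Injective S.X₂ := inferInstanceAs (Injective (Injective.under G))
    let les := RDerLES.derivedLES R
    have zI : ∀ q : ℕ, 0 < q → IsZero ((R.rightDerived q).obj S.X₂) := fun q hq => by
      obtain ⟨j, rfl⟩ : ∃ j, q = j + 1 := ⟨q - 1, by omega⟩
      exact Functor.isZero_rightDerived_obj_injective_succ R j _
    have zQ : ∀ q : ℕ, 0 < q → q ≤ k → IsZero ((R.rightDerived q).obj S.X₃) := fun q hq hqk =>
      (les.exact₃ S hS q (q + 1) rfl).isZero_of_both_zeros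
        ((zI q hq).eq_of_src _ _) ((hG (q + 1) (by omega) (by omega)).eq_of_tgt _ _)
    have hRS : (S.map R).ShortExact := by
      have hex : (S.map R).Exact := hS.exact.map_of_mono_of_preservesKernel R hS.mono_f inferInstance
      have := hS.mono_f
      have hm : Mono (R.map S.f) := R.map_mono S.f
      have he : Epi ((R.rightDerived 0).map S.g) :=
        (les.exact₃ S hS 0 1 rfl).epi_f ((hG 1 (by omega) (by omega)).eq_of_tgt _ _)
      have he' : Epi (R.map S.g) := by
        have hnat := (R.rightDerivedZeroIsoSelf).hom.naturality S.g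
        have : R.map S.g = (R.rightDerivedZeroIsoSelf).inv.app S.X₂ ≫ (R.rightDerived 0).map S.g ≫
            (R.rightDerivedZeroIsoSelf).hom.app S.X₃ := by
          simp [hnat]
        rw [this]
        infer_instance
      exact { exact := hex, mono_f := hm, epi_g := he' }
    obtain ⟨z', rfl⟩ := Abelian.Ext.covariant_sequence_exact₁ _ hS z
      (Abelian.Ext.eq_zero_of_injective _) (rfl : k + 1 + 1 = k + 1 + 1)
    obtain ⟨e, rfl⟩ := ih A S.X₃ z' zQ fun y => by
      obtain ⟨W, hw, hW⟩ := hloc y
      refine ⟨W, hw, ?_⟩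
      haveI : Etale W.hom := W.prop
      let hb := pullback.snd W.hom f
      haveI : Etale hb := MorphismProperty.pullback_snd _ _ W.prop
      rw [Abelian.Ext.mapExactFunctor_comp, Abelian.Ext.mapExactFunctor_extClass] at hW
      obtain ⟨w₀, hw₀⟩ := Abelian.Ext.covariant_sequence_exact₃ _ (hS.map_of_exact (EtCoh.pull hb)) _ _ hW
      haveI : Injective (S.map (EtCoh.pull hb)).X₂ := EtSupp.ExtZero.injective_pull hb S.X₂
      rw [Abelian.Ext.eq_zero_of_injective w₀, Abelian.Ext.zero_comp] at hw₀
      exact hw₀.symm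
    exact ⟨e.comp hRS.extClass rfl, AdjExt.toExt_comp_extClass adj hS hRS e⟩

end Groth.Agent.EtAcDepth
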