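import Groth.Agent.EtAcDepth.AffineFibres
import Groth.Agent.EtAcDepth.UnitCrit
import Groth.Agent.EtConsAb.GenericPush
import Groth.Agent.EtLocConst.Basic
import Groth.Agent.EtUnitConst.Normal
import Groth.Agent.EtSection.NormalSH
import Groth.Agent.EtRestLib.LocallyConstant
import Groth.Agent.S8525
import Groth.Prelude.Def_Pi1
import Mathlib.AlgebraicGeometry.FunctionField

/-!
# Direct images from the generic fibre over a normal base with separably closed function field
-/

set_option autoImplicit false
set_option backward.isDefEq.respectTransparency false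
set_option linter.style.haveILetI false

universe u

open CategoryTheory CategoryTheory.Limits AlgebraicGeometry Opposite IsLocalRing

noncomputable section

namespace Groth.Agent.EtAcDepth

open Groth.Agent Groth.Agent.EtaleSite Groth.Agent.EtaleSite.ConstSections Groth.Agent.EtLimit
open Groth.Agent.EtSubmersive

/-- A sheaf trivialised on the whole scheme is constant. -/
theorem exists_iso_const_of_top {W : Scheme.{u}} {G : EtCoh.Ab W} {M : Type (u + 1)} [AddCommGroup M]
    {m : M →+ G.obj.obj (op (EtCoh.top W))} (hm : EtConsAb.IsTriv G (EtCoh.top W) M m) :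
    Nonempty (G ≅ cSheaf W (AddCommGrpCat.of M)) := by
  let η : (Functor.const W.Etaleᵒᵖ).obj (AddCommGrpCat.of M) ⟶ G.obj :=
    { app := fun V => AddCommGrpCat.ofHom
        ((G.obj.map ((EtCore.topIsTerminal W).from V.unop).op).hom.comp m)
      naturality := fun V V' g => by
        ext x
        show G.obj.map ((EtCore.topIsTerminal W).from V'.unop).op (m x) =
          G.obj.map g (G.obj.map ((EtCore.topIsTerminal W).from V.unop).op (m x))
        rw [← ConcreteCategory.comp_apply, ← Functor.map_comp]
        congr 3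
        exact Quiver.Hom.unop_inj ((EtCore.topIsTerminal W).hom_ext _ _) }
  let φ : cSheaf W (AddCommGrpCat.of M) ⟶ G := ⟨sheafifyLift W.smallEtaleTopology η G.property⟩
  have hφ : ∀ x : M, φ.hom.app (op (EtCoh.top W)) (cst (EtCoh.top W) x) = m x := fun x => by
    have h := ConcreteCategory.congr_hom (congrArg (fun q => q.app (op (EtCoh.top W)))
      (toSheafify_sheafifyLift W.smallEtaleTopology η G.property)) x
    refine h.trans ?_
    show G.obj.map ((EtCore.topIsTerminal W).from (EtCoh.top W)).op (m x) = m x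
    rw [(EtCore.topIsTerminal W).hom_ext ((EtCore.topIsTerminal W).from _) (𝟙 _)]
    simp
  refine ⟨(@asIso _ _ _ _ φ (EtaleSite.isIso_of_stalk φ fun Ω _ _ ξ => ?_)).symm⟩
  let t : (Scheme.pointSmallEtale ξ).fiber.obj (EtCoh.top W) := Over.homMk ξ (Category.comp_id _)
  have h1 : Function.Bijective fun x : M =>
      EtaleSite.germ ξ (cSheaf W (AddCommGrpCat.of M)) (EtCoh.top W) t (cst (EtCoh.top W) x) :=
    EtConsAb.isTriv_constSect M (EtCoh.top W) Ω ξ t
  rw [ConcreteCategory.isIso_iff_bijective, ← Function.Bijective.of_comp_iff _ h1]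
  have h2 := hm Ω ξ t
  convert h2 using 1
  funext x
  exact (EtaleSite.germ_naturality ξ φ (EtCoh.top W) t _).trans (congrArg _ (hφ x))

/-- Units at isomorphic objects. -/
theorem isIso_unit_congr {X U : Scheme.{u}} (j : U ⟶ X) {F G : EtCoh.Ab X} (e : F ≅ G)
    (h : IsIso ((EtCoh.pullPushAdj j).unit.app F)) : IsIso ((EtCoh.pullPushAdj j).unit.app G) := by
  haveI := h
  have hn := (EtCoh.pullPushAdj j).unit.naturality e.inv
  haveI : IsIso ((EtCoh.pullPushAdj j).unit.app G ≫ (EtCoh.pull j ⋙ EtCoh.push j).map e.inv) := by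
    rw [← hn]
    infer_instance
  exact IsIso.of_isIso_comp_right _ ((EtCoh.pull j ⋙ EtCoh.push j).map e.inv)

variable {X Y : Scheme.{u}} [IsIntegral Y] (hY : Pi1.IsNormalScheme Y)
  [IsSepClosed (Y.residueField (genericPoint Y))]

include hY in
/-- The local picture of the generic fibre at a point. -/
theorem exists_genPicture (f : X ⟶ Y) (L : Set ℕ) (n : ℕ) (hf : AcycA f L n) {N : Scheme.{u}} (h : N ⟶ X)
    (e : N ⟶ Spec (Y.residueField (genericPoint Y)))
    (hsq : IsPullback e h (Y.fromSpecResidueField (genericPoint Y)) f) (x : X) :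
    ∃ (RS RX : Type u) (_ : CommRing RS) (_ : CommRing RX) (_ : HenselianLocalRing RS)
      (_ : HenselianLocalRing RX) (_ : IsSepClosed (ResidueField RS)) (_ : IsSepClosed (ResidueField RX))
      (_ : Algebra (X.presheaf.stalk x) RX) (_ : IsLocalHom (algebraMap (X.presheaf.stalk x) RX))
      (_ : Hensel.IsStrictHenselization (X.presheaf.stalk x) RX) (_ : Algebra RS RX)
      (_ : IsLocalHom (algebraMap RS RX)) (σS : Spec (CommRingCat.of RS) ⟶ Y) (_ : EtPres σS)
      (_ : EtPres (Hens2.specOf X x RX))
      (q : pullback h (Hens2.specOf X x RX) ⟶ pullback (Y.fromSpecResidueField (genericPoint Y)) σS),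
      Spec.map (CommRingCat.ofHom (algebraMap RS RX)) ≫ σS = Hens2.specOf X x RX ≫ f ∧
      IsPointSpace (pullback (Y.fromSpecResidueField (genericPoint Y)) σS) ∧
      QuasiCompact q ∧
      q ≫ pullback.fst _ _ = pullback.fst h (Hens2.specOf X x RX) ≫ e ∧
      q ≫ pullback.snd _ _ = pullback.snd h _ ≫ Spec.map (CommRingCat.ofHom (algebraMap RS RX)) ∧
      CompactSpace ↥(pullback h (Hens2.specOf X x RX)) ∧
      QuasiSeparatedSpace ↥(pullback h (Hens2.specOf X x RX)) ∧
      ∀ ℓ : ℕ, ℓ.Prime → ℓ ∈ L →
        GoodScheme (pullback h (Hens2.specOf X x RX)) ℓ n ∧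
        ∀ p : ↥(pullback (Y.fromSpecResidueField (genericPoint Y)) σS), GoodScheme (pullback q
          ((pullback (Y.fromSpecResidueField (genericPoint Y)) σS).fromSpecResidueField p)) ℓ n := by
  let η := genericPoint Y
  let y := f x
  let O : Type u := Y.presheaf.stalk y
  let K : Type u := Y.residueField η
  let t := Y.fromSpecResidueField η
  have hs : η ⤳ y := genericPoint_specializes y
  let ev : Y.presheaf.stalk y ⟶ Y.residueField η := Y.presheaf.stalkSpecializes hs ≫ Y.residue η
  letI : Algebra O K := ev.hom.toAlgebra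
  haveI : IsDomain O := (hY y).1
  haveI : IsIntegrallyClosed O := (hY y).2
  letI : Field (Y.presheaf.stalk η) := inferInstanceAs (Field Y.functionField)
  haveI : IsFractionRing O (Y.presheaf.stalk η) := inferInstanceAs (IsFractionRing _ Y.functionField)
  haveI : IsFractionRing O K := IsLocalization.isLocalization_of_algEquiv (nonZeroDivisors O)
    (AlgEquiv.ofBijective ({ (Y.residue η).hom with commutes' := fun _ => rfl } : Y.presheaf.stalk η →ₐ[O] K)
      ⟨(Y.residue η).hom.injective, IsLocalRing.residue_surjective⟩)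
  have hSH : EtCoh.IsStrictlyHenselianLocalRing O := EtSection.isStrictlyHenselian_of_normal (R := O) K
  haveI : HenselianLocalRing O := hSH.1
  haveI : IsSepClosed (ResidueField O) := hSH.2
  haveI : IsLocalHom (algebraMap (Y.presheaf.stalk y) O) := ⟨fun _ ha => ha⟩
  haveI : Hensel.IsStrictHenselization (Y.presheaf.stalk y) O := isStrictHenselization_self O
  let OX := X.presheaf.stalk x
  let RX := Hens.StrictHenselization ↑OX
  let iX : Hensel.IsStrictHenselization ↑OX RX := inferInstance
  haveI := iX.henselian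
  haveI := iX.isSepClosure.sep_closed
  let b : O →+* RX := (algebraMap OX RX).comp (f.stalkMap x).hom
  haveI hbloc : IsLocalHom b := RingHom.isLocalHom_comp _ _
  letI : Algebra O RX := b.toAlgebra
  haveI : IsLocalHom (algebraMap O RX) := hbloc
  obtain ⟨PS⟩ := EtLimit.nonempty_etPres Y y O
  obtain ⟨PX⟩ := EtLimit.nonempty_etPres X x RX
  have hc : (algebraMap O RX).comp (algebraMap (Y.presheaf.stalk y) O) =
      (algebraMap OX RX).comp (f.stalkMap x).hom := rfl
  let σS := Hens2.specOf Y y O
  let σX := Hens2.specOf X x RX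
  let ψ := Spec.map (CommRingCat.ofHom (algebraMap O RX))
  have hψ : ψ ≫ σS = σX ≫ f := specOf_comp_of_comm f x O RX hc
  let τ : Spec (CommRingCat.of K) ⟶ Spec (CommRingCat.of O) := Spec.map (CommRingCat.ofHom (algebraMap O K))
  have hσS : σS = Y.fromSpecStalk y := by
    show Spec.map (CommRingCat.ofHom (RingHom.id _)) ≫ _ = _
    rw [show CommRingCat.ofHom (RingHom.id O) = 𝟙 _ from rfl, Spec.map_id]
    exact Category.id_comp _
  have hτ : τ ≫ σS = t := by
    rw [hσS]
    show Spec.map (Y.presheaf.stalkSpecializes hs ≫ Y.residue η) ≫ _ = Spec.map (Y.residue η) ≫ _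
    rw [Spec.map_comp, Category.assoc, Scheme.SpecMap_stalkSpecializes_fromSpecStalk]
  haveI : Mono σS := hσS ▸ inferInstance
  have hpb : IsPullback (𝟙 (Spec (CommRingCat.of K))) τ t σS :=
    IsPullback.of_isLimit' ⟨(Category.id_comp _).trans hτ.symm⟩
      (PullbackCone.IsLimit.mk _ (fun s => s.fst) (fun s => Category.comp_id _)
        (fun s => (cancel_mono σS).1 (by rw [Category.assoc, hτ, s.condition]))
        (fun s m h₁ _ => (Category.comp_id m).symm.trans h₁))
  let E : Spec (CommRingCat.of K) ≅ pullback t σS := hpb.isoPullback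
  haveI : IsSepClosed (ResidueField (Y.presheaf.stalk η)) := ‹IsSepClosed (Y.residueField (genericPoint Y))›
  have hP : IsPointSpace (pullback t σS) := isPointSpace_pullback t y O
  let q : pullback h σX ⟶ pullback t σS :=
    pullback.lift (pullback.fst h σX ≫ e) (pullback.snd h σX ≫ ψ) (by
      rw [Category.assoc, hsq.w, ← Category.assoc, pullback.condition]
      exact (Category.assoc _ _ _).trans ((congrArg (pullback.snd h σX ≫ ·) hψ.symm).trans
        (Category.assoc _ _ _).symm))
  have sq : IsPullback q (pullback.snd h σX) (pullback.snd t σS) ψ := by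
    refine IsPullback.of_right ?_ (pullback.lift_snd _ _ _) (IsPullback.of_hasPullback t σS)
    rw [pullback.lift_fst, hψ]
    exact (IsPullback.of_hasPullback h σX).paste_horiz hsq
  haveI hqc : QuasiCompact q := MorphismProperty.of_isPullback sq.flip (inferInstance : QuasiCompact ψ)
  haveI : QuasiSeparated q := MorphismProperty.of_isPullback sq.flip (inferInstance : QuasiSeparated ψ)
  haveI : CompactSpace ↥(pullback t σS) := QuasiCompact.compactSpace_of_compactSpace (pullback.snd t σS)
  haveI : QuasiSeparatedSpace ↥(pullback t σS) := quasiSeparatedSpace_of_quasiSeparated (pullback.snd t σS)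
  have hcs : CompactSpace ↥(pullback h σX) := QuasiCompact.compactSpace_of_compactSpace q
  have hqs : QuasiSeparatedSpace ↥(pullback h σX) := quasiSeparatedSpace_of_quasiSeparated q
  refine ⟨O, RX, inferInstance, inferInstance, inferInstance, inferInstance, inferInstance, inferInstance,
    inferInstance, inferInstance, iX, inferInstance, inferInstance, σS, PS, PX, q, hψ, hP, hqc,
    pullback.lift_fst _ _ _, pullback.lift_snd _ _ _, hcs, hqs, fun ℓ hℓ hℓL => ?_⟩
  have hAP : AlgPt O K := fun z => by
    obtain ⟨a, c, hc0, rfl⟩ := IsFractionRing.div_surjective (A := O) z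
    have h0 : algebraMap O K c ≠ 0 :=
      (map_ne_zero_iff _ (IsFractionRing.injective O K)).2 (nonZeroDivisors.ne_zero hc0)
    exact ⟨c, h0, by rw [mul_div_cancel₀ _ h0]; exact isIntegral_algebraMap⟩
  have hgood : GoodScheme (pullback ψ τ) ℓ n := hf x O RX hc K hAP ℓ hℓ hℓL
  have hE : E.inv ≫ τ = pullback.snd t σS := hpb.isoPullback_inv_snd
  have sqW : IsPullback (q ≫ E.inv) (pullback.snd h σX) τ ψ :=
    IsPullback.of_iso sq (Iso.refl _) E.symm (Iso.refl _) (Iso.refl _) (by simp) (by simp)
      (by simpa using hE.symm) (by simp)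
  have hW : GoodScheme (pullback h σX) ℓ n := hgood.of_iso sqW.flip.isoPullback
  refine ⟨hW, fun p => ?_⟩
  have hj : IsIso ((pullback t σS).fromSpecResidueField p) := by
    let P₀ := Spec (CommRingCat.of K)
    let a := E.inv p
    haveI : IsIso (P₀.fromSpecResidueField a) := by
      haveI : IsIso (StructureSheaf.toStalk K a) := (ConcreteCategory.isIso_iff_bijective _).2 (by
        letI : Algebra K (P₀.presheaf.stalk a) := StructureSheaf.stalkAlgebra (R := K) a
        haveI : IsLocalization.AtPrime (P₀.presheaf.stalk a) a.asIdeal :=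
          StructureSheaf.IsLocalization.to_stalk K a
        exact (IsLocalization.atUnits K a.asIdeal.primeCompl (S := P₀.presheaf.stalk a) fun z hz => by
          have : z ≠ 0 := fun h0 => hz (h0 ▸ a.asIdeal.zero_mem)
          exact this.isUnit).bijective)
      haveI : IsIso (P₀.residue a) := (ConcreteCategory.isIso_iff_bijective _).2
        ⟨by
          letI : Field (P₀.presheaf.stalk a) :=
            ((asIso (StructureSheaf.toStalk K a)).commRingCatIsoToRingEquiv.symm.toMulEquiv.isField
              (Field.toIsField K)).toField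
          exact RingHom.injective _, IsLocalRing.residue_surjective⟩
      have : P₀.fromSpecResidueField a = Spec.map (StructureSheaf.toStalk K a ≫ P₀.residue a) := by
        show Spec.map (P₀.residue a) ≫ P₀.fromSpecStalk a = _
        rw [Spec.map_comp]
        exact congrArg (Spec.map (P₀.residue a) ≫ ·) (Spec.fromSpecStalk_eq' (CommRingCat.of K) a)
      rw [this]
      infer_instance
    have hrel : Spec.map (E.inv.residueFieldMap p) ≫ P₀.fromSpecResidueField a =
        (pullback t σS).fromSpecResidueField p ≫ E.inv :=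
      Scheme.Hom.SpecMap_residueFieldMap_fromSpecResidueField E.inv p
    haveI : IsIso ((pullback t σS).fromSpecResidueField p ≫ E.inv) := hrel ▸ inferInstance
    exact IsIso.of_isIso_comp_right _ E.inv
  haveI := hj
  exact hW.of_iso (asIso (pullback.fst q ((pullback t σS).fromSpecResidueField p)))

variable (f : X ⟶ Y) (L : Set ℕ) (n : ℕ) (hf : AcycA f L n) (hL : ∃ ℓ ∈ L, ℓ.Prime) {N : Scheme.{u}}
  (h : N ⟶ X) (e : N ⟶ Spec (Y.residueField (genericPoint Y)))
  (hsq : IsPullback e h (Y.fromSpecResidueField (genericPoint Y)) f)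

omit [IsSepClosed (Y.residueField (genericPoint Y))] in
theorem quasiCompact_quasiSeparated_generic : QuasiCompact (Y.fromSpecResidueField (genericPoint Y)) ∧
    QuasiSeparated (Y.fromSpecResidueField (genericPoint Y)) :=
  ⟨⟨fun U _ _ => (Set.toFinite _).isCompact⟩, inferInstance⟩

include hY hf hL hsq in
/-- Base change from the generic point. -/
theorem isIso_bc0_generic (F : EtCoh.Ab (Spec (Y.residueField (genericPoint Y)))) :
    IsIso (EtCoh.baseChange0 (Y.fromSpecResidueField (genericPoint Y)) f h e hsq.w F) := by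
  haveI := (quasiCompact_quasiSeparated_generic (Y := Y)).1
  haveI := (quasiCompact_quasiSeparated_generic (Y := Y)).2
  refine isIso_of_stalk _ fun Ω' _ _ ξ₀ => ?_
  obtain ⟨RS, RX, _, _, _, _, _, _, _, _, _, _, _, σS, PS, PX, q, hψ, hP, hqc, hq₁, hq₂, hcs, hqs, hgood⟩ :=
    exists_genPicture hY f L n hf h e hsq (ξ₀ default)
  haveI := hqc
  let x := ξ₀ default
  let σX := Hens2.specOf X x RX
  let F' := (EtCoh.pull (pullback.fst (Y.fromSpecResidueField (genericPoint Y)) σS)).obj F
  haveI := isIso_unit_pointSpace q hP L n (fun p ℓ hℓ hℓL => (hgood ℓ hℓ hℓL).2 p) hL F'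
  have hqb : Function.Bijective (EtConsAb.pullSect q F' (EtCoh.top _)) := by
    haveI : IsIso ((sheafToPresheaf _ _).map ((EtCoh.pullPushAdj q).unit.app F')) := inferInstance
    haveI : IsIso (((EtCoh.pullPushAdj q).unit.app F').hom.app (op (EtCoh.top _))) :=
      NatIso.isIso_app_of_isIso ((sheafToPresheaf _ _).map ((EtCoh.pullPushAdj q).unit.app F')) _
    exact ConcreteCategory.bijective_of_isIso (((EtCoh.pullPushAdj q).unit.app F').hom.app (op (EtCoh.top _)))
  let ξ := EtSubmersive.overClosed (𝟙 (Spec (CommRingCat.of (ResidueField RX)))) ≫ σX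
  have hξ : ∀ a : Spec (CommRingCat.of (ResidueField RX)), ξ a = x := fun a => by
    rw [Scheme.Hom.comp_apply]
    refine Eq.trans (congrArg σX ?_) (specOf_closedPoint' X x RX)
    exact IsLocalRing.PrimeSpectrum.comap_residue _ _
  obtain ⟨e₀⟩ := nonempty_stalk_iso_geomPointAt ξ₀
  have hx0 : ∀ a : Spec (CommRingCat.of Ω'), ξ₀ a = x := fun a =>
    congrArg ξ₀ (Subsingleton.elim (α := Spec (CommRingCat.of Ω')) _ _)
  rw [hx0] at e₀
  obtain ⟨e₁⟩ := nonempty_stalk_iso_geomPointAt ξ
  refine (NatIso.isIso_map_iff e₀ _).2 ?_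
  rw [hξ] at e₁
  exact (NatIso.isIso_map_iff e₁ _).1 ((ConcreteCategory.isIso_iff_bijective _).2
    (bijective_stalk_bc_of_pullSect (Y.fromSpecResidueField (genericPoint Y)) f h e hsq F
      σS σX PS PX (algebraMap RS RX) hψ q hq₁ hq₂ hqb))

include hY hf hL hsq in
/-- The unit at constant sheaves. -/
theorem isIso_unit_generic_const (M : AddCommGrpCat.{u + 1}) :
    IsIso ((EtCoh.pullPushAdj h).unit.app (cSheaf X M)) := by
  let t := Y.fromSpecResidueField (genericPoint Y)
  haveI hut : IsIso ((EtCoh.pullPushAdj t).unit.app (cSheaf Y M)) := by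
    refine EtConsAb.isIso_unit_generic (fun W w => ?_) t (fun p => Scheme.fromSpecResidueField_apply _ _) M
    obtain ⟨N', hN', hwN, hNi⟩ := EtUnitConst.exists_irreducible_nhd (fun y => (hY y).2) W w
    exact ⟨⟨N', hN'⟩, hwN, hNi⟩
  haveI := isIso_bc0_generic hY f L n hf hL h e hsq ((EtCoh.pull t).obj (cSheaf Y M))
  have key := EtRamLib.Kummer.Cover.pull_map_unit_baseChange0 t f h e hsq.w (cSheaf Y M)
  have hu : IsIso ((EtCoh.pullPushAdj h).unit.app ((EtCoh.pull f).obj (cSheaf Y M))) := key ▸ inferInstance
  exact isIso_unit_congr h ((EtCore.pullConstIso f).app M) hu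

end Groth.Agent.EtAcDepth
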