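import Groth.Agent.EtAcDepth.NormalGeneric

/-!
# Locally constant sheaves and the generic fibre over a normal base
-/

set_option autoImplicit false
set_option backward.isDefEq.respectTransparency false
set_option linter.style.haveILetI false

universe u

open CategoryTheory CategoryTheory.Limits AlgebraicGeometry Opposite IsLocalRing

noncomputable section

namespace Groth.Agent.EtAcDepth

open Groth.Agent Groth.Agent.EtaleSite Groth.Agent.EtaleSite.ConstSections Groth.Agent.EtLimit Groth.Agent.EtColim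

/-- An isomorphism may be checked on a jointly surjective étale family. -/
theorem isIso_of_pull_family {Y : Scheme.{u}} {A B : EtCoh.Ab Y} (a : A ⟶ B)
    (h : ∀ y : Y, ∃ W : Y.Etale, (∃ w : W.left, W.hom w = y) ∧ IsIso ((EtCoh.pull W.hom).map a)) : IsIso a := by
  refine isIso_of_stalk a fun Ω _ _ ζ => ?_
  obtain ⟨W, ⟨w, hw⟩, hW⟩ := h (ζ default)
  let η := geomPointAt W.left w
  obtain ⟨e₁⟩ := nonempty_stalk_iso_geomPointAt ζ
  obtain ⟨e₂⟩ := nonempty_stalk_iso_geomPointAt (η ≫ W.hom)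
  have hη : ∀ b, (η ≫ W.hom) b = ζ default := fun b => by
    rw [Scheme.Hom.comp_apply]
    exact (congrArg W.hom (geomPointAt_apply W.left w b)).trans hw
  rw [hη] at e₂
  have hz : ∀ b : Spec (CommRingCat.of Ω), ζ b = ζ default := fun b =>
    congrArg ζ (Subsingleton.elim (α := Spec (CommRingCat.of Ω)) _ _)
  rw [hz] at e₁
  haveI := hW
  refine (NatIso.isIso_map_iff (e₁ ≪≫ e₂.symm) _).2 ?_
  exact (NatIso.isIso_map_iff (EtaleSite.stalkPullIso W.hom η) a).1
    (inferInstanceAs (IsIso ((EtCoh.stalk η).map ((EtCoh.pull W.hom).map a))))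

variable {X Y : Scheme.{u}} [IsIntegral Y] (hY : Pi1.IsNormalScheme Y)
  [IsSepClosed (Y.residueField (genericPoint Y))]
  (f : X ⟶ Y) (L : Set ℕ) (n : ℕ) (hf : AcycA f L n) (hL : ∃ ℓ ∈ L, ℓ.Prime) {N : Scheme.{u}}
  (h : N ⟶ X) (e : N ⟶ Spec (Y.residueField (genericPoint Y)))
  (hsq : IsPullback e h (Y.fromSpecResidueField (genericPoint Y)) f)
  (F : EtCoh.Ab X) (hlc : EtRest.IsLocallyConstant F)

include hY hf hL hsq hlc in
/-- The unit at locally constant sheaves. -/
theorem isIso_unit_generic_lisse : IsIso ((EtCoh.pullPushAdj h).unit.app F) := by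
  refine isIso_of_pull_family _ fun x => ?_
  obtain ⟨V, φ, M, _, m, hm⟩ := EtLocConst.exists_isTriv hlc (geomPointAt X x)
  refine ⟨V, ⟨φ.left (default : Spec _), ?_⟩, ?_⟩
  · have := congrArg (fun k : Spec _ ⟶ X => k default) (Over.w φ)
    exact this.trans (geomPointAt_apply X x _)
  haveI : Etale V.hom := V.prop
  let j : EtCoh.top V.left ⟶ (EtCoh.bc V.hom).obj V :=
    MorphismProperty.Over.homMk (pullback.lift (𝟙 _) (𝟙 _) rfl) (pullback.lift_snd _ _ _) trivial
  obtain ⟨eF⟩ := exists_iso_const_of_top ((hm.pull V.hom).restrict j)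
  let hb := pullback.snd V.hom h
  let pY := pullback.fst V.hom h
  have sq : IsPullback hb pY h V.hom := (IsPullback.of_hasPullback V.hom h).flip
  have hsqV : IsPullback (hb ≫ e) pY (Y.fromSpecResidueField (genericPoint Y)) (V.hom ≫ f) :=
    ((sq.flip.paste_vert hsq.flip)).flip
  have hfV : AcycA (V.hom ≫ f) L n := hf.of_square (V.hom ≫ f) (g₁ := V.hom) (g₂ := 𝟙 Y)
    (shStable_of_etale _) (shStable_of_etale _) (Category.comp_id _)
  have hu : IsIso ((EtCoh.pullPushAdj pY).unit.app ((EtCoh.pull V.hom).obj F)) :=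
    isIso_unit_congr pY eF.symm
      (isIso_unit_generic_const hY (V.hom ≫ f) L n hfV hL pY (hb ≫ e) hsqV (AddCommGrpCat.of M))
  haveI := EtaleBC0.isIso_baseChange0 h V.hom pY hb sq ((EtCoh.pull h).obj F)
  haveI := hu
  have key := EtRamLib.Kummer.Cover.pull_map_unit_baseChange0 h V.hom pY hb sq.w F
  rw [← IsIso.eq_comp_inv] at key
  exact (congrArg (fun k => IsIso k) key).mpr (IsIso.comp_isIso' hu inferInstance)

include hY hf hsq hlc in
/-- The higher direct images from the generic fibre vanish. -/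
theorem isZero_Rpush_generic_lisse [QuasiCompact h] [QuasiSeparated h] (hF : EtAcyc.IsLTorsion L F)
    (b : ℕ) (h1 : 1 ≤ b) (h2 : b ≤ n) : IsZero ((EtCoh.Rpush h b).obj ((EtCoh.pull h).obj F)) := by
  let G := (EtCoh.Rpush h b).obj ((EtCoh.pull h).obj F)
  haveI : Mono (0 : G ⟶ G) := (EtaleSite.mono_iff_stalk _).2 fun Ω' _ _ ξ => by
    obtain ⟨RS, RX, _, _, _, _, _, _, _, _, _, _, _, σS, PS, PX, q, hψ, hP, hqc, hq₁, hq₂, hcs, hqs, hgood⟩ :=
      exists_genPicture hY f L n hf h e hsq (ξ default)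
    haveI := hcs
    haveI := hqs
    let x := ξ default
    let σX := Hens2.specOf X x RX
    have hlcR : EtRest.IsLocallyConstant ((EtCoh.pull σX).obj F) := EtLocConst.isLC_pull σX hlc
    obtain ⟨V, φ, M, _, m, hm⟩ := EtLocConst.exists_isTriv hlcR (closedPt RX)
    obtain ⟨eC⟩ := EtRestLib.exists_iso_const RX _ V φ m hm
    have hT : EtAcyc.IsLTorsion L (cSheaf (Spec (CommRingCat.of RX)) (AddCommGrpCat.of M)) :=
      TorsionPush.isLTorsion_of_epi L eC.hom (isLTorsion_pull' σX L F hF)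
    have hM : ∀ c : (AddCommGrpCat.of M : AddCommGrpCat.{u + 1}), ∃ k, EtAcyc.PrimesIn L k ∧ k • c = 0 := by
      intro c
      let ξ' := closedPt RX
      let t := topPoint RX
      obtain ⟨k, hk, hz⟩ := (Groth.Agent.S8525.result L _).1 hT _ ξ'
        (germ ξ' _ (EtCoh.top _) t (cst (EtCoh.top (Spec (CommRingCat.of RX))) c))
      refine ⟨k, hk, (EtConsAb.isTriv_constSect M (EtCoh.top _) _ ξ' t).1 ?_⟩
      show germ ξ' _ _ t (EtConsAb.constSect M _ (k • c)) = germ ξ' _ _ t (EtConsAb.constSect M _ 0)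
      rw [map_nsmul, map_nsmul, map_zero, map_zero]
      exact hz
    obtain ⟨Φ⟩ := EtLimit.nonempty_Rpush_stalk_iso h x RX b
    obtain ⟨s₁⟩ := nonempty_stalk_iso_geomPointAt ξ
    obtain ⟨s₂⟩ := nonempty_stalk_iso_geomPointAt (Hens2.geomPt X x RX)
    rw [specOf_closedPt] at s₂
    have hx : ∀ a : Spec (CommRingCat.of Ω'), ξ a = x := fun a =>
      congrArg ξ (Subsingleton.elim (α := Spec (CommRingCat.of Ω')) _ _)
    rw [hx] at s₁
    haveI := subsingleton_H_const_L (W := pullback h σX) L b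
      (fun ℓ hℓ hℓL => (hgood ℓ hℓ hℓL).1.1 b h1 h2) (AddCommGrpCat.of M) hM
    let eF : (EtCoh.pull (pullback.fst h σX)).obj ((EtCoh.pull h).obj F) ≅
        cSheaf (pullback h σX) (AddCommGrpCat.of M) :=
      ((EtCore.pullComp (pullback.fst h σX) h).symm ≪≫ EtCore.pullCongr pullback.condition ≪≫
        EtCore.pullComp (pullback.snd h σX) σX).app F ≪≫
        (EtCoh.pull (pullback.snd h σX)).mapIso eC ≪≫
          (EtCore.pullConstIso (pullback.snd h σX)).app (AddCommGrpCat.of M)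
    have i := (s₁ ≪≫ s₂.symm).app G ≪≫ Φ.app _ ≪≫ (EtCoh.HF _ b).mapIso eF
    haveI : Subsingleton ((EtCoh.stalk ξ).obj G) :=
      i.addCommGroupIsoToAddEquiv.toEquiv.subsingleton_congr.2
        (inferInstanceAs (Subsingleton (EtCoh.H (pullback h σX) (cSheaf (pullback h σX) (AddCommGrpCat.of M)) b)))
    exact fun a a' _ => Subsingleton.elim a a'
  exact IsZero.of_mono_zero G G

/-- Isomorphic units and vanishing direct images give the comparison for one sheaf. -/
theorem Hpull_comparison_of_unit {P Q : Scheme.{u}} (g : P ⟶ Q) (G : EtCoh.Ab Q) (k : ℕ)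
    (hu : IsIso ((EtCoh.pullPushAdj g).unit.app G))
    (hR : ∀ q : ℕ, 1 ≤ q → q ≤ k → IsZero ((EtCoh.Rpush g q).obj ((EtCoh.pull g).obj G))) :
    (∀ q : ℕ, q ≤ k → Function.Bijective (EtCore.Hpull g G q)) ∧
      Function.Injective (EtCore.Hpull g G (k + 1)) := by
  haveI := hu
  have hη : ∀ q, Function.Bijective fun e : EtCoh.H Q G q =>
      e.comp (Abelian.Ext.mk₀ ((EtCoh.pullPushAdj g).unit.app G)) (add_zero q) := fun q =>
    HpullComp.HF_map_bijective ((EtCoh.pullPushAdj g).unit.app G)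
  refine ⟨fun q hq => ?_, ?_⟩
  · rw [Hpull_eq_toExt]
    exact (bijective_pullConst_comp g _ q).comp ((AdjExt.toExt_bijective_le (EtCoh.pullPushAdj g) q _ _
      fun b h1 h2 => hR b h1 (h2.trans hq)).comp (hη q))
  · rw [Hpull_eq_toExt]
    exact (bijective_pullConst_comp g _ (k + 1)).1.comp
      ((EtDescSS.CompBCDesc.toExt_injective_bounded (EtCoh.pullPushAdj g) k _ _
        fun b h1 h2 => hR b h1 h2).comp (hη (k + 1)).1)

end Groth.Agent.EtAcDepth
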