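import Groth.Agent.EtAcDepth.Fibre

/-!
# Effacing pieces
-/

set_option autoImplicit false
set_option backward.isDefEq.respectTransparency false

universe u

open CategoryTheory CategoryTheory.Limits AlgebraicGeometry Opposite

noncomputable section

namespace Groth.Agent.EtAcDepth

open Groth.Agent Groth.Agent.EtaleSite Groth.Agent.EtaleSite.ConstSections

variable {U V Y : Scheme.{u}} (v : V ⟶ U) (h : Y ⟶ U) [IsIntegralHom h] [IsIntegral Y]
  (hN : ∀ y : Y, IsIntegrallyClosed (Y.presheaf.stalk y)) [IsSepClosed Y.functionField]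
  {Ω : Type u} [Field Ω] [IsSepClosed Ω] (η : Spec (CommRingCat.of Ω) ⟶ Y)
  (hη : η default = genericPoint Y) [QuasiCompact η] [QuasiSeparated η]
  {ℓ m : ℕ} (hℓ : ℓ.Prime) (hv : Acyc v ℓ m)
  (hglob : GoodScheme (pullback v (η ≫ h)) ℓ m)
  (M : AddCommGrpCat.{u + 1}) [Finite M] (hM : ∀ x : M, ∃ k : ℕ, ℓ ^ k • x = 0)
  [CompactSpace V] [QuasiSeparatedSpace V]

include hN hη hℓ hv hM in
theorem isZero_Rpush_generic (b : ℕ) (h1 : 0 < b) (h2 : b ≤ m) :
    IsZero ((EtCoh.Rpush (pullback.fst (pullback.snd v h) η) b).obj (cSheaf _ M)) := by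
  let F := (EtCoh.Rpush (pullback.fst (pullback.snd v h) η) b).obj (cSheaf (pullback (pullback.snd v h) η) M)
  haveI : Mono (0 : F ⟶ F) := (EtaleSite.mono_iff_stalk _).2 fun Ω' _ _ ξ => by
    obtain ⟨W, hW, _, _, ⟨e⟩⟩ := nonempty_Rpush_stalk_generic v h hN η hη hv (ξ default) b M ξ rfl
    haveI := subsingleton_H_const_primary hℓ b (hW.1 b h1 h2) M hM
    haveI : Subsingleton ((EtCoh.stalk ξ).obj F) :=
      e.addCommGroupIsoToAddEquiv.toEquiv.injective.subsingleton
    exact fun x y _ => Subsingleton.elim x y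
  exact IsZero.of_mono_zero F F

include hN hη hℓ hv in
theorem nonempty_push_const_iso :
    Nonempty (cSheaf (pullback v h) M ≅
      (EtCoh.push (pullback.fst (pullback.snd v h) η)).obj (cSheaf _ M)) := by
  let g := pullback.fst (pullback.snd v h) η
  let i : cSheaf (pullback v h) M ⟶ (EtCoh.push g).obj (cSheaf _ M) :=
    (EtCoh.pullPushAdj g).unit.app _ ≫ (EtCoh.push g).map ((EtCore.pullConstIso g).app M).hom
  haveI := mono_unit_const g (exists_generalization v h hN η hη hℓ hv) M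
  haveI : Mono i := @mono_comp _ _ _ _ _ _ (mono_unit_const g (exists_generalization v h hN η hη hℓ hv) M) _ inferInstance
  haveI : IsIso i := isIso_of_stalk _ fun Ω' _ _ ξ => by
    obtain ⟨W, hW, _, _, ⟨e⟩⟩ := nonempty_Rpush_stalk_generic v h hN η hη hv (ξ default) 0 M ξ rfl
    obtain ⟨e0⟩ := nonempty_H0_equiv M (hW.cst_bijective hℓ M)
    let E : (EtCoh.stalk ξ).obj ((EtCoh.push g).obj (cSheaf _ M)) ≃ M :=
      (((EtCoh.stalk ξ).mapIso (((EtCoh.push g).rightDerivedZeroIsoSelf.app _).symm) ≪≫ e).addCommGroupIsoToAddEquiv.toEquiv).trans e0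
    haveI : Finite ((EtCoh.stalk ξ).obj ((EtCoh.push g).obj (cSheaf _ M))) := Finite.of_equiv _ E.symm
    obtain ⟨φ₀, -⟩ := exists_fiber_point ξ (EtCoh.top (pullback v h)) (ξ default) rfl
    have hc : Function.Bijective fun c : M =>
        germ ξ (cSheaf (pullback v h) M) (EtCoh.top _) φ₀ (cst (EtCoh.top _) c) :=
      ⟨fun a b hab => germ_cst_injective _ _ _ hab, EtConsAb.germ_cst_surjective _ _ _⟩
    refine (ConcreteCategory.isIso_iff_bijective _).2 ?_
    refine (Nat.bijective_iff_injective_and_card _).2 ⟨(EtaleSite.mono_iff_stalk i).1 inferInstance Ω' ξ, ?_⟩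
    rw [Nat.card_congr E, Nat.card_congr (Equiv.ofBijective _ hc).symm]
  exact ⟨asIso i⟩

include hN hη hℓ hv hglob hM in
/-- Cohomology of the base change of a normal piece. -/
theorem cohomology_pullback (b : ℕ) (hb : b ≤ m) :
    (1 ≤ b → Subsingleton (EtCoh.H (pullback v h) (cSheaf _ M) b)) ∧
      (b = 0 → Nonempty (EtCoh.H (pullback v h) (cSheaf _ M) b ≃ M)) := by
  let g := pullback.fst (pullback.snd v h) η
  let E : pullback (pullback.snd v h) η ≅ pullback v (η ≫ h) := pullbackLeftPullbackSndIso v h η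
  have hW := hglob.of_iso E
  haveI : QuasiCompact g := inferInstance
  haveI : QuasiSeparated g := inferInstance
  haveI : CompactSpace ↥(pullback v h) :=
    QuasiCompact.compactSpace_of_compactSpace (pullback.fst v h)
  haveI : QuasiSeparatedSpace ↥(pullback v h) :=
    quasiSeparatedSpace_of_quasiSeparated (pullback.fst v h)
  haveI : CompactSpace ↥(pullback (pullback.snd v h) η) :=
    QuasiCompact.compactSpace_of_compactSpace g
  haveI : QuasiSeparatedSpace ↥(pullback (pullback.snd v h) η) :=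
    quasiSeparatedSpace_of_quasiSeparated g
  obtain ⟨i⟩ := nonempty_push_const_iso v h hN η hη hℓ hv M
  obtain ⟨e⟩ := nonempty_H_push_equiv_le g (cSheaf _ M) b
    fun c h1 h2 => isZero_Rpush_generic v h hN η hη hℓ hv M hM c h1 (h2.trans hb)
  let E' := ((EtCoh.HF _ b).mapIso i).addCommGroupIsoToAddEquiv.toEquiv.trans e.toEquiv
  refine ⟨fun h1 => ?_, ?_⟩
  · exact E'.subsingleton_congr.2 (subsingleton_H_const_primary hℓ b (hW.1 b h1 hb) M hM)
  · rintro rfl
    obtain ⟨e0⟩ := nonempty_H0_equiv M (hW.cst_bijective hℓ M)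
    exact ⟨E'.trans e0⟩

include hN in
theorem subsingleton_H_piece (b : ℕ) :
    Subsingleton (EtCoh.H U ((EtCoh.push h).obj (cSheaf Y M)) (b + 1)) := by
  obtain ⟨e⟩ := EtDescSS.Etale.nonempty_H_push_iso h (cSheaf Y M) (b + 1)
  exact e.addCommGroupIsoToAddEquiv.toEquiv.subsingleton_congr.2 (subsingleton_H_normal hN M b)

variable [PreservesFiniteLimits (EtCoh.pull v)] [Surjective v]

include hN hη hℓ hv hglob hM in
theorem Hpull_bijective_piece (b : ℕ) (hb : b ≤ m) :
    Function.Bijective (EtCore.Hpull v ((EtCoh.push h).obj (cSheaf Y M)) b) := by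
  haveI := isIso_baseChange0_integral h v (pullback.fst v h) (pullback.snd v h)
    (IsPullback.of_hasPullback v h).flip (cSheaf Y M)
  let β : (EtCoh.pull v).obj ((EtCoh.push h).obj (cSheaf Y M)) ≅
      (EtCoh.push (pullback.fst v h)).obj (cSheaf (pullback v h) M) :=
    asIso (EtCoh.baseChange0 h v (pullback.fst v h) (pullback.snd v h)
      (IsPullback.of_hasPullback v h).flip.w (cSheaf Y M)) ≪≫
      (EtCoh.push (pullback.fst v h)).mapIso ((EtCore.pullConstIso (pullback.snd v h)).app M)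
  obtain ⟨e⟩ := EtDescSS.Etale.nonempty_H_push_iso (pullback.fst v h) (cSheaf (pullback v h) M) b
  let E : EtCoh.H V ((EtCoh.pull v).obj ((EtCoh.push h).obj (cSheaf Y M))) b ≃
      EtCoh.H (pullback v h) (cSheaf _ M) b :=
    ((EtCoh.HF V b).mapIso β ≪≫ e).addCommGroupIsoToAddEquiv.toEquiv
  obtain ⟨h1, h0⟩ := cohomology_pullback v h hN η hη hℓ hv hglob M hM b hb
  rcases Nat.eq_zero_or_pos b with rfl | hb1
  · obtain ⟨e0⟩ := h0 rfl
    obtain ⟨eY⟩ := EtDescSS.Etale.nonempty_H_push_iso h (cSheaf Y M) 0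
    obtain ⟨eY0⟩ := nonempty_H0_equiv M (cst_top_bijective_normal hN M)
    let EU := eY.addCommGroupIsoToAddEquiv.toEquiv.trans eY0
    let EV := E.trans e0
    haveI : Finite (EtCoh.H U ((EtCoh.push h).obj (cSheaf Y M)) 0) := Finite.of_equiv _ EU.symm
    haveI : Finite (EtCoh.H V ((EtCoh.pull v).obj ((EtCoh.push h).obj (cSheaf Y M))) 0) :=
      Finite.of_equiv _ EV.symm
    exact (Nat.bijective_iff_injective_and_card _).2
      ⟨Hpull_zero_injective_of_surjective v _, (Nat.card_congr EU).trans (Nat.card_congr EV).symm⟩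
  · haveI := E.subsingleton_congr.2 (h1 hb1)
    obtain ⟨k, rfl⟩ : ∃ k, b = k + 1 := ⟨b - 1, by omega⟩
    haveI := subsingleton_H_piece h hN M k
    exact ⟨fun x y _ => Subsingleton.elim x y, fun y => ⟨0, Subsingleton.elim _ _⟩⟩

end Groth.Agent.EtAcDepth
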