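import Mathlib.RingTheory.IntegralClosure.IsIntegralClosure.Basic
import Mathlib.RingTheory.IntegralClosure.IntegrallyClosed
import Mathlib.RingTheory.Spectrum.Prime.Jacobson
import Mathlib.RingTheory.Localization.AtPrime.Basic
import Mathlib.RingTheory.Ideal.GoingUp
import Mathlib.RingTheory.Nilpotent.Lemmas
import Mathlib.FieldTheory.IsAlgClosed.AlgebraicClosure

/-!
# An absolutely flat cover with algebraically closed residue fields
-/

set_option autoImplicit false

universe u

noncomputable section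

namespace Groth.Agent.EtAcDepth

open Polynomial

/-- Algebraic points: a multiple of every element is integral over the base. -/
def AlgPt (A Ω : Type*) [CommRing A] [CommRing Ω] [Algebra A Ω] : Prop :=
  ∀ z : Ω, ∃ a : A, algebraMap A Ω a ≠ 0 ∧ IsIntegral A (algebraMap A Ω a * z)

/-- In a reduced ring of dimension zero the elements of a prime die in the localisation. -/
theorem exists_mul_eq_zero_of_mem {B : Type*} [CommRing B] [IsReduced B]
    (hmax : ∀ q : Ideal B, q.IsPrime → q.IsMaximal) (q : Ideal B) [q.IsPrime] {b : B} (hb : b ∈ q) :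
    ∃ e ∉ q, e * b = 0 := by
  let L := Localization.AtPrime q
  have hn : IsNilpotent (algebraMap B L b) := by
    refine nilpotent_iff_mem_prime.2 fun P hP => ?_
    haveI : P.IsPrime := hP
    have hle : P.comap (algebraMap B L) ≤ q := fun x hx => by
      by_contra hxq
      exact hP.ne_top (P.eq_top_of_isUnit_mem hx (IsLocalization.map_units L (⟨x, hxq⟩ : q.primeCompl)))
    rw [← (hmax _ inferInstance).eq_of_le (Ideal.IsPrime.ne_top ‹_›) hle] at hb
    exact hb
  obtain ⟨k, hk⟩ := hn
  rw [← map_pow] at hk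
  obtain ⟨e, he⟩ := (IsLocalization.map_eq_zero_iff q.primeCompl L (b ^ k)).1 hk
  refine ⟨e, e.2, IsNilpotent.eq_zero ⟨k + 1, ?_⟩⟩
  calc ((e : B) * b) ^ (k + 1) = ((e : B) * b ^ k) * ((e : B) ^ k * b) := by ring
    _ = 0 := by rw [he, zero_mul]

section Cover

variable (A : Type u) [CommRing A]

/-- The product of the algebraic closures of the residue fields. -/
abbrev ClosureProd : Type u :=
  ∀ p : PrimeSpectrum A, AlgebraicClosure p.asIdeal.ResidueField

variable {A}

/-- The image of an element in the product. -/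
def toProd : A →+* ClosureProd A :=
  RingHom.comp (Pi.ringHom fun p => (algebraMap p.asIdeal.ResidueField (AlgebraicClosure p.asIdeal.ResidueField)).comp
    ((algebraMap A p.asIdeal.ResidueField).comp (Pi.evalRingHom (fun _ : PrimeSpectrum A => A) p)))
    (Pi.ringHom fun _ => RingHom.id A)

theorem toProd_apply (a : A) (p : PrimeSpectrum A) :
    toProd a p = algebraMap p.asIdeal.ResidueField (AlgebraicClosure p.asIdeal.ResidueField)
      (algebraMap A p.asIdeal.ResidueField a) := rfl

/-- Its componentwise quasi-inverse. -/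
def qinv (a : A) : ClosureProd A := fun p => (toProd a p)⁻¹

theorem toProd_qinv (a : A) : toProd a * qinv a * toProd a = toProd a :=
  funext fun p => by
    simp only [Pi.mul_apply, qinv]
    rcases eq_or_ne (toProd a p) 0 with h | h
    · simp [h]
    · simp [h]

theorem qinv_toProd (a : A) : qinv a * toProd a * qinv a = qinv a :=
  funext fun p => by
    simp only [Pi.mul_apply, qinv]
    rcases eq_or_ne (toProd a p) 0 with h | h
    · simp [h]
    · simp [h]

variable (A)

/-- The absolutely flat ring generated by `A`. -/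
def flatSubring : Subring (ClosureProd A) :=
  Subring.closure (Set.range (toProd (A := A)) ∪ Set.range (qinv (A := A)))

variable {A}

/-- `A` in the absolutely flat ring. -/
def toFlat : A →+* flatSubring A :=
  (toProd (A := A)).codRestrict (flatSubring A) fun a => Subring.subset_closure (Or.inl ⟨a, rfl⟩)

/-- The quasi-inverse in the absolutely flat ring. -/
def flatInv (a : A) : flatSubring A := ⟨qinv a, Subring.subset_closure (Or.inr ⟨a, rfl⟩)⟩

theorem flatInv_sub_one_mem {q : Ideal (flatSubring A)} [q.IsPrime] {a : A} (ha : toFlat a ∉ q) :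
    toFlat a * flatInv a - 1 ∈ q := by
  refine (‹q.IsPrime›.mem_or_mem (?_ : toFlat a * (toFlat a * flatInv a - 1) ∈ q)).resolve_left ha
  have : toFlat a * (toFlat a * flatInv a - 1) = 0 := by
    refine Subtype.ext ?_
    show toProd a * (toProd a * qinv a - 1) = 0
    rw [mul_sub, mul_one, mul_comm (toProd a) (qinv a), ← mul_assoc, toProd_qinv, sub_self]
  rw [this]
  exact q.zero_mem

theorem exists_frac (q : Ideal (flatSubring A)) [q.IsPrime] (x : flatSubring A) :
    ∃ a s : A, toFlat s ∉ q ∧ toFlat s * x - toFlat a ∈ q := by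
  obtain ⟨x, hx⟩ := x
  induction hx using Subring.closure_induction with
  | mem y hy =>
    rcases hy with ⟨a, rfl⟩ | ⟨a, rfl⟩
    · refine ⟨a, 1, fun h => ‹q.IsPrime›.ne_top ((q.eq_top_iff_one).2 (map_one (toFlat (A := A)) ▸ h)), ?_⟩
      rw [map_one, one_mul]
      exact (sub_self (toFlat a)).symm ▸ q.zero_mem
    · by_cases ha : toFlat a ∈ q
      · refine ⟨0, 1, fun h => ‹q.IsPrime›.ne_top ((q.eq_top_iff_one).2 (map_one (toFlat (A := A)) ▸ h)), ?_⟩
        rw [map_one, map_zero, one_mul, sub_zero]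
        have h : (⟨qinv a, Subring.subset_closure (Or.inr ⟨a, rfl⟩)⟩ : flatSubring A) =
            toFlat a * (flatInv a * flatInv a) := Subtype.ext (by
          show qinv a = toProd a * (qinv a * qinv a)
          rw [← mul_assoc, mul_comm (toProd a), qinv_toProd])
        exact h ▸ q.mul_mem_right _ ha
      · exact ⟨1, a, ha, by rw [map_one]; exact flatInv_sub_one_mem ha⟩
  | zero =>
    refine ⟨0, 1, fun h => ‹q.IsPrime›.ne_top ((q.eq_top_iff_one).2 (map_one (toFlat (A := A)) ▸ h)), ?_⟩
    rw [map_zero, sub_zero]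
    exact q.mul_mem_left _ (show (⟨0, _⟩ : flatSubring A) ∈ q from q.zero_mem)
  | one =>
    refine ⟨1, 1, fun h => ‹q.IsPrime›.ne_top ((q.eq_top_iff_one).2 (map_one (toFlat (A := A)) ▸ h)), ?_⟩
    rw [map_one, one_mul]
    exact (show (⟨1, _⟩ : flatSubring A) - 1 ∈ q from (sub_self (1 : flatSubring A)).symm ▸ q.zero_mem)
  | add y z hy hz ihy ihz =>
    obtain ⟨a, s, hs, h1⟩ := ihy
    obtain ⟨b, t, ht, h2⟩ := ihz
    refine ⟨a * t + b * s, s * t, fun h => ?_, ?_⟩
    · rw [map_mul] at h; exact (‹q.IsPrime›.mem_or_mem h).elim hs ht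
    · have e : toFlat (s * t) * (⟨y + z, add_mem hy hz⟩ : flatSubring A) - toFlat (a * t + b * s) =
          toFlat t * (toFlat s * ⟨y, hy⟩ - toFlat a) + toFlat s * (toFlat t * ⟨z, hz⟩ - toFlat b) := by
        rw [show (⟨y + z, add_mem hy hz⟩ : flatSubring A) = ⟨y, hy⟩ + ⟨z, hz⟩ from rfl, map_mul, map_add,
          map_mul, map_mul]
        ring
      exact e ▸ add_mem (q.mul_mem_left _ h1) (q.mul_mem_left _ h2)
  | neg y hy ihy =>
    obtain ⟨a, s, hs, h1⟩ := ihy
    refine ⟨-a, s, hs, ?_⟩
    have e : toFlat s * (⟨-y, neg_mem hy⟩ : flatSubring A) - toFlat (-a) =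
        -(toFlat s * ⟨y, hy⟩ - toFlat a) := by
      rw [show (⟨-y, neg_mem hy⟩ : flatSubring A) = -⟨y, hy⟩ from rfl, map_neg]
      ring
    exact e ▸ neg_mem h1
  | mul y z hy hz ihy ihz =>
    obtain ⟨a, s, hs, h1⟩ := ihy
    obtain ⟨b, t, ht, h2⟩ := ihz
    refine ⟨a * b, s * t, fun h => ?_, ?_⟩
    · rw [map_mul] at h; exact (‹q.IsPrime›.mem_or_mem h).elim hs ht
    · have e : toFlat (s * t) * (⟨y * z, mul_mem hy hz⟩ : flatSubring A) - toFlat (a * b) =
          (toFlat t * ⟨z, hz⟩) * (toFlat s * ⟨y, hy⟩ - toFlat a) + toFlat a * (toFlat t * ⟨z, hz⟩ - toFlat b) := by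
        rw [show (⟨y * z, mul_mem hy hz⟩ : flatSubring A) = ⟨y, hy⟩ * ⟨z, hz⟩ from rfl, map_mul, map_mul]
        ring
      exact e ▸ add_mem (q.mul_mem_left _ h1) (q.mul_mem_left _ h2)

theorem isMaximal_flat (q : Ideal (flatSubring A)) [q.IsPrime] : q.IsMaximal := by
  rw [Ideal.isMaximal_iff]
  refine ⟨fun h => ‹q.IsPrime›.ne_top ((q.eq_top_iff_one).2 h), fun J x hle hxq hxJ => ?_⟩
  obtain ⟨a, s, hs, h⟩ := exists_frac q x
  have ha : toFlat a ∉ q := fun ha => by
    have h1 : toFlat s * x ∈ q := by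
      have := add_mem h ha
      rwa [sub_add_cancel] at this
    exact (‹q.IsPrime›.mem_or_mem h1).elim hs hxq
  have h2 : toFlat a ∈ J := by
    have := sub_mem (J.mul_mem_left (toFlat s) hxJ) (hle h)
    rwa [sub_sub_cancel] at this
  have h3 := sub_mem (J.mul_mem_right (flatInv a) h2) (hle (flatInv_sub_one_mem ha))
  rwa [sub_sub_cancel] at h3

variable (A)

/-- Every ring has an absolutely flat cover with algebraically closed, algebraic residue fields. -/
theorem exists_pointCover : ∃ (B : Type u) (_ : CommRing B) (_ : Algebra A B) (_ : IsReduced B),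
    (∀ q : Ideal B, q.IsPrime → q.IsMaximal) ∧
    (∀ p : PrimeSpectrum A, ∃ q : PrimeSpectrum B, PrimeSpectrum.comap (algebraMap A B) q = p) ∧
    (∀ (q : Ideal B) [q.IsMaximal], @IsAlgClosed (B ⧸ q) (Ideal.Quotient.field q)) ∧
    (∀ (q : Ideal B) [q.IsPrime], AlgPt A (B ⧸ q)) := by
  let B₀ := flatSubring A
  let B := integralClosure B₀ (ClosureProd A)
  let ι : A →+* B := (algebraMap B₀ B).comp toFlat
  letI : Algebra A B := ι.toAlgebra
  letI : Algebra A B₀ := (toFlat (A := A)).toAlgebra
  haveI : IsScalarTower A B₀ B := .of_algebraMap_eq fun _ => rfl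
  haveI : Algebra.IsIntegral B₀ B := integralClosure.AlgebraIsIntegral
  haveI : IsReduced B := isReduced_of_injective B.val Subtype.val_injective
  have hmax : ∀ q : Ideal B, q.IsPrime → q.IsMaximal := fun q hq =>
    haveI := hq
    Ideal.isMaximal_of_isIntegral_of_isMaximal_comap (R := B₀) q (isMaximal_flat (q.comap (algebraMap B₀ B)))
  refine ⟨B, inferInstance, inferInstance, inferInstance, hmax, fun p => ?_, fun q hq => ?_, fun q hq => ?_⟩
  · let e : B →+* AlgebraicClosure p.asIdeal.ResidueField := (Pi.evalRingHom _ p).comp B.val.toRingHom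
    refine ⟨⟨RingHom.ker e, RingHom.ker_isPrime e⟩, PrimeSpectrum.ext (Ideal.ext fun a => ?_)⟩
    show toProd a p = 0 ↔ _
    rw [toProd_apply, map_eq_zero, ← RingHom.mem_ker, Ideal.ker_algebraMap_residueField]
  · letI := Ideal.Quotient.field q
    refine IsAlgClosed.of_exists_root _ fun P hP hirr => ?_
    obtain ⟨Q, hQP, hdeg, hQ⟩ := Polynomial.lifts_and_degree_eq_and_monic
      ((Polynomial.lifts_iff_coeff_lifts _).2 fun i => Ideal.Quotient.mk_surjective (P.coeff i)) hP
    have hroot : ∀ p : PrimeSpectrum A, ∃ z,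
        (Q.map ((Pi.evalRingHom _ p).comp B.val.toRingHom)).IsRoot z := fun p => by
      refine IsAlgClosed.exists_root _ ?_
      rw [hQ.degree_map, hdeg]
      exact (Polynomial.degree_pos_of_irreducible hirr).ne'
    choose z hz using hroot
    have hzQ : aeval (R := B) (A := ClosureProd A) z Q = 0 := by
      funext p
      have := hz p
      rw [IsRoot.def, eval_map] at this
      rw [aeval_def]
      exact (hom_eval₂ Q (algebraMap B (ClosureProd A)) (Pi.evalRingHom _ p) z).trans this
    have hzB : z ∈ B := (mem_integralClosure_iff B₀ _).2 (isIntegral_trans z ⟨Q, hQ, hzQ⟩)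
    refine ⟨Ideal.Quotient.mk q ⟨z, hzB⟩, ?_⟩
    have h0 : Q.eval ⟨z, hzB⟩ = 0 := Subtype.val_injective (by
      refine (Polynomial.hom_eval₂ Q (RingHom.id B) B.val.toRingHom _).trans ?_
      rw [RingHom.comp_id]
      exact hzQ)
    rw [← hQP, eval_map, eval₂_at_apply, h0, map_zero]
  · haveI := hq
    let q₀ : Ideal B₀ := q.comap (algebraMap B₀ B)
    let K := B ⧸ q
    intro z
    obtain ⟨z, rfl⟩ := Ideal.Quotient.mk_surjective z
    haveI : (RingHom.ker ((Ideal.Quotient.mk q).comp ι)).IsPrime :=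
      RingHom.ker_isPrime _
    let p : Ideal A := RingHom.ker ((Ideal.Quotient.mk q).comp ι)
    let Ap := Localization.AtPrime p
    haveI := hmax q hq
    letI := Ideal.Quotient.field q
    have hne : ∀ a : A, a ∉ p → algebraMap A K a ≠ 0 := fun a ha h => ha (RingHom.mem_ker.2 h)
    letI : Algebra Ap K := (IsLocalization.lift (M := p.primeCompl) (g := algebraMap A K)
      fun a => (hne a.1 a.2).isUnit).toAlgebra
    haveI : IsScalarTower A Ap K := .of_algebraMap_eq fun a => (IsLocalization.lift_eq _ a).symm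
    have hrange : ∀ x : B₀, Ideal.Quotient.mk q (algebraMap B₀ B x) ∈ (algebraMap Ap K).range := fun x => by
      obtain ⟨a, s, hs, h⟩ := exists_frac q₀ x
      have hs' : s ∉ p := fun h' => hs ((Ideal.Quotient.eq_zero_iff_mem.1 (RingHom.mem_ker.1 h') : algebraMap B₀ B (toFlat s) ∈ q))
      refine ⟨IsLocalization.mk' Ap a (⟨s, hs'⟩ : p.primeCompl), mul_left_cancel₀ (hne s hs') ?_⟩
      have hspec := congrArg (algebraMap Ap K) (IsLocalization.mk'_spec' Ap a (⟨s, hs'⟩ : p.primeCompl))
      rw [map_mul] at hspec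
      rw [IsScalarTower.algebraMap_apply A Ap K s]
      refine hspec.trans ?_
      rw [← IsScalarTower.algebraMap_apply A Ap K a, ← IsScalarTower.algebraMap_apply A Ap K s]
      have h' : Ideal.Quotient.mk q (algebraMap B₀ B (toFlat s * x - toFlat a)) = 0 :=
        Ideal.Quotient.eq_zero_iff_mem.2 h
      rw [map_sub, map_sub, map_mul, map_mul, sub_eq_zero] at h'
      exact h'.symm
    have hint : IsIntegral Ap (Ideal.Quotient.mk q z) := by
      obtain ⟨P, hP, hPz⟩ := Algebra.IsIntegral.isIntegral (R := B₀) z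
      obtain ⟨Q, hQP, -, hQ⟩ := Polynomial.lifts_and_degree_eq_and_monic
        (f := algebraMap Ap K) (p := P.map ((Ideal.Quotient.mk q).comp (algebraMap B₀ B)))
        ((Polynomial.lifts_iff_coeff_lifts _).2 fun i => by rw [coeff_map]; exact hrange _) (hP.map _)
      refine ⟨Q, hQ, ?_⟩
      rw [eval₂_eq_eval_map, hQP, eval_map, ← hom_eval₂, hPz, map_zero]
    obtain ⟨m, hm⟩ := hint.exists_multiple_integral_of_isLocalization p.primeCompl _
    exact ⟨m, hne m m.2, by rw [← Algebra.smul_def]; exact hm⟩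

end Cover

end Groth.Agent.EtAcDepth
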