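import Groth.Agent.EtLimit.Main
import Groth.Agent.EtaleSite.HpullFunctor
import Groth.Agent.EtRestLib.LocallyConstant
import Groth.Agent.EtAcDepth.Leray

/-!
# Pullback of cohomology classes with constant coefficients, and limits
-/

set_option autoImplicit false
set_option backward.isDefEq.respectTransparency false

universe u

open CategoryTheory CategoryTheory.Limits AlgebraicGeometry Opposite

noncomputable section

namespace Groth.Agent.EtAcDepth

open Groth.Agent Groth.Agent.EtaleSite Groth.Agent.EtaleSite.ConstSections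

variable {A B C : Scheme.{u}} (M : AddCommGrpCat.{u + 1})

/-- The comparison of constants. -/
abbrev νC (g : A ⟶ B) : (EtCoh.pull g).obj (cSheaf B M) ⟶ cSheaf A M :=
  ((EtCore.pullConstIso g).app M).hom

/-- Pullback in constant cohomology. -/
def pullC (g : A ⟶ B) (q : ℕ) : EtCoh.H B (cSheaf B M) q →+ EtCoh.H A (cSheaf A M) q :=
  AddMonoidHom.mk' (fun x => (EtCore.Hpull g (cSheaf B M) q x).comp (Abelian.Ext.mk₀ (νC M g)) (add_zero q))
    fun x y => by rw [map_add, Abelian.Ext.add_comp]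

theorem pullC_apply (g : A ⟶ B) (q : ℕ) (x : EtCoh.H B (cSheaf B M) q) :
    pullC M g q x = (EtCore.Hpull g (cSheaf B M) q x).comp (Abelian.Ext.mk₀ (νC M g)) (add_zero q) := rfl

theorem νC_comp (a : A ⟶ B) (b : B ⟶ C) :
    (EtCore.pullComp a b).hom.app (cSheaf C M) ≫ ((EtCoh.pull a).map (νC M b) ≫ νC M a :
      (EtCoh.pull a).obj ((EtCoh.pull b).obj (cSheaf C M)) ⟶ cSheaf A M) = νC M (a ≫ b) := by
  let ib := (EtCore.pullConstIso b).app M
  let ia := (EtCore.pullConstIso a).app M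
  let iab := (EtCore.pullConstIso (a ≫ b)).app M
  have h : iab.inv ≫ (EtCore.pullComp a b).hom.app (cSheaf C M) = ia.inv ≫ (EtCoh.pull a).map ib.inv :=
    HpullComp.pullConst_comp a b M
  refine (cancel_epi iab.inv).1 ((reassoc_of% h) ((EtCoh.pull a).map ib.hom ≫ ia.hom) |>.trans ?_)
  refine (congrArg (ia.inv ≫ ·) (((Category.assoc _ _ _).symm.trans
    (congrArg (· ≫ ia.hom) (((EtCoh.pull a).map_comp _ _).symm.trans
      ((congrArg (EtCoh.pull a).map ib.inv_hom_id).trans ((EtCoh.pull a).map_id _))))).trans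
      (Category.id_comp _))).trans ?_
  exact ia.inv_hom_id.trans iab.inv_hom_id.symm

theorem pullC_comp (a : A ⟶ B) (b : B ⟶ C) (t : A ⟶ C) (w : a ≫ b = t) (q : ℕ)
    (x : EtCoh.H C (cSheaf C M) q) : pullC M a q (pullC M b q x) = pullC M t q x := by
  subst w
  exact HpullFunctor.Hpull_comp_comp a b q x _ _ _ (νC_comp M a b)

theorem pullC_eq_zero_iff (g : A ⟶ B) (q : ℕ) (x : EtCoh.H B (cSheaf B M) q) :
    pullC M g q x = 0 ↔ EtCore.Hpull g (cSheaf B M) q x = 0 :=
  ⟨fun h => (HpullComp.HF_map_bijective (νC M g)).1 (h.trans (Abelian.Ext.zero_comp ..).symm),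
    fun h => by rw [pullC_apply, h]; exact Abelian.Ext.zero_comp ..⟩

theorem pullC_bijective_iff (g : A ⟶ B) (q : ℕ) :
    Function.Bijective (pullC M g q) ↔ Function.Bijective (EtCore.Hpull g (cSheaf B M) q) :=
  Function.Bijective.of_comp_iff' (HpullComp.HF_map_bijective (νC M g)) _

theorem pullC_toH0 (g : A ⟶ B) (a : AddCommGrpCat.of (ULift.{u + 1} ℤ) ⟶ M) :
    pullC M g 0 (EtRestLib.toH0 B M a) = EtRestLib.toH0 A M a := by
  simp only [pullC_apply, EtRestLib.toH0]
  refine (congrArg (fun z => Abelian.Ext.comp z (Abelian.Ext.mk₀ (νC M g)) (add_zero 0))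
    (HpullComp.Hpull_mk₀ g _)).trans ?_
  rw [Abelian.Ext.mk₀_comp_mk₀]
  congr 1
  have h := (EtCore.pullConstIso g).hom.naturality a
  exact (Category.assoc _ _ _).trans ((congrArg ((EtCore.pullConst g ℤ).inv ≫ ·) h).trans
    ((EtCore.pullConst g ℤ).inv_hom_id_assoc _))

theorem νC_via {D : Scheme.{u}} (π : A ⟶ B) (a : B ⟶ D) (t : A ⟶ D) (w : π ≫ a = t) :
    (((EtCore.pullComp π a).symm ≪≫ EtCore.pullCongr w).app (cSheaf D M)).hom ≫ νC M t =
      ((EtCoh.pull π).map (νC M a) ≫ νC M π :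
        (EtCoh.pull π).obj ((EtCoh.pull a).obj (cSheaf D M)) ⟶ cSheaf A M) := by
  subst w
  refine (congrArg ((((EtCore.pullComp π a).symm ≪≫ EtCore.pullCongr rfl).app (cSheaf D M)).hom ≫ ·)
    (νC_comp M π a).symm).trans ?_
  simp only [EtCore.pullCongr, eqToIso_refl, Iso.trans_refl, Iso.app_hom, Iso.symm_hom]
  exact (Category.assoc _ _ _).symm.trans ((congrArg (· ≫ _) (Iso.inv_hom_id_app _ _)).trans
    (Category.id_comp _))

variable {I : Type u} [SmallCategory I] [IsCofiltered I] {D : I ⥤ Scheme.{u}} {c : Cone D}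
  (hc : IsLimit c) [∀ (i j : I) (a : i ⟶ j), IsAffineHom (D.map a)]
  [∀ i, CompactSpace (D.obj i)] [∀ i, QuasiSeparatedSpace (D.obj i)]

include hc in
theorem exists_pullC_eq (q : ℕ) (j : I) (ξ : EtCoh.H c.pt (cSheaf c.pt M) q) :
    ∃ (k : I) (_ : k ⟶ j) (y : EtCoh.H (D.obj k) (cSheaf (D.obj k) M) q),
      pullC M (c.π.app k) q y = ξ := by
  obtain ⟨ξ', hξ'⟩ := (HpullComp.HF_map_bijective (n := q) (νC M (c.π.app j))).2 ξ
  obtain ⟨k, a, y, hy⟩ := (EtLimit.limit_cohomology hc q).1 j (cSheaf (D.obj j) M) ξ'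
  refine ⟨k, a, y.comp (Abelian.Ext.mk₀ (νC M (D.map a))) (add_zero q), ?_⟩
  rw [pullC_apply, HpullSeq.Hpull_postcomp, Abelian.Ext.comp_assoc_of_second_deg_zero,
    Abelian.Ext.mk₀_comp_mk₀, ← hξ', ← hy, HpullFunctor.HpullVia_apply]
  simp only [Abelian.Ext.comp_assoc_of_second_deg_zero, Abelian.Ext.mk₀_comp_mk₀]
  rw [νC_via]

include hc in
theorem exists_pullC_eq_zero (q : ℕ) (j : I) (y : EtCoh.H (D.obj j) (cSheaf (D.obj j) M) q)
    (h : pullC M (c.π.app j) q y = 0) : ∃ (k : I) (a : k ⟶ j), pullC M (D.map a) q y = 0 := by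
  obtain ⟨k, a, ha⟩ := (EtLimit.limit_cohomology hc q).2 j _ y ((pullC_eq_zero_iff M _ q y).1 h)
  exact ⟨k, a, (pullC_eq_zero_iff M _ q y).2 ha⟩

section Compare

variable {D' : I ⥤ Scheme.{u}} {c' : Cone D'} (hc' : IsLimit c')
  [∀ (i j : I) (a : i ⟶ j), IsAffineHom (D'.map a)]
  [∀ i, CompactSpace (D'.obj i)] [∀ i, QuasiSeparatedSpace (D'.obj i)]
  (v : D' ⟶ D) (v₀ : c'.pt ⟶ c.pt) (hv : ∀ i, v₀ ≫ c.π.app i = c'.π.app i ≫ v.app i)

include hc hc' hv in
/-- Comparison isomorphisms pass to the limit. -/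
theorem pullC_bijective_limit [Nonempty I] (q : ℕ) (h : ∀ i, Function.Bijective (pullC M (v.app i) q)) :
    Function.Bijective (pullC M v₀ q) := by
  constructor
  · rw [injective_iff_map_eq_zero]
    intro x hx
    obtain ⟨k, -, y, rfl⟩ := exists_pullC_eq M hc q (Classical.arbitrary I) x
    replace hx : pullC M (c'.π.app k) q (pullC M (v.app k) q y) = 0 :=
      ((pullC_comp M (c'.π.app k) (v.app k) _ rfl q y).trans
        (pullC_comp M v₀ (c.π.app k) _ (hv k) q y).symm).trans hx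
    obtain ⟨l, a, ha⟩ := exists_pullC_eq_zero M hc' q k _ hx
    rw [pullC_comp M (D'.map a) (v.app k) _ (v.naturality a) q y,
      ← pullC_comp M (v.app l) (D.map a) _ rfl q y] at ha
    have := (h l).1 (ha.trans (map_zero _).symm)
    exact (pullC_comp M (c.π.app l) (D.map a) _ (c.w a) q y).symm.trans
      ((congrArg (pullC M (c.π.app l) q) this).trans (map_zero _))
  · intro ξ
    obtain ⟨k, -, y, rfl⟩ := exists_pullC_eq M hc' q (Classical.arbitrary I) ξ
    obtain ⟨x, rfl⟩ := (h k).2 y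
    refine ⟨pullC M (c.π.app k) q x, ?_⟩
    exact (pullC_comp M v₀ (c.π.app k) _ (hv k) q x).trans
      (pullC_comp M (c'.π.app k) (v.app k) _ rfl q x).symm

end Compare

end Groth.Agent.EtAcDepth
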