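import Groth.Agent.EtAcDepth.EffObj

/-!
# Acyclic local morphisms of strictly local schemes
-/

set_option autoImplicit false
set_option backward.isDefEq.respectTransparency false

universe u

open CategoryTheory CategoryTheory.Limits AlgebraicGeometry Opposite IsLocalRing TopologicalSpace
open scoped TensorProduct

noncomputable section

namespace Groth.Agent.EtAcDepth

open Groth.Agent Groth.Agent.EtaleSite

theorem isStrictHenselization_of_bijective (L A : Type u) [CommRing L] [IsLocalRing L] [CommRing A]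
    [HenselianLocalRing A] [IsSepClosed (ResidueField A)] [Algebra L A] [IsLocalHom (algebraMap L A)]
    (hb : Function.Bijective (algebraMap L A)) : Hensel.IsStrictHenselization L A := by
  let e := RingEquiv.ofBijective _ hb
  refine ⟨inferInstance, ⟨inferInstance, ⟨fun x => ?_⟩⟩, fun T _ _ f _ τ hτ =>
    ⟨f.comp (e.symm : A →+* L), ⟨RingHom.ext fun l => congrArg f (e.symm_apply_apply l), fun a => ?_⟩,
      fun g hg => RingHom.ext fun a => ?_⟩⟩
  · obtain ⟨a, rfl⟩ := residue_surjective x
    obtain ⟨l, rfl⟩ := hb.2 a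
    exact isSeparable_algebraMap (F := ResidueField L) (K := ResidueField A) (residue L l)
  · obtain ⟨l, rfl⟩ := hb.2 a
    refine Eq.trans ?_ (RingHom.congr_fun hτ (residue L l)).symm
    exact congrArg (fun z => residue T (f z)) (e.symm_apply_apply l)
  · obtain ⟨l, rfl⟩ := hb.2 a
    refine (RingHom.congr_fun hg.1 l).trans ?_
    exact congrArg f (e.symm_apply_apply l).symm

theorem exists_alg_closedPoint (A : Type u) [CommRing A] [HenselianLocalRing A]
    [IsSepClosed (ResidueField A)] (p : Spec (CommRingCat.of A))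
    (hp : p = (closedPoint A : Spec (CommRingCat.of A))) :
    ∃ (_ : Algebra ((Spec (CommRingCat.of A)).presheaf.stalk p) A)
      (_ : IsLocalHom (algebraMap ((Spec (CommRingCat.of A)).presheaf.stalk p) A)),
      Hensel.IsStrictHenselization ((Spec (CommRingCat.of A)).presheaf.stalk p) A ∧
        Hens2.specOf (Spec (CommRingCat.of A)) p A = 𝟙 _ := by
  subst hp
  let i : (Spec (CommRingCat.of A)).presheaf.stalk (closedPoint A) ≅ CommRingCat.of A :=
    stalkClosedPointIso (CommRingCat.of A)
  letI alg : Algebra ((Spec (CommRingCat.of A)).presheaf.stalk (closedPoint A)) A := i.hom.hom.toAlgebra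
  have hb : Function.Bijective
      (algebraMap ((Spec (CommRingCat.of A)).presheaf.stalk (closedPoint A)) A) :=
    i.commRingCatIsoToRingEquiv.bijective
  haveI : IsLocalHom (algebraMap ((Spec (CommRingCat.of A)).presheaf.stalk (closedPoint A)) A) :=
    ⟨fun a ha => (isUnit_map_iff i.commRingCatIsoToRingEquiv a).1 ha⟩
  refine ⟨alg, inferInstance, isStrictHenselization_of_bijective _ A hb, ?_⟩
  show Spec.map i.hom ≫ (Spec (CommRingCat.of A)).fromSpecStalk (closedPoint A) = 𝟙 _
  rw [Spec.fromSpecStalk_eq', ← Spec.map_comp]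
  have : StructureSheaf.toStalk A (closedPoint A) ≫ i.hom = 𝟙 _ := by
    rw [← Iso.eq_comp_inv, Category.id_comp]
    exact (stalkClosedPointIso_inv (CommRingCat.of A)).symm
  exact (congrArg Spec.map this).trans (Spec.map_id _)

variable {A : Type u} [CommRing A] [HenselianLocalRing A] [IsSepClosed (ResidueField A)]
  {R : Type u} [CommRing R] [HenselianLocalRing R] [IsSepClosed (ResidueField R)]
  (φ : A →+* R) [IsLocalHom φ] {ℓ m : ℕ} (hA : Acyc (Spec.map (CommRingCat.ofHom φ)) ℓ m)

omit [IsSepClosed (ResidueField A)] [IsSepClosed (ResidueField R)] in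
theorem map_closedPoint :
    Spec.map (CommRingCat.ofHom φ) (closedPoint R : Spec (CommRingCat.of R)) = closedPoint A :=
  IsLocalRing.comap_closedPoint φ

include hA in
theorem good_of_acyc : @Good A R _ _ φ.toAlgebra ℓ m := by
  letI := φ.toAlgebra
  haveI : IsLocalHom (algebraMap A R) := inferInstanceAs (IsLocalHom φ)
  obtain ⟨algS, locS, hS, eS⟩ := exists_alg_closedPoint A
    ((Spec.map (CommRingCat.ofHom φ)).base (closedPoint R)) (map_closedPoint φ)
  obtain ⟨algX, locX, hX, eX⟩ := exists_alg_closedPoint R (closedPoint R) rfl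
  refine hA (closedPoint R : Spec (CommRingCat.of R)) A R ?_
  let h := Spec.map (CommRingCat.ofHom φ)
  let a₁ : (Spec (CommRingCat.of A)).presheaf.stalk (h.base (closedPoint R)) ⟶ CommRingCat.of A :=
    CommRingCat.ofHom (algebraMap ((Spec (CommRingCat.of A)).presheaf.stalk (h.base (closedPoint R))) A)
  let b₂ : (Spec (CommRingCat.of R)).presheaf.stalk (closedPoint R) ⟶ CommRingCat.of R :=
    CommRingCat.ofHom (algebraMap ((Spec (CommRingCat.of R)).presheaf.stalk (closedPoint R)) R)
  haveI : IsLocalHom ((algebraMap A R).comp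
      (algebraMap ((Spec (CommRingCat.of A)).presheaf.stalk (h.base (closedPoint R))) A)) :=
    RingHom.isLocalHom_comp _ _
  have i1 : IsLocalHom (a₁ ≫ CommRingCat.ofHom φ).hom := by
    rw [CommRingCat.hom_comp]; exact ‹IsLocalHom ((algebraMap A R).comp _)›
  have i2 : IsLocalHom (h.stalkMap (closedPoint R) ≫ b₂).hom := by
    rw [CommRingCat.hom_comp]
    exact @RingHom.isLocalHom_comp _ _ _ _ _ _ _ _ locX inferInstance
  refine congrArg CommRingCat.Hom.hom (@StrictHens.SchemeBC.stalk_hom_ext _ (CommRingCat.of R)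
    (inferInstanceAs (IsLocalRing R)) (h.base (closedPoint R))
    (a₁ ≫ CommRingCat.ofHom φ) (h.stalkMap (closedPoint R) ≫ b₂) i1 i2 ?_)
  rw [Spec.map_comp, Spec.map_comp, Category.assoc, Category.assoc, Scheme.SpecMap_stalkMap_fromSpecStalk]
  refine (congrArg (Spec.map (CommRingCat.ofHom φ) ≫ ·) eS).trans ?_
  refine (Category.comp_id _).trans ((Category.id_comp _).symm.trans ?_)
  exact (congrArg (· ≫ h) eX.symm).trans (Category.assoc _ _ _)

include hA in
theorem goodScheme_geomFibre (Ω : Type u) [Field Ω] [IsSepClosed Ω]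
    (a : Spec (CommRingCat.of Ω) ⟶ Spec (CommRingCat.of A)) :
    GoodScheme (pullback (Spec.map (CommRingCat.ofHom φ)) a) ℓ m := by
  letI := φ.toAlgebra
  let ψ : CommRingCat.of A ⟶ CommRingCat.of Ω := Spec.preimage a
  letI : Algebra A Ω := ψ.hom.toAlgebra
  have h := good_of_acyc φ hA Ω
  exact GoodScheme.of_iso (W := Spec (CommRingCat.of (R ⊗[A] Ω))) h
    (pullback.congrHom rfl (Spec.map_preimage a).symm ≪≫ pullbackSpecIso A R Ω)

include hA in
theorem surjective_map (hℓ : ℓ.Prime) : Surjective (Spec.map (CommRingCat.ofHom φ)) := ⟨fun p => by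
  obtain ⟨z⟩ := (goodScheme_geomFibre φ hA _ (geomPointAt (Spec (CommRingCat.of A)) p)).nonempty hℓ
  refine ⟨pullback.fst (Spec.map (CommRingCat.ofHom φ)) (geomPointAt _ p) z, ?_⟩
  rw [← Scheme.Hom.comp_apply, pullback.condition, Scheme.Hom.comp_apply, geomPointAt_apply]⟩

include hA in
theorem noetherianSpace (hℓ : ℓ.Prime) [IsNoetherianRing R] :
    NoetherianSpace (Spec (CommRingCat.of A)) := by
  haveI := surjective_map φ hA hℓ
  haveI : NoetherianSpace (Spec (CommRingCat.of R)) := inferInstanceAs (NoetherianSpace (PrimeSpectrum R))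
  exact noetherianSpace_of_surjective (Spec.map (CommRingCat.ofHom φ))
    (Spec.map (CommRingCat.ofHom φ)).continuous (Spec.map (CommRingCat.ofHom φ)).surjective

include hA in
/-- Cohomology of `ℓ`-torsion sheaves on an open of the base and on its inverse image agree up to degree
`m`. -/
theorem Hpull_bijective_restrict (hℓ : ℓ.Prime) [IsNoetherianRing R]
    (U : (Spec (CommRingCat.of A)).Opens) [PreservesFiniteLimits (EtCoh.pull (Spec.map (CommRingCat.ofHom φ) ∣_ U))]
    (b : ℕ) (hb : b ≤ m) (G : EtCoh.Ab U.toScheme) (hG : EtDepth.IsLTorsion ℓ G) :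
    Function.Bijective (EtCore.Hpull (Spec.map (CommRingCat.ofHom φ) ∣_ U) G b) := by
  let h := Spec.map (CommRingCat.ofHom φ)
  haveI := surjective_map φ hA hℓ
  haveI : Surjective (h ∣_ U) := IsZariskiLocalAtTarget.restrict ‹Surjective h› U
  haveI := noetherianSpace φ hA hℓ
  haveI : CompactSpace ↥U.toScheme :=
    isCompact_iff_compactSpace.1 (NoetherianSpace.isCompact (U : Set (Spec (CommRingCat.of A))))
  haveI : QuasiSeparatedSpace ↥U.toScheme := quasiSeparatedSpace_of_quasiSeparated U.ι
  haveI : IsLocallyNoetherian (Spec (CommRingCat.of R)) := inferInstance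
  haveI : IsLocallyNoetherian (h ⁻¹ᵁ U).toScheme := isLocallyNoetherian_of_isOpenImmersion (h ⁻¹ᵁ U).ι
  haveI : CompactSpace ↥(h ⁻¹ᵁ U).toScheme :=
    isCompact_iff_compactSpace.1 ((show NoetherianSpace (Spec (CommRingCat.of R)) from inferInstanceAs (NoetherianSpace (PrimeSpectrum R))).isCompact _)
  haveI : IsNoetherian (h ⁻¹ᵁ U).toScheme := {}
  haveI : QuasiSeparatedSpace ↥(h ⁻¹ᵁ U).toScheme := inferInstance
  have hv : Acyc (h ∣_ U) ℓ m := hA.of_square (h ∣_ U) (g₁ := (h ⁻¹ᵁ U).ι) (g₂ := U.ι)
    (shStable_of_isOpenImmersion _) (shStable_of_isOpenImmersion _) (morphismRestrict_ι h U)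
  refine Hpull_bijective (h ∣_ U) hℓ (effaces (h ∣_ U) hℓ hv fun Ω _ _ a => ?_) b hb G hG
  refine (goodScheme_geomFibre φ hA Ω (a ≫ U.ι)).of_iso ?_
  exact pullbackSymmetry _ _ ≪≫
    ((IsPullback.of_hasPullback a (h ∣_ U)).paste_vert (isPullback_morphismRestrict h U)).isoPullback ≪≫
      pullbackSymmetry _ _

end Groth.Agent.EtAcDepth
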