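import Groth.Agent.EtAcDepth.LocalVanish
import Groth.Agent.EtLimit.BaseChange
import Groth.Agent.EtLimit.Main
import Groth.Agent.EtDescSS.CompBCDesc

/-!
# Classes vanishing over the strict localisations of the base
-/

set_option autoImplicit false
set_option backward.isDefEq.respectTransparency false
set_option linter.style.haveILetI false

universe u

open CategoryTheory CategoryTheory.Limits AlgebraicGeometry Opposite

noncomputable section

namespace Groth.Agent.EtAcDepth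

open Groth.Agent Groth.Agent.EtaleSite Groth.Agent.EtLimit

attribute [local instance] EtPres.cat EtPres.cofiltered EtPres.isAffine EtPres.etale

theorem Hpull_Hpull_eq_zero_iff {A B D : Scheme.{u}} (a : A ⟶ B) (b : B ⟶ D) {c : A ⟶ D} (w : a ≫ b = c)
    (G : EtCoh.Ab D) (q : ℕ) (z : EtCoh.H D G q) :
    EtCore.Hpull a ((EtCoh.pull b).obj G) q (EtCore.Hpull b G q z) = 0 ↔ EtCore.Hpull c G q z = 0 := by
  rw [← EtDescSS.CompBCDesc.HpullVia_Hpull a b c w G q z, HpullFunctor.HpullVia_apply]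
  exact ⟨fun h => by rw [h, Abelian.Ext.zero_comp], fun h => (HpullComp.HF_map_bijective _).1
    (h.trans (Abelian.Ext.zero_comp _ _ _ _ _).symm)⟩

theorem Hpull_postcomp_eq_zero_iff {A B : Scheme.{u}} (a : A ⟶ B) {G G' : EtCoh.Ab B} (φ : G ≅ G')
    (q : ℕ) (z : EtCoh.H B G q) :
    EtCore.Hpull a G' q (z.comp (Abelian.Ext.mk₀ φ.hom) (add_zero q)) = 0 ↔ EtCore.Hpull a G q z = 0 := by
  rw [HpullSeq.Hpull_postcomp]
  exact ⟨fun h => (HpullComp.HF_map_bijective ((EtCoh.pull a).map φ.hom)).1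
    (h.trans (Abelian.Ext.zero_comp _ _ _ _ _).symm), fun h => by rw [h, Abelian.Ext.zero_comp]⟩

variable {X Y : Scheme.{u}} (f : X ⟶ Y) [QuasiCompact f] [QuasiSeparated f]

/-- **Vanishing over the strict localisations**: such classes come from the base. -/
theorem mem_range_Hpull_of_strict (F : EtCoh.Ab Y) (k : ℕ)
    (hu : IsIso ((EtCoh.pullPushAdj f).unit.app F))
    (hR : ∀ q : ℕ, 1 ≤ q → q ≤ k → IsZero ((EtCoh.Rpush f q).obj ((EtCoh.pull f).obj F)))
    (z : EtCoh.H X ((EtCoh.pull f).obj F) (k + 1))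
    (h : ∀ y : Y, ∃ (T : Scheme.{u}) (σ : T ⟶ Y) (_ : EtPres σ), (∃ t : T, σ t = y) ∧
      EtCore.Hpull (pullback.fst f σ) ((EtCoh.pull f).obj F) (k + 1) z = 0) :
    z ∈ Set.range (EtCore.Hpull f F (k + 1)) := by
  haveI := hu
  let z₀ : Abelian.Ext ((EtCoh.pull f).obj (EtCoh.const Y ℤ)) ((EtCoh.pull f).obj F) (k + 1) :=
    (Abelian.Ext.mk₀ (EtCore.pullConst f ℤ).hom).comp z (zero_add _)
  have hloc : ∀ y : Y, ∃ W : Y.Etale, (∃ w : W.left, W.hom w = y) ∧
      z₀.mapExactFunctor (EtCoh.pull (pullback.snd W.hom f)) = 0 := by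
    intro y
    obtain ⟨T, σ, P, ⟨t, ht⟩, hz⟩ := h y
    obtain ⟨i₀⟩ : Nonempty P.I := IsCofiltered.nonempty
    obtain ⟨i, a, hi⟩ := (limit_cohomology (c := P.bcCone f) (P.isLimitBcCone f) (k + 1)).2 i₀ _
      (EtCore.Hpull (P.bcp f i₀) ((EtCoh.pull f).obj F) (k + 1) z)
      ((Hpull_Hpull_eq_zero_iff _ _ (P.bcπ_bcp f i₀) _ _ z).2 hz)
    refine ⟨P.st i, ⟨P.π.app i t, ?_⟩, ?_⟩
    · exact (congrArg (fun m : T ⟶ Y => m t) (P.fac i)).trans ht
    have h0 : EtCore.Hpull (P.bcp f i) ((EtCoh.pull f).obj F) (k + 1) z = 0 :=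
      (Hpull_Hpull_eq_zero_iff _ _ (P.bcp_w f i i₀ a) _ _ z).1 hi
    show z₀.mapExactFunctor (EtCoh.pull (P.bcp f i)) = 0
    have h1 : z.mapExactFunctor (EtCoh.pull (P.bcp f i)) = 0 := by
      have := congrArg (fun t => (Abelian.Ext.mk₀ (EtCore.pullConst (P.bcp f i) ℤ).hom).comp t (zero_add _)) h0
      simpa [EtCore.Hpull] using this
    rw [Abelian.Ext.mapExactFunctor_comp, h1, Abelian.Ext.comp_zero]
  obtain ⟨e, he⟩ := mem_range_toExt f k (EtCoh.const Y ℤ) ((EtCoh.pull f).obj F) z₀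
    (fun q h1 h2 => hR q h1 h2) hloc
  obtain ⟨e', rfl⟩ := (HpullComp.HF_map_bijective ((EtCoh.pullPushAdj f).unit.app F)).2 e
  refine ⟨e', ?_⟩
  rw [Hpull_eq_toExt]
  refine (congrArg (fun t => (Abelian.Ext.mk₀ (EtCore.pullConst f ℤ).inv).comp t (zero_add (k + 1))) he).trans ?_
  simp [z₀]

end Groth.Agent.EtAcDepth
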