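import Groth.Agent.EtConsAb.Colim
import Groth.Agent.EtColim.TorsionPush
import Groth.Prelude.Def_EtDepth

/-!
# Sheaves killed by a prime power and `ℓ`-torsion sheaves

`ℓ`-torsion sheaves are filtered colimits of constructible sheaves killed by powers of `ℓ`.
-/

set_option linter.style.haveILetI false

universe u

open CategoryTheory CategoryTheory.Limits AlgebraicGeometry Opposite

noncomputable section

namespace Groth.Agent.EtAcDepth

open Groth.Agent Groth.Agent.EtaleSite Groth.Agent.EtConsAb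

variable {X : Scheme.{u}} {ℓ : ℕ}

/-- `F` is killed by a power of `ℓ`. -/
def Kills (ℓ : ℕ) (F : EtCoh.Ab X) : Prop := ∃ k : ℕ, (ℓ ^ k) • 𝟙 F = 0

theorem Kills.of_mono {F G : EtCoh.Ab X} (i : F ⟶ G) [Mono i] (h : Kills ℓ G) : Kills ℓ F := by
  obtain ⟨k, hk⟩ := h
  refine ⟨k, (cancel_mono i).1 ?_⟩
  rw [Preadditive.nsmul_comp, Category.id_comp, zero_comp, ← Category.comp_id i,
    ← Preadditive.comp_nsmul, hk, comp_zero]

theorem Kills.of_epi {F G : EtCoh.Ab X} (p : F ⟶ G) [Epi p] (h : Kills ℓ F) : Kills ℓ G := by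
  obtain ⟨k, hk⟩ := h
  refine ⟨k, (cancel_epi p).1 ?_⟩
  rw [Preadditive.comp_nsmul, Category.comp_id, comp_zero, ← Category.id_comp p,
    ← Preadditive.nsmul_comp, hk, zero_comp]

theorem Kills.map {Y : Scheme.{u}} {F : EtCoh.Ab X} (G : EtCoh.Ab X ⥤ EtCoh.Ab Y) [G.Additive]
    (h : Kills ℓ F) : Kills ℓ (G.obj F) := by
  obtain ⟨k, hk⟩ := h
  exact ⟨k, by rw [← G.map_id, ← G.map_nsmul, hk, G.map_zero]⟩

theorem kills_biproduct {ι : Type*} [Finite ι] (f : ι → EtCoh.Ab X) [HasBiproduct f]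
    (h : ∀ i, Kills ℓ (f i)) : Kills ℓ (⨁ f) := by
  classical
  cases nonempty_fintype ι
  choose k hk using h
  refine ⟨Finset.univ.sup k, biproduct.hom_ext' _ _ fun i => ?_⟩
  rw [comp_zero, Preadditive.comp_nsmul, Category.comp_id,
    ← Category.id_comp (biproduct.ι f i), ← Preadditive.nsmul_comp,
    ← Nat.sub_add_cancel (Finset.le_sup (f := k) (Finset.mem_univ i)), pow_add, ← smul_smul, hk,
    smul_zero, zero_comp]

theorem Kills.isLTorsion {F : EtCoh.Ab X} (h : Kills ℓ F) : EtDepth.IsLTorsion ℓ F := by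
  obtain ⟨k, hk⟩ := h
  exact fun U s x => ⟨U, 𝟙 U, ⟨x, rfl⟩, k, killedBy_of_nsmul hk U _⟩

theorem isLTorsion_acyc {F : EtCoh.Ab X} (hℓ : ℓ.Prime) (h : EtDepth.IsLTorsion ℓ F) :
    EtAcyc.IsLTorsion {ℓ} F := fun U s x => by
  obtain ⟨V, g, hv, k, hk⟩ := h U s x
  refine ⟨V, g, ℓ ^ k, hv, ⟨pow_pos hℓ.pos k, fun p hp hd => ?_⟩, hk⟩
  exact (Nat.prime_dvd_prime_iff_eq hp hℓ).1 (hp.dvd_of_dvd_pow hd)

theorem eq_pow_of_primesIn (hℓ : ℓ.Prime) {m : ℕ} (h : EtAcyc.PrimesIn {ℓ} m) : ∃ k, m = ℓ ^ k :=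
  ⟨m.factorization ℓ, Nat.eq_pow_of_factorization_eq_single h.1.ne' (Finsupp.ext fun p => by
    by_cases hp : p = ℓ
    · subst hp; simp
    · rw [Finsupp.single_eq_of_ne hp]
      by_cases hpp : p.Prime
      · exact Nat.factorization_eq_zero_of_not_dvd fun hd => hp (h.2 p hpp hd)
      · exact Nat.factorization_eq_zero_of_not_prime m hpp)⟩

theorem isLTorsion_depth {F : EtCoh.Ab X} (hℓ : ℓ.Prime) (h : EtAcyc.IsLTorsion {ℓ} F) :
    EtDepth.IsLTorsion ℓ F := fun U s x => by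
  obtain ⟨V, g, m, hv, hm, hz⟩ := h U s x
  obtain ⟨k, rfl⟩ := eq_pow_of_primesIn hℓ hm
  exact ⟨V, g, hv, k, hz⟩

theorem isTorsion_of_isLTorsion {F : EtCoh.Ab X} (hℓ : ℓ.Prime) (h : EtDepth.IsLTorsion ℓ F) :
    EtCoh.IsTorsion F := fun U s x => by
  obtain ⟨V, g, hv, k, hk⟩ := h U s x
  exact ⟨V, g, hv, isOfFinAddOrder_iff_nsmul_eq_zero.2 ⟨ℓ ^ k, pow_pos hℓ.pos k, hk⟩⟩

theorem exists_gen_germ_pow (hℓ : ℓ.Prime) {F : EtCoh.Ab X} (hF : EtDepth.IsLTorsion ℓ F) {Ω : Type u}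
    [Field Ω] [IsSepClosed Ω] (ξ : Spec (CommRingCat.of Ω) ⟶ X) (q : ↑((EtCoh.stalk ξ).obj F)) :
    ∃ (g : Gen F) (φ : (Scheme.pointSmallEtale ξ).fiber.obj g.U),
      (∃ k, g.n = ℓ ^ k) ∧ germ ξ F g.U φ g.s = q := by
  obtain ⟨U, φ, s, rfl⟩ := exists_germ_eq ξ F q
  obtain ⟨V, g, ⟨v, hv⟩, k, hk⟩ := hF U s (φ.left (default : Spec (CommRingCat.of Ω)))
  obtain ⟨ψ, hψ⟩ := exists_fiber_lift g φ v hv
  obtain ⟨W, hW, hvW, -⟩ := exists_isAffineOpen_mem_and_subset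
    (show ψ.left (default : Spec (CommRingCat.of Ω)) ∈ (⊤ : V.left.Opens) from trivial)
  haveI : Etale V.hom := V.prop
  obtain ⟨ψ', hψ'⟩ := exists_fiber_lift (pieceHom V W) ψ ⟨_, hvW⟩ rfl
  refine ⟨⟨piece V W, ℓ ^ k, pow_pos hℓ.pos k, hW, F.obj.map (pieceHom V W).op (F.obj.map g.op s),
    by rw [← map_nsmul, hk, map_zero]⟩, ψ', ⟨k, rfl⟩, ?_⟩
  show germ ξ F (piece V W) ψ' (F.obj.map (pieceHom V W).op (F.obj.map g.op s)) = _
  rw [germ_res, hψ', germ_res, hψ]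

/-- The stages all whose generators are killed by powers of `ℓ`. -/
def PowGen (ℓ : ℕ) {F : EtCoh.Ab X} (p : Stage F) : Prop := ∀ g ∈ p.1.1, ∃ k, g.n = ℓ ^ k

theorem kills_obj {F : EtCoh.Ab X} (p : Stage F) (hp : PowGen ℓ p) : Kills ℓ p.obj :=
  (kills_biproduct _ fun g => by
    obtain ⟨k, hk⟩ := hp g.1 g.2
    exact ⟨k, by rw [← hk]; exact nsmul_id_extZeroConst _ _⟩).of_epi (cokernel.π (Stage.relMap p))

instance directed_powGen {F : EtCoh.Ab X} : IsDirectedOrder {p : Stage F // PowGen ℓ p} := ⟨fun p q => by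
  classical
  refine ⟨⟨⟨(p.1.1.1 ∪ q.1.1.1, p.1.1.2 ∪ q.1.1.2), fun r hr => ?_⟩, fun g hg => ?_⟩,
    ⟨Finset.subset_union_left, Finset.subset_union_left⟩,
    ⟨Finset.subset_union_right, Finset.subset_union_right⟩⟩
  · rcases Finset.mem_union.1 hr with h | h
    · exact (p.1.2 r h).trans Finset.subset_union_left
    · exact (q.1.2 r h).trans Finset.subset_union_right
  · rcases Finset.mem_union.1 hg with h | h
    · exact p.2 g h
    · exact q.2 g h⟩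

instance nonempty_powGen {F : EtCoh.Ab X} : Nonempty {p : Stage F // PowGen ℓ p} :=
  ⟨⟨⟨(∅, ∅), fun r hr => absurd hr (Finset.notMem_empty r)⟩,
    fun g hg => absurd hg (Finset.notMem_empty g)⟩⟩

theorem nonempty_isColimit_powGen [CompactSpace X] [QuasiSeparatedSpace X] (hℓ : ℓ.Prime)
    {F : EtCoh.Ab X} (hF : EtDepth.IsLTorsion ℓ F) :
    Nonempty (IsColimit (Stage.cocone (F := F) (PowGen ℓ))) := by
  classical
  have hT : ∀ S : Finset (Gen F), EtCoh.IsTorsion (genSum S) := fun S =>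
    isTorsion_of_isConstructible (isConstructible_genSum S)
  refine nonempty_isColimit_of_stalk _ (fun Ω _ _ ξ q => ?_) fun Ω _ _ ξ p x hx => ?_
  · obtain ⟨g, φ, hg, rfl⟩ := exists_gen_germ_pow hℓ hF ξ q
    let p : Stage F := ⟨({g}, ∅), fun r hr => absurd hr (Finset.notMem_empty r)⟩
    have hp : PowGen ℓ p := fun g' hg' => by rw [Finset.mem_singleton.1 hg']; exact hg
    obtain ⟨y, hy⟩ := germ_mem_range_genπ p.1.1 ⟨g, Finset.mem_singleton_self g⟩ ξ φ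
    refine ⟨⟨p, hp⟩, (EtCoh.stalk ξ).map (cokernel.π (Stage.relMap p)) y, ?_⟩
    refine Eq.trans ?_ hy
    show (EtCoh.stalk ξ).map (Stage.π p) _ = _
    rw [← ConcreteCategory.comp_apply, ← Functor.map_comp, Stage.π, cokernel.π_desc]
  · obtain ⟨y, rfl⟩ := stalk_surjective_of_epi ξ (cokernel.π (Stage.relMap p.1)) x
    have hy : (EtCoh.stalk ξ).map (genπ p.1.1.1) y = 0 := by
      refine Eq.trans ?_ hx
      show _ = (EtCoh.stalk ξ).map (Stage.π p.1) _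
      rw [← ConcreteCategory.comp_apply, ← Functor.map_comp, Stage.π, cokernel.π_desc]
    obtain ⟨q, hpq, hq1, hq⟩ := Stage.exists_ge_kill hT p.1 ξ (fun _ : PUnit.{u + 2} => y) fun _ => hy
    refine ⟨⟨q, fun g hg => p.2 g (hq1 ▸ hg)⟩, homOfLE (show p ≤ ⟨q, _⟩ from hpq), ?_⟩
    show (EtCoh.stalk ξ).map (Stage.map hpq) _ = 0
    rw [← ConcreteCategory.comp_apply ((EtCoh.stalk ξ).map (cokernel.π (Stage.relMap p.1))), ← Functor.map_comp,
      Stage.π_map, Functor.map_comp, ConcreteCategory.comp_apply, hq ⟨⟩]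

end Groth.Agent.EtAcDepth
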