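import Groth.Agent.EtAcDepth.Setting
import Groth.Agent.EtAcDepth.CondPunct
import Groth.Agent.EtDepthLoc.Main
import Groth.Agent.S0540

/-!
# Depth of inverse images of torsion-injective direct images
-/

set_option autoImplicit false
set_option backward.isDefEq.respectTransparency false

universe u

open CategoryTheory CategoryTheory.Limits AlgebraicGeometry Opposite IsLocalRing TopologicalSpace

noncomputable section

namespace Groth.Agent.EtAcDepth

open Groth.Agent Groth.Agent.EtaleSite
open Groth.Agent.EtColim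

theorem isLTorsion_of_iso {X : Scheme.{u}} {ℓ : ℕ} {F G : EtCoh.Ab X} (e : F ≅ G)
    (h : EtDepth.IsLTorsion ℓ F) : EtDepth.IsLTorsion ℓ G := fun U s x => by
  obtain ⟨V, g, hv, k, hk⟩ := h U (e.inv.hom.app (op U) s) x
  refine ⟨V, g, hv, k, EtConsAb.injective_app_of_mono e.inv (op V) ?_⟩
  rw [map_nsmul, NatTrans.naturality_apply, hk, map_zero]

theorem depthGE_of_iso {X U : Scheme.{u}} (j : U ⟶ X) [EtCoh.BCCont j] {F G : EtCoh.Ab X} (e : F ≅ G)
    (n : ℕ) (h : EtDepth.DepthGE j F n) : EtDepth.DepthGE j G n :=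
  fun p hp => (h p hp).of_iso ((EtDual.locCoh j p).mapIso e.symm)

theorem bijective_Hpull_comp {X Y Z : Scheme.{u}} (g : X ⟶ Y) (h : Y ⟶ Z)
    [PreservesFiniteLimits (EtCoh.pull g)] [PreservesFiniteLimits (EtCoh.pull h)]
    [PreservesFiniteLimits (EtCoh.pull (g ≫ h))] (n : ℕ) (G : EtCoh.Ab Z) :
    Function.Bijective (EtCore.Hpull (g ≫ h) G n) ↔
      Function.Bijective (EtCore.Hpull g ((EtCoh.pull h).obj G) n ∘ EtCore.Hpull h G n) :=
  and_congr (HpullComp.Hpull_comp_injective_iff g h n G).1 (HpullComp.Hpull_comp_injective_iff g h n G).2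

theorem bijective_Hpull_congr {X Y : Scheme.{u}} {f f' : X ⟶ Y} (w : f = f')
    [PreservesFiniteLimits (EtCoh.pull f)] [PreservesFiniteLimits (EtCoh.pull f')] (n : ℕ) (G : EtCoh.Ab Y) :
    Function.Bijective (EtCore.Hpull f G n) ↔ Function.Bijective (EtCore.Hpull f' G n) :=
  and_congr (HpullComp.Hpull_congr w G n).1 (HpullComp.Hpull_congr w G n).2

/-- The acyclicity of a composite of a strict localisation. -/
theorem exists_strictLocal {A : Type u} [CommRing A] [IsLocalRing A] {S : Scheme.{u}}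
    (h : S ⟶ Spec (CommRingCat.of A)) {ℓ m : ℕ} (hA : Acyc h ℓ m) (w : S)
    (hw : h w = closedPoint A) (R : Type u) [CommRing R] [IsLocalRing R] [Algebra (S.presheaf.stalk w) R]
    [IsLocalHom (algebraMap (S.presheaf.stalk w) R)] [Hensel.IsStrictHenselization (S.presheaf.stalk w) R] :
    ∃ ψ : A →+* R, IsLocalHom ψ ∧ Spec.map (CommRingCat.ofHom ψ) = Hens2.specOf S w R ≫ h ∧
      Acyc (Spec.map (CommRingCat.ofHom ψ)) ℓ m := by
  let ψ : CommRingCat.of A ⟶ CommRingCat.of R := Spec.preimage (Hens2.specOf S w R ≫ h)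
  have e : Spec.map ψ = Hens2.specOf S w R ≫ h := Spec.map_preimage _
  have hloc : IsLocalHom ψ.hom := by
    have hc : Spec.map ψ (closedPoint R : Spec (CommRingCat.of R)) = closedPoint A := by
      rw [e, Scheme.Hom.comp_apply, specOf_closedPoint', hw]
    exact ((IsLocalRing.local_hom_TFAE ψ.hom).out 0 4).2 (congrArg PrimeSpectrum.asIdeal hc)
  refine ⟨ψ.hom, hloc, (congrArg Spec.map (CommRingCat.ofHom_hom ψ)).trans e, ?_⟩
  refine hA.of_square _ (g₁ := Hens2.specOf S w R) (g₂ := 𝟙 _) (shStable_specOf S w R)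
    (shStable_of_isOpenImmersion _) ?_
  rw [Category.comp_id]
  exact (congrArg Spec.map (CommRingCat.ofHom_hom ψ)).trans e

variable {A : Type u} [CommRing A] [HenselianLocalRing A] [IsSepClosed (ResidueField A)]
  {ℓ m : ℕ} (hℓ : ℓ.Prime)

/-- `T`: the torsion part of an injective sheaf on the punctured spectrum. -/
abbrev torsPart (ℓ : ℕ) (J : EtCoh.Ab (FEt.puncturedSpec A).toScheme) :
    EtCoh.Ab (FEt.puncturedSpec A).toScheme :=
  kernel (TorsionPush.toLoc ({ℓ} : Set ℕ) J)

include hℓ in
theorem Hpull_bijective_base [CompactSpace ↥(FEt.puncturedSpec A).toScheme]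
    [QuasiSeparatedSpace ↥(FEt.puncturedSpec A).toScheme] (J : EtCoh.Ab (FEt.puncturedSpec A).toScheme)
    [Injective J] (b : ℕ) :
    Function.Bijective (EtCore.Hpull (FEt.puncturedSpec A).ι
      ((EtCoh.push (FEt.puncturedSpec A).ι).obj (torsPart ℓ J)) b) := by
  let j := (FEt.puncturedSpec A).ι
  rcases b with _ | b
  · exact EtDepthLib.Hpull_zero_bijective_of_isIso j _ (EtDepthLib.isIso_unit_push j _)
  · haveI := EtaleSite.subsingleton_H A ((EtCoh.push j).obj (torsPart ℓ J)) (b + 1) (by omega)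
    haveI := EtaleSite.isIso_counit_pullPush j (torsPart ℓ J)
    let e : (EtCoh.pull j).obj ((EtCoh.push j).obj (torsPart ℓ J)) ≅ torsPart ℓ J :=
      asIso ((EtCoh.pullPushAdj j).counit.app (torsPart ℓ J))
    have hsub : Subsingleton (EtCoh.H _ ((EtCoh.pull j).obj ((EtCoh.push j).obj (torsPart ℓ J))) (b + 1)) :=
      @EtDescSS.CompBC.subsingleton_H_of_iso _ _ _ e.symm (b + 1)
        (EtDescSS.CompBC.subsingleton_H_kernel ({ℓ} : Set ℕ) J b)
    exact ⟨fun x y _ => Subsingleton.elim x y, fun y => ⟨0, @Subsingleton.elim _ hsub _ _⟩⟩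

include hℓ in
theorem depthGE_base [CompactSpace ↥(FEt.puncturedSpec A).toScheme]
    [QuasiSeparatedSpace ↥(FEt.puncturedSpec A).toScheme] (J : EtCoh.Ab (FEt.puncturedSpec A).toScheme)
    [Injective J] (n : ℕ) :
    EtDepth.DepthGE (FEt.puncturedSpec A).ι
      ((EtCoh.push (FEt.puncturedSpec A).ι).obj (torsPart ℓ J)) n :=
  depthGE_of_cond A n _ ⟨fun b _ => Hpull_bijective_base hℓ J b, fun b _ => (Hpull_bijective_base hℓ J b).1⟩

variable {R₀ : Type u} [CommRing R₀] [IsLocalRing R₀] [IsNoetherianRing R₀]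

include hℓ in
/-- Depth of the inverse image of `j_* T` at the points over the closed point. -/
theorem depthAtGE_pull_tors [CompactSpace ↥(FEt.puncturedSpec A).toScheme]
    [QuasiSeparatedSpace ↥(FEt.puncturedSpec A).toScheme]
    (h : Spec (CommRingCat.of R₀) ⟶ Spec (CommRingCat.of A)) (hA : Acyc h ℓ m)
    (J : EtCoh.Ab (FEt.puncturedSpec A).toScheme) [Injective J] :
    ∀ (N : ℕ) (w : Spec (CommRingCat.of R₀)), w.asIdeal.height < N → h w = closedPoint A →
      EtDepth.DepthAtGE (Spec (CommRingCat.of R₀))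
        ((EtCoh.pull h).obj ((EtCoh.push (FEt.puncturedSpec A).ι).obj (torsPart ℓ J))) w (m + 2) := by
  intro N
  induction N with
  | zero => intro w hN; exact absurd hN (by simp)
  | succ N ih =>
  intro w hN hw R _ _ _ _ hR
  haveI := hR.henselian
  haveI := hR.isSepClosure.sep_closed
  haveI : IsNoetherianRing R := by
    haveI : IsNoetherianRing ((Spec (CommRingCat.of R₀)).presheaf.stalk w) := by
      letI : Algebra R₀ ((Spec (CommRingCat.of R₀)).presheaf.stalk w) := StructureSheaf.stalkAlgebra (R := R₀) w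
      haveI : IsLocalization.AtPrime ((Spec (CommRingCat.of R₀)).presheaf.stalk w) w.asIdeal :=
        StructureSheaf.IsLocalization.to_stalk (R := R₀) w
      exact IsLocalization.isNoetherianRing w.asIdeal.primeCompl _ (inferInstanceAs (IsNoetherianRing R₀))
    exact (Groth.Agent.S0540.result ((Spec (CommRingCat.of R₀)).presheaf.stalk w) R).1 inferInstance
  obtain ⟨ψ, hψloc, eψ, hAψ⟩ := exists_strictLocal h hA w hw R
  let σ := Hens2.specOf (Spec (CommRingCat.of R₀)) w R
  let hR' := Spec.map (CommRingCat.ofHom ψ)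
  let j := (FEt.puncturedSpec A).ι
  let T := torsPart ℓ J
  let I := (EtCoh.push j).obj T
  let G := (EtCoh.pull hR').obj I
  let eG : G ≅ (EtCoh.pull σ).obj ((EtCoh.pull h).obj I) :=
    (EtConsAb.pullCongr eψ).app I ≪≫ ((EtConsAb.pullComp h σ).app I).symm
  refine depthGE_of_iso _ eG _ (depthGE_of_cond R (m + 2) G ?_)
  -- the open over the punctured base
  let UR : (Spec (CommRingCat.of R)).Opens := hR' ⁻¹ᵁ FEt.puncturedSpec A
  let W := FEt.puncturedSpec R
  let k := W.ι
  have hle : UR ≤ W := by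
    intro p hp hpc
    refine hp ?_
    rw [Set.mem_singleton_iff] at hpc ⊢
    rw [hpc]
    exact map_closedPoint ψ
  let i : UR.toScheme ⟶ W.toScheme := (Spec (CommRingCat.of R)).homOfLE hle
  have hik : i ≫ k = UR.ι := Scheme.homOfLE_ι _ hle
  have hbij : ∀ b : ℕ, b ≤ m → Function.Bijective (EtCore.Hpull UR.ι G b) := by
    intro b hb
    have h1 : Function.Bijective (EtCore.Hpull (hR' ∣_ FEt.puncturedSpec A) ((EtCoh.pull j).obj I) b ∘
        EtCore.Hpull j I b) := by
      refine Function.Bijective.comp ?_ (Hpull_bijective_base hℓ J b)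
      haveI := EtaleSite.isIso_counit_pullPush j T
      exact Hpull_bijective_restrict ψ hAψ hℓ _ b hb _ (isLTorsion_of_iso
        (asIso ((EtCoh.pullPushAdj j).counit.app T)).symm
        (isLTorsion_depth hℓ (TorsionPush.isLTorsion_kernel _ J)))
    have h2 := (bijective_Hpull_comp _ _ b I).2 h1
    have h3 := (bijective_Hpull_comp UR.ι hR' b I).1
      ((bijective_Hpull_congr (morphismRestrict_ι hR' (FEt.puncturedSpec A)) b I).1 h2)
    have h4 : Function.Bijective (EtCore.Hpull hR' I b) := by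
      rcases b with _ | b
      · exact Hpull_zero_bijective_local R hR' (map_closedPoint ψ) I
      · haveI := EtaleSite.subsingleton_H A I (b + 1) (by omega)
        haveI := EtaleSite.subsingleton_H R G (b + 1) (by omega)
        exact ⟨fun x y _ => Subsingleton.elim x y, fun y => ⟨0, Subsingleton.elim _ _⟩⟩
    exact (Function.Bijective.of_comp_iff _ h4).1 h3
  -- depth along the complement of the open in the punctured spectrum
  haveI : IsLocallyNoetherian W.toScheme := isLocallyNoetherian_of_isOpenImmersion k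
  haveI : IsLocallyNoetherian UR.toScheme := isLocallyNoetherian_of_isOpenImmersion UR.ι
  haveI : CompactSpace ↥UR.toScheme :=
    isCompact_iff_compactSpace.1 ((show NoetherianSpace (Spec (CommRingCat.of R)) from
      inferInstanceAs (NoetherianSpace (PrimeSpectrum R))).isCompact _)
  haveI : QuasiCompact i := QuasiCompact.of_comp i (terminal.from W.toScheme)
  have hi : EtDepth.DepthGE i ((EtCoh.pull k).obj G) (m + 2) := by
    refine EtDepthLoc.depthGE_of_depthAt i (m + 2) _ fun y hy R' _ _ _ _ _ => ?_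
    have hns : SHStable (k ≫ σ) := (shStable_of_isOpenImmersion k).comp (shStable_specOf _ w R)
    have hyUR : k y ∉ UR := by
      intro hmem
      refine hy ?_
      have hr : Set.range UR.ι.base = (UR : Set (Spec (CommRingCat.of R))) := UR.range_ι
      obtain ⟨t, ht⟩ : k y ∈ Set.range UR.ι.base := hr ▸ hmem
      refine ⟨t, k.isOpenEmbedding.injective ?_⟩
      rw [← ht, ← hik]
      exact (Scheme.Hom.comp_apply _ _ _).symm
    have hw' : h ((k ≫ σ) y) = closedPoint A := by
      have hc : hR' (k y) = closedPoint A := by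
        by_contra hne
        exact hyUR hne
      rw [← hc]
      show h ((k ≫ σ) y) = Spec.map (CommRingCat.ofHom ψ) (k y)
      rw [eψ]
      exact (congrArg h (Scheme.Hom.comp_apply k σ y)).trans (Scheme.Hom.comp_apply σ h (k y)).symm
    have hne : (k ≫ σ) y ≠ w := by
      intro heq
      have hc : k y = closedPoint R := EtDepthLoc.eq_closedPoint w R (k y) ((Scheme.Hom.comp_apply _ _ _).symm.trans heq)
      have hmem : k y ∈ W := y.2
      exact hmem hc
    have hlt : ((k ≫ σ) y).asIdeal < w.asIdeal := by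
      have hsp : (k ≫ σ) y ⤳ w := by
        rw [Scheme.Hom.comp_apply, ← specOf_closedPoint' (Spec (CommRingCat.of R₀)) w R]
        exact (IsLocalRing.specializes_closedPoint _).map σ.continuous
      exact lt_of_le_of_ne ((PrimeSpectrum.le_iff_specializes _ _).2 hsp)
        fun e => hne (PrimeSpectrum.ext e)
    have hN' : ((k ≫ σ) y).asIdeal.height < N := by
      have h1 := Ideal.height_strict_mono_of_isPrime hlt
      have h2 : w.asIdeal.height ≤ N := by
        rw [Nat.cast_succ] at hN
        exact (ENat.lt_add_one_iff (ENat.coe_ne_top N)).1 hN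
      exact lt_of_lt_of_le h1 h2
    obtain ⟨algS, locS, hS, eS⟩ := exists_alg hns y R' _ rfl
    refine depthGE_of_iso _ ?_ _ (ih ((k ≫ σ) y) hN' hw' R')
    exact (EtConsAb.pullCongr eS).app _ ≪≫ ((EtConsAb.pullComp (k ≫ σ) (Hens2.specOf _ y R')).app _).symm ≪≫
      (EtCoh.pull (Hens2.specOf _ y R')).mapIso
        (((EtConsAb.pullComp σ k).app _).symm ≪≫ (EtCoh.pull k).mapIso eG.symm)
  have hc := EtDepthLib.cond_of_depthGE i (m + 2) _ hi
  refine ⟨fun b hb => ?_, fun b hb => ?_⟩
  · have hb' : b ≤ m := by omega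
    have h3 := (bijective_Hpull_comp i k b G).1 ((bijective_Hpull_congr hik b G).2 (hbij b hb'))
    exact (Function.Bijective.of_comp_iff' (hc.1 b hb) _).1 h3
  · haveI := EtaleSite.subsingleton_H R G b (by omega)
    exact fun x y _ => Subsingleton.elim x y

end Groth.Agent.EtAcDepth
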